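import Cfsg.Agent.U42.Hyp
import Cfsg.Agent.SG2.SY0

/-!
# Standard subgroups of type `U₄(2)`: pure elements
-/

set_option autoImplicit false
set_option linter.unusedSectionVars false

namespace Cfsg.Lib.U42

open Subgroup Cfsg.Lib.Trans Cfsg.Lib.Gold
open scoped commutatorElement

section Mp

variable {G E : Type*} [Group G] [Field E] {x y z w : ZMod 8 → E → G} {p q : G}
  {σ τ σ₁ σ₂ τ₁ τ₂ : E ≃+* E}

/-- `p` maps the system `y` to the system `z` through `σ`. -/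
def Mp (y z : ZMod 8 → E → G) (p : G) (σ : E ≃+* E) : Prop :=
  ∀ i s, p * y i s * p⁻¹ = z i (σ s)

theorem Mp.one : Mp y y 1 1 := fun _ _ => by simp

theorem Mp.mul (h : Mp z w p σ) (h' : Mp y z q τ) : Mp y w (p * q) (σ * τ) := fun i s => by
  rw [show p * q * y i s * (p * q)⁻¹ = p * (q * y i s * q⁻¹) * p⁻¹ by group, h', h]; rfl

theorem Mp.inv (h : Mp y z p σ) : Mp z y p⁻¹ σ⁻¹ := fun i s => by
  have : z i s = z i (σ (σ⁻¹ s)) := congrArg _ (σ.apply_symm_apply s).symm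
  rw [this, ← h]; group

theorem Mp.pow (h : Mp y y p σ) (n : ℕ) : Mp y y (p ^ n) (σ ^ n) := by
  induction n with
  | zero => rw [pow_zero, pow_zero]; exact Mp.one
  | succ n ih => rw [pow_succ, pow_succ]; exact ih.mul h

theorem Mp.uniq {ρ : E ≃+* E} (hz : U4S ρ z) (hi : Inj z ρ) (h : Mp y z p σ) (h' : Mp y z p τ) :
    σ = τ :=
  RingEquiv.ext fun s => hz.x0_inj hi ((h 0 s).symm.trans (h' 0 s))

theorem Mp.cj_rt (h : Mp y z p σ) (i : ZMod 8) : cj p (rt y i) = rt z i := by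
  rw [← rt_cx, rt, rt]
  congr 1
  ext g
  exact ⟨fun ⟨s, e⟩ => ⟨σ s, (h i s).symm.trans e⟩,
    fun ⟨s, e⟩ => ⟨σ.symm s, (h i _).trans (by rwa [RingEquiv.apply_symm_apply])⟩⟩

theorem Mp.cj_LL (h : Mp y z p σ) : cj p (LL y) = LL z := by
  rw [← LL_cx, LL, LL]
  congr 1
  ext g
  exact ⟨fun ⟨i, s, e⟩ => ⟨i, σ s, e.trans (h i s)⟩,
    fun ⟨i, s, e⟩ => ⟨i, σ.symm s, e.trans (by
      rw [cx, h, RingEquiv.apply_symm_apply])⟩⟩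

theorem Mp.cj_UU (h : Mp y z p σ) : cj p (UU y) = UU z := by
  simp only [UU, VV, NN, cj_sup, h.cj_rt]

theorem Mp.cj_VV (h : Mp y z p σ) : cj p (VV y) = VV z := by
  simp only [VV, NN, cj_sup, h.cj_rt]

theorem Mp.cj_QQ (h : Mp y z p σ) : cj p (QQ y) = QQ z := by
  simp only [QQ, NN, cj_sup, h.cj_rt]

theorem Mp.cj_PA (h : Mp y z p σ) : cj p (PA y) = PA z := by
  simp only [PA, QQ, NN, SL, cj_sup, h.cj_rt]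

theorem Mp.cj_PB (h : Mp y z p σ) : cj p (PB y) = PB z := by
  simp only [PB, VV, NN, SL, cj_sup, h.cj_rt]

theorem Mp.mem_Cs (h : Mp y y p 1) : p ∈ Cs (LL y) :=
  le_Cs_comm.1 (LL_le.2 fun i s => Gold.mem_Cs.2 fun u hu => by
    obtain ⟨n, rfl⟩ := hu
    exact (Commute.zpow_left (mul_inv_eq_iff_eq_mul.1 (h i s)) n).eq) (mem_zpowers p)

theorem Mp.of_Cs (h : p ∈ Cs (LL y)) : Mp y y p 1 := fun i s => by
  rw [← Gold.mem_Cs.1 h _ (x_mem_LL i s), mul_inv_cancel_right]; rfl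

theorem UU_le {K : Type*} [CommRing K] {x : ZMod 8 → K → G} {H : Subgroup G} :
    UU x ≤ H ↔ ∀ i : ZMod 8, i.val ≤ 3 → ∀ s, x i s ∈ H := by
  simp only [UU, VV, NN, sup_le_iff, rt_le]
  refine ⟨fun ⟨h0, h3, h2, h1⟩ i hi => ?_, fun h =>
    ⟨h 0 (by decide), h 3 (by decide), h 2 (by decide), h 1 (by decide)⟩⟩
  have : ∀ i : ZMod 8, i.val ≤ 3 → i = 0 ∨ i = 1 ∨ i = 2 ∨ i = 3 := by decide
  rcases this i hi with rfl | rfl | rfl | rfl <;> assumption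

theorem x_mem_UU {K : Type*} [CommRing K] {x : ZMod 8 → K → G} {i : ZMod 8} (hi : i.val ≤ 3)
    (s : K) : x i s ∈ UU x := UU_le.1 le_rfl i hi s

theorem Nsw.one : Nsw y z 1 1 1 := ⟨Mp.one, Mp.one⟩

theorem Nsw.mul (h : Nsw y z p σ₁ σ₂) (h' : Nsw y z q τ₁ τ₂) :
    Nsw y z (p * q) (σ₁ * τ₁) (σ₂ * τ₂) := ⟨Mp.mul h.1 h'.1, Mp.mul h.2 h'.2⟩

theorem Nsw.mul_swp (h : Nsw y z p σ₁ σ₂) (h' : Swp y z q τ₁ τ₂) :
    Swp y z (p * q) (σ₂ * τ₁) (σ₁ * τ₂) := ⟨Mp.mul h.2 h'.1, Mp.mul h.1 h'.2⟩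

theorem Swp.mul_nsw (h : Swp y z p σ₁ σ₂) (h' : Nsw y z q τ₁ τ₂) :
    Swp y z (p * q) (σ₁ * τ₁) (σ₂ * τ₂) := ⟨Mp.mul h.1 h'.1, Mp.mul h.2 h'.2⟩

theorem Swp.mul (h : Swp y z p σ₁ σ₂) (h' : Swp y z q τ₁ τ₂) :
    Nsw y z (p * q) (σ₂ * τ₁) (σ₁ * τ₂) := ⟨Mp.mul h.2 h'.1, Mp.mul h.1 h'.2⟩

theorem Nsw.inv (h : Nsw y z p σ₁ σ₂) : Nsw y z p⁻¹ σ₁⁻¹ σ₂⁻¹ := ⟨Mp.inv h.1, Mp.inv h.2⟩

theorem Swp.inv (h : Swp y z p σ₁ σ₂) : Swp y z p⁻¹ σ₂⁻¹ σ₁⁻¹ := ⟨Mp.inv h.2, Mp.inv h.1⟩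

theorem Nsw.pow (h : Nsw y z p σ₁ σ₂) (n : ℕ) : Nsw y z (p ^ n) (σ₁ ^ n) (σ₂ ^ n) :=
  ⟨Mp.pow h.1 n, Mp.pow h.2 n⟩

theorem Nsw.mem_Ns (h : Nsw y z p σ₁ σ₂) : p ∈ Ns (LL y) := mem_Ns_iff.2 (Mp.cj_LL h.1)

theorem Nsw.mem_Ns' (h : Nsw y z p σ₁ σ₂) : p ∈ Ns (LL z) := mem_Ns_iff.2 (Mp.cj_LL h.2)

theorem Nsw.mem_M (h : Nsw y z p σ₁ σ₂) : p ∈ Ns (LL y ⊔ LL z) := mem_Ns_sup h.mem_Ns h.mem_Ns'

theorem Swp.mem_M (h : Swp y z p σ₁ σ₂) : p ∈ Ns (LL y ⊔ LL z) :=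
  mem_Ns_iff.2 (by rw [cj_sup, Mp.cj_LL h.1, Mp.cj_LL h.2, sup_comm])

theorem Nsw.mem_NU (h : Nsw y z p σ₁ σ₂) : p ∈ Ns (UU y ⊔ UU z) :=
  mem_Ns_iff.2 (by rw [cj_sup, Mp.cj_UU h.1, Mp.cj_UU h.2])

theorem Swp.mem_NU (h : Swp y z p σ₁ σ₂) : p ∈ Ns (UU y ⊔ UU z) :=
  mem_Ns_iff.2 (by rw [cj_sup, Mp.cj_UU h.1, Mp.cj_UU h.2, sup_comm])

/-- The pure elements. -/
def Pure (y z : ZMod 8 → E → G) : Subgroup G where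
  carrier := {p | (∃ σ₁ σ₂, Nsw y z p σ₁ σ₂) ∨ ∃ σ₁ σ₂, Swp y z p σ₁ σ₂}
  one_mem' := .inl ⟨1, 1, Nsw.one⟩
  mul_mem' := by
    rintro p q (⟨_, _, h⟩ | ⟨_, _, h⟩) (⟨_, _, h'⟩ | ⟨_, _, h'⟩)
    exacts [.inl ⟨_, _, h.mul h'⟩, .inr ⟨_, _, h.mul_swp h'⟩, .inr ⟨_, _, h.mul_nsw h'⟩,
      .inl ⟨_, _, h.mul h'⟩]
  inv_mem' := by
    rintro p (⟨_, _, h⟩ | ⟨_, _, h⟩)
    exacts [.inl ⟨_, _, h.inv⟩, .inr ⟨_, _, h.inv⟩]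

theorem Pure_le_M : Pure y z ≤ Ns (LL y ⊔ LL z) := by
  rintro p (⟨_, _, h⟩ | ⟨_, _, h⟩)
  exacts [h.mem_M, h.mem_M]

theorem Pure_le_NU : Pure y z ≤ Ns (UU y ⊔ UU z) := by
  rintro p (⟨_, _, h⟩ | ⟨_, _, h⟩)
  exacts [h.mem_NU, h.mem_NU]

theorem UU2_le : UU y ⊔ UU z ≤ LL y ⊔ LL z := sup_le_sup UU_le_LL UU_le_LL

/-- The pure elements preserving both factors and inducing field automorphisms of odd order. -/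
def OdP (y z : ZMod 8 → E → G) : Set G :=
  {p | ∃ σ₁ σ₂, Nsw y z p σ₁ σ₂ ∧ Odd (orderOf σ₁) ∧ Odd (orderOf σ₂)}

/-- The kernel of `N(G₀) → P`. -/
def KP (y z : ZMod 8 → E → G) : Subgroup G := (LL y ⊔ LL z) ⊔ closure (OdP y z)

/-- The twisted diagonal system. -/
def dg (y z : ZMod 8 → E → G) (τ : E ≃+* E) : ZMod 8 → E → G := fun i s => y i s * z i (τ s)

theorem Mp_eq_1' : type_of% @Mp.eq_1 := @Mp.eq_1
theorem Pure_eq_1' : type_of% @Pure.eq_1 := @Pure.eq_1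
theorem OdP_eq_1' : type_of% @OdP.eq_1 := @OdP.eq_1
theorem KP_eq_1' : type_of% @KP.eq_1 := @KP.eq_1
theorem dg_eq_1' : type_of% @dg.eq_1 := @dg.eq_1

variable {t : G} {P : Subgroup G}

theorem PC.le_pure (h : PC t y z P) : P ≤ Pure y z := h.pure

theorem PC.le_NU (h : PC t y z P) : P ≤ Ns (UU y ⊔ UU z) := h.le_pure.trans Pure_le_NU

theorem PC.le_M (h : PC t y z P) : (UU y ⊔ UU z) ⊔ P ≤ Ns (LL y ⊔ LL z) :=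
  sup_le (UU2_le.trans le_normalizer) (h.le_pure.trans Pure_le_M)

theorem PC.nsw_ext (h : PC t y z P) (hp : p ∈ P) (hq : q ∈ P) (h1 : Nsw y z p σ₁ σ₂)
    (h2 : Nsw y z q σ₁ σ₂) : p = q := by
  have := h1.mul h2.inv
  rw [mul_inv_cancel, mul_inv_cancel] at this
  exact mul_inv_eq_one.1 (h.inj _ (mul_mem hp (inv_mem hq)) this)

theorem PC.swp_ext (h : PC t y z P) (hp : p ∈ P) (hq : q ∈ P) (h1 : Swp y z p σ₁ σ₂)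
    (h2 : Swp y z q σ₁ σ₂) : p = q := by
  have := h1.mul h2.inv
  rw [mul_inv_cancel, mul_inv_cancel] at this
  exact mul_inv_eq_one.1 (h.inj _ (mul_mem hp (inv_mem hq)) this)

end Mp

end Cfsg.Lib.U42
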