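import Cfsg.Agent.U42.Fld
import Cfsg.Agent.Char.SylEACls
import Cfsg.Agent.Class.HermSimple
import Cfsg.Agent.S0280

/-!
# The matrix model of the systems of type `²A₃`
-/

set_option autoImplicit false
set_option linter.unusedSectionVars false

namespace Cfsg.Lib.U42

open Subgroup Cfsg.Lib.Trans Cfsg.Lib.Gold Cfsg.Lib.Chev Cfsg.Lib.Class
open scoped commutatorElement MatrixGroups

section St

variable {E Γ : Type*} [Field E] [Group Γ] {σ : E ≃+* E} {e : Fin 4 → Fin 4 → E → Γ}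

theorem ra_ne_rb (i : ZMod 8) : ra i ≠ rb i := by revert i; decide

theorem xe_ev {i : ZMod 8} (hi : Ev i) (s : E) :
    xe σ e i s = e (ra i) (rb i) s * e (rb i).rev (ra i).rev (σ s) := if_pos hi

theorem xe_od {i : ZMod 8} (hi : ¬ Ev i) {s : E} (hs : σ s = s) :
    xe σ e i s = e (ra i) (rb i) s := (if_neg hi).trans (if_pos hs)

theorem xe_junk {i : ZMod 8} (hi : ¬ Ev i) {s : E} (hs : σ s ≠ s) : xe σ e i s = 1 :=
  (if_neg hi).trans (if_neg hs)

/-- The permutation of the coordinates inducing the rotation by `j`. -/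
def rp (j : ZMod 8) : Fin 4 → Fin 4 :=
  ([![0, 1, 2, 3], ![1, 3, 0, 2], ![3, 2, 1, 0], ![2, 0, 3, 1]] : List (Fin 4 → Fin 4)).getD
    (j.val / 2) id

theorem rp_eq_1' : type_of% @rp.eq_1 := @rp.eq_1

theorem rp_inj (j : ZMod 8) : Function.Injective (rp j) := by revert j; decide

theorem rp_rev (j : ZMod 8) (a : Fin 4) : rp j a.rev = (rp j a).rev := by revert j a; decide

theorem ra_add {j : ZMod 8} (hj : Ev j) (i : ZMod 8) : ra (i + j) = rp j (ra i) := by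
  revert i j; decide

theorem rb_add {j : ZMod 8} (hj : Ev j) (i : ZMod 8) : rb (i + j) = rp j (rb i) := by
  revert i j; decide

theorem xe_rot {j : ZMod 8} (hj : Ev j) (i : ZMod 8) (s : E) :
    xe σ e (i + j) s = xe σ (fun a b => e (rp j a) (rp j b)) i s := by
  simp only [xe, ev_add hj, ra_add hj, rb_add hj, rp_rev]

theorem xe_0 (s : E) : xe σ e 0 s = e 0 1 s * e 2 3 (σ s) := xe_ev (by decide) s
theorem xe_2 (s : E) : xe σ e 2 s = e 1 3 s * e 0 2 (σ s) := xe_ev (by decide) s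
theorem xe_4 (s : E) : xe σ e 4 s = e 3 2 s * e 1 0 (σ s) := xe_ev (by decide) s
theorem xe_6 (s : E) : xe σ e 6 s = e 2 0 s * e 3 1 (σ s) := xe_ev (by decide) s
theorem xe_1 {s : E} (hs : σ s = s) : xe σ e 1 s = e 0 3 s := xe_od (by decide) hs
theorem xe_3 {s : E} (hs : σ s = s) : xe σ e 3 s = e 1 2 s := xe_od (by decide) hs
theorem xe_5 {s : E} (hs : σ s = s) : xe σ e 5 s = e 3 0 s := xe_od (by decide) hs
theorem xe_7 {s : E} (hs : σ s = s) : xe σ e 7 s = e 2 1 s := xe_od (by decide) hs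

theorem xe_comm (he : StA e) {i : ZMod 8} (hi : ¬ Ev i) {g : Γ} (s : E)
    (h : ∀ s, Commute g (e (ra i) (rb i) s)) : Commute g (xe σ e i s) := by
  by_cases hs : σ s = s
  · rw [xe_od hi hs]; exact h s
  · rw [xe_junk hi hs]; exact Commute.one_right _

theorem conj_mul2 (g a b : Γ) : g * (a * b) * g⁻¹ = (g * a * g⁻¹) * (g * b * g⁻¹) := by group

theorem mul_conj2 (g a b : Γ) : g * a * b * (g * a)⁻¹ = g * (a * b * a⁻¹) * g⁻¹ := by group

theorem conj_of_comm {a b : Γ} (h : Commute a b) : a * b * a⁻¹ = b := by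
  rw [h.eq, mul_inv_cancel_right]

theorem u4s_xe' (h2 : (2 : E) = 0) (hσ : ∀ s, σ (σ s) = s) (he : StA e) : U4S σ (xe σ e) := by
  have hn : ∀ t : E, -t = t := fun t => by linear_combination (-t) * h2
  have od : ∀ i : ZMod 8, ¬ Ev i → ∃ j, Ev j ∧ i = 1 + j := by decide
  have cm : ∀ {e : Fin 4 → Fin 4 → E → Γ}, StA e → ∀ a b c d : Fin 4,
      a ≠ b ∧ c ≠ d ∧ b ≠ c ∧ a ≠ d → ∀ t u, Commute (e a b t) (e c d u) :=
    fun he a b c d h => he.commute a b c d h.1 h.2.1 h.2.2.1 h.2.2.2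
  have cl : ∀ {e : Fin 4 → Fin 4 → E → Γ}, StA e → ∀ a b c : Fin 4, a ≠ b ∧ b ≠ c ∧ a ≠ c →
      ∀ t u, e a b t * e b c u * (e a b t)⁻¹ = e a c (t * u) * e b c u :=
    fun he a b c h => he.conj_left h.1 h.2.1 h.2.2
  have cr : ∀ {e : Fin 4 → Fin 4 → E → Γ}, StA e → ∀ a b c : Fin 4, a ≠ b ∧ b ≠ c ∧ a ≠ c →
      ∀ t u, e b c u * e a b t * (e b c u)⁻¹ = e a c (u * t) * e a b t :=
    fun he a b c h t u => by rw [he.conj_right h.1 h.2.1 h.2.2, hn, mul_comm t]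
  refine ⟨h2, hσ, fun i hi s hs => xe_junk hi hs, fun i hi s u => ?_, fun i hi s u hs hu => ?_,
    fun i s u => ?_, fun i hi s u => ?_, fun i hi s u => ?_, fun i hi s u hu => ?_,
    fun i hi s u hu => ?_⟩
  · rw [← zero_add i, xe_rot hi, xe_rot hi, xe_rot hi, xe_0, xe_0, xe_0]
    have he := he.comp (rp_inj i)
    rw [(cm he 2 3 0 1 (by decide) _ _).mul_mul_mul_comm, he.add 0 1 (by decide),
      he.add 2 3 (by decide), map_add]
  · rw [xe_od hi hs, xe_od hi hu, xe_od hi (fx_add hs hu), he.add _ _ (ra_ne_rb i)]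
  · by_cases hi : Ev i
    · rw [add_comm i, ← zero_add i, xe_rot hi, zero_add, xe_rot hi, xe_0]
      have he := he.comp (rp_inj i)
      exact xe_comm he (by decide) _ fun u =>
        (cm he 0 1 0 3 (by decide) _ _).mul_left (cm he 2 3 0 3 (by decide) _ _)
    · obtain ⟨j, hj, rfl⟩ := od i hi
      rw [add_right_comm, xe_rot hj, xe_rot hj, show (1 + 1 : ZMod 8) = 2 from rfl, xe_2]
      have he := he.comp (rp_inj j)
      exact (xe_comm he (by decide) _ fun u =>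
        (cm he 1 3 0 3 (by decide) _ _).mul_left (cm he 0 2 0 3 (by decide) _ _)).symm
  · obtain ⟨j, hj, rfl⟩ := od i hi
    rw [add_right_comm, xe_rot hj, xe_rot hj]
    have he := he.comp (rp_inj j)
    exact xe_comm he (by decide) _ fun u =>
      (xe_comm he (by decide) _ fun s => cm he 1 2 0 3 (by decide) _ _).symm
  · rw [add_comm i, add_comm i, ← zero_add i, xe_rot hi, zero_add, xe_rot hi, xe_rot hi]
    have he := he.comp (rp_inj i)
    generalize (fun a b => e (rp i a) (rp i b)) = e at he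
    rw [xe_0, xe_2, xe_1 (by rw [map_add, map_mul, map_mul, hσ, hσ, add_comm]),
      mul_conj2, conj_mul2 (e 2 3 _), conj_of_comm (cm he 2 3 1 3 (by decide) _ _),
      cr he 0 2 3 (by decide), conj_mul2, conj_mul2, cl he 0 1 3 (by decide),
      conj_of_comm (cm he 0 1 0 3 (by decide) _ _), conj_of_comm (cm he 0 1 0 2 (by decide) _ _),
      (cm he 0 3 1 3 (by decide) _ _).eq, mul_assoc, ← mul_assoc (e 0 3 _),
      he.add 0 3 (by decide), (cm he 0 3 0 2 (by decide) _ _).eq, mul_assoc]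
  · rw [add_comm i, add_comm i, add_comm i, ← zero_add i, xe_rot hi, zero_add, xe_rot hi,
      xe_rot hi, xe_rot hi]
    have he := he.comp (rp_inj i)
    generalize (fun a b => e (rp i a) (rp i b)) = e at he
    rw [xe_0, xe_3 hu, xe_2, xe_1 (by rw [map_mul, map_mul, hσ, hu, mul_comm s]),
      mul_conj2, cr he 1 2 3 (by decide), conj_mul2, cl he 0 1 3 (by decide),
      cl he 0 1 2 (by decide), map_mul, hσ, hu,
      mul_assoc s, (cm he 0 2 1 2 (by decide) _ _).eq, mul_assoc, ← mul_assoc (e 1 3 _),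
      (cm he 1 3 1 2 (by decide) _ _).eq]
    exact ((cm he 0 3 1 2 (by decide) _ _).mul_right (cm he 0 3 1 3 (by decide) _ _)
      |>.mul_right (cm he 0 3 0 2 (by decide) _ _)).eq.trans (by simp only [mul_assoc])
  · rw [sub_eq_neg_add, sub_eq_neg_add, sub_eq_neg_add, ← zero_add i, xe_rot hi, zero_add, xe_rot hi,
      xe_rot hi, xe_rot hi, show (-3 : ZMod 8) = 5 from rfl, show (-2 : ZMod 8) = 6 from rfl,
      show (-1 : ZMod 8) = 7 from rfl]
    have he := he.comp (rp_inj i)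
    generalize (fun a b => e (rp i a) (rp i b)) = e at he
    rw [xe_0, xe_5 hu, xe_6, xe_7 (by rw [map_mul, map_mul, hσ, hu, mul_comm s]),
      mul_conj2, cl he 2 3 0 (by decide), conj_mul2, cr he 2 0 1 (by decide),
      cr he 3 0 1 (by decide), map_mul, hσ, hu,
      mul_assoc s, (cm he 3 1 3 0 (by decide) _ _).eq, mul_assoc,
      ← mul_assoc (e 2 0 _), (cm he 2 0 3 0 (by decide) _ _).eq]
    exact ((cm he 2 1 3 0 (by decide) _ _).mul_right (cm he 2 1 2 0 (by decide) _ _)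
      |>.mul_right (cm he 2 1 3 1 (by decide) _ _)).eq.trans (by simp only [mul_assoc])

end St

section Mat

variable {E : Type*} [Field E] {σ : E ≃+* E}

theorem coe_slE4 {a b : Fin 4} (h : a ≠ b) (t : E) :
    ((slE a b t : SL(4, E)) : Matrix (Fin 4) (Fin 4) E) = 1 + Matrix.single a b t := coe_slE h t

theorem one_four : (1 : Matrix (Fin 4) (Fin 4) E) = !![1, 0, 0, 0; 0, 1, 0, 0; 0, 0, 1, 0; 0, 0, 0, 1] := by
  ext i j; fin_cases i <;> fin_cases j <;> rfl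

theorem coe_X4_ev {i : ZMod 8} (hi : Ev i) (s : E) :
    ((X4 σ i s : SL(4, E)) : Matrix (Fin 4) (Fin 4) E) =
      1 + Matrix.single (ra i) (rb i) s + Matrix.single (rb i).rev (ra i).rev (σ s) := by
  have h : rb i ≠ (rb i).rev := by revert i; decide
  rw [X4, xe_ev hi, Matrix.SpecialLinearGroup.coe_mul, coe_slE4 (ra_ne_rb i),
    coe_slE4 (fun e => ra_ne_rb i (Fin.rev_injective e).symm), mul_add, mul_one, add_mul, one_mul,
    Matrix.single_mul_single_of_ne _ _ _ _ h, add_zero]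

theorem coe_X4_od {i : ZMod 8} (hi : ¬ Ev i) {s : E} (hs : σ s = s) :
    ((X4 σ i s : SL(4, E)) : Matrix (Fin 4) (Fin 4) E) = 1 + Matrix.single (ra i) (rb i) s := by
  rw [X4, xe_od hi hs, coe_slE4 (ra_ne_rb i)]

theorem coe_X4_0 (s : E) : ((X4 σ 0 s : SL(4, E)) : Matrix (Fin 4) (Fin 4) E) =
    !![1, s, 0, 0; 0, 1, 0, 0; 0, 0, 1, σ s; 0, 0, 0, 1] := by
  rw [coe_X4_ev (by decide)]
  ext i j; fin_cases i <;> fin_cases j <;> simp [ra, rb, Matrix.single_apply, ZMod.val_zero]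

theorem coe_X4_2 (s : E) : ((X4 σ 2 s : SL(4, E)) : Matrix (Fin 4) (Fin 4) E) =
    !![1, 0, σ s, 0; 0, 1, 0, s; 0, 0, 1, 0; 0, 0, 0, 1] := by
  rw [coe_X4_ev (by decide), show ra 2 = 1 from rfl, show rb 2 = 3 from rfl]
  ext i j; fin_cases i <;> fin_cases j <;> simp [Matrix.single_apply]

theorem coe_X4_4 (s : E) : ((X4 σ 4 s : SL(4, E)) : Matrix (Fin 4) (Fin 4) E) =
    !![1, 0, 0, 0; σ s, 1, 0, 0; 0, 0, 1, 0; 0, 0, s, 1] := by
  rw [coe_X4_ev (by decide), show ra 4 = 3 from rfl, show rb 4 = 2 from rfl]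
  ext i j; fin_cases i <;> fin_cases j <;> simp [Matrix.single_apply]

theorem coe_X4_6 (s : E) : ((X4 σ 6 s : SL(4, E)) : Matrix (Fin 4) (Fin 4) E) =
    !![1, 0, 0, 0; 0, 1, 0, 0; s, 0, 1, 0; 0, σ s, 0, 1] := by
  rw [coe_X4_ev (by decide), show ra 6 = 2 from rfl, show rb 6 = 0 from rfl]
  ext i j; fin_cases i <;> fin_cases j <;> simp [Matrix.single_apply]

theorem coe_X4_1 {s : E} (hs : σ s = s) : ((X4 σ 1 s : SL(4, E)) : Matrix (Fin 4) (Fin 4) E) =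
    !![1, 0, 0, s; 0, 1, 0, 0; 0, 0, 1, 0; 0, 0, 0, 1] := by
  rw [coe_X4_od (by decide) hs, show ra 1 = 0 from rfl, show rb 1 = 3 from rfl]
  ext i j; fin_cases i <;> fin_cases j <;> simp [Matrix.single_apply]

theorem coe_X4_3 {s : E} (hs : σ s = s) : ((X4 σ 3 s : SL(4, E)) : Matrix (Fin 4) (Fin 4) E) =
    !![1, 0, 0, 0; 0, 1, s, 0; 0, 0, 1, 0; 0, 0, 0, 1] := by
  rw [coe_X4_od (by decide) hs, show ra 3 = 1 from rfl, show rb 3 = 2 from rfl]
  ext i j; fin_cases i <;> fin_cases j <;> simp [Matrix.single_apply]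

theorem coe_X4_5 {s : E} (hs : σ s = s) : ((X4 σ 5 s : SL(4, E)) : Matrix (Fin 4) (Fin 4) E) =
    !![1, 0, 0, 0; 0, 1, 0, 0; 0, 0, 1, 0; s, 0, 0, 1] := by
  rw [coe_X4_od (by decide) hs, show ra 5 = 3 from rfl, show rb 5 = 0 from rfl]
  ext i j; fin_cases i <;> fin_cases j <;> simp [Matrix.single_apply]

theorem coe_X4_7 {s : E} (hs : σ s = s) : ((X4 σ 7 s : SL(4, E)) : Matrix (Fin 4) (Fin 4) E) =
    !![1, 0, 0, 0; 0, 1, 0, 0; 0, s, 1, 0; 0, 0, 0, 1] := by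
  rw [coe_X4_od (by decide) hs, show ra 7 = 2 from rfl, show rb 7 = 1 from rfl]
  ext i j; fin_cases i <;> fin_cases j <;> simp [Matrix.single_apply]

theorem coe_vv_X4 {d r : E} (c : E) (hd : σ d = d) (hr : σ r = r) :
    ((vv (X4 σ) d c r : SL(4, E)) : Matrix (Fin 4) (Fin 4) E) =
      !![1, 0, σ c, r; 0, 1, d, c; 0, 0, 1, 0; 0, 0, 0, 1] := by
  rw [vv, Matrix.SpecialLinearGroup.coe_mul, Matrix.SpecialLinearGroup.coe_mul, coe_X4_3 hd,
    coe_X4_2, coe_X4_1 hr]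
  ext i j; fin_cases i <;> fin_cases j <;> simp [Matrix.mul_apply, Fin.sum_univ_four]

theorem coe_uu_X4 {d r : E} (a c : E) (hd : σ d = d) (hr : σ r = r) :
    ((uu (X4 σ) a d c r : SL(4, E)) : Matrix (Fin 4) (Fin 4) E) =
      !![1, a, σ c + a * d, r + a * c; 0, 1, d, c; 0, 0, 1, σ a; 0, 0, 0, 1] := by
  rw [uu, Matrix.SpecialLinearGroup.coe_mul, coe_X4_0, coe_vv_X4 c hd hr]
  ext i j; fin_cases i <;> fin_cases j <;> simp [Matrix.mul_apply, Fin.sum_univ_four]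

theorem inj_X4 : Inj (X4 σ) σ := fun a d c r hd hr e => by
  have h := congrArg Subtype.val e
  rw [show (uu (X4 σ) a d c r).1 = _ from coe_uu_X4 a c hd hr] at h
  have h1 := congrFun (congrFun h 0) 1
  have h2 := congrFun (congrFun h 1) 2
  have h3 := congrFun (congrFun h 1) 3
  have h4 := congrFun (congrFun h 0) 3
  simp at h1 h2 h3 h4
  exact ⟨h1, h2, h3, by simpa [h1] using h4⟩

/-- A unitary upper unitriangular matrix is in normal form. -/
theorem eq_uu_X4 (h2 : (2 : E) = 0) (hσ : ∀ s, σ (σ s) = s) {g : SL(4, E)}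
    (hg : suσ (σ : E →+* E) g = g) (h : ∀ i j : Fin 4, j ≤ i → g.1 i j = (1 : Matrix _ _ E) i j) :
    σ (g.1 1 2) = g.1 1 2 ∧ σ (g.1 0 3 + g.1 0 1 * g.1 1 3) = g.1 0 3 + g.1 0 1 * g.1 1 3 ∧
      g = uu (X4 σ) (g.1 0 1) (g.1 1 2) (g.1 1 3) (g.1 0 3 + g.1 0 1 * g.1 1 3) := by
  have e := (suσ_eq_iff _).1 hg
  have h00 := h 0 0 le_rfl
  have h11 := h 1 1 le_rfl
  have h22 := h 2 2 le_rfl
  have h33 := h 3 3 le_rfl
  have h10 := h 1 0 (by decide)
  have h20 := h 2 0 (by decide)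
  have h30 := h 3 0 (by decide)
  have h21 := h 2 1 (by decide)
  have h31 := h 3 1 (by decide)
  have h32 := h 3 2 (by decide)
  have e1 := congrFun (congrFun e 0) 1
  have e2 := congrFun (congrFun e 1) 2
  have e3 := congrFun (congrFun e 0) 2
  have e4 := congrFun (congrFun e 0) 3
  simp [Matrix.mul_apply, Fin.sum_univ_four, adjM_apply, Fin.rev, h00, h11, h22, h33, h10, h20,
    h30, h21, h31, h32] at e1 e2 e3 e4
  have k1 : g.1 2 3 = σ (g.1 0 1) := by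
    rw [← hσ (g.1 2 3)]; congr 1; linear_combination e1 - g.1 0 1 * h2
  have k2 : σ (g.1 1 2) = g.1 1 2 := by linear_combination e2 - g.1 1 2 * h2
  have k4 : σ (g.1 0 3 + g.1 0 1 * g.1 1 3) = g.1 0 3 + g.1 0 1 * g.1 1 3 := by
    rw [k1, hσ] at e4
    rw [map_add, map_mul]
    linear_combination e4 - (g.1 0 3 + g.1 0 1 * g.1 1 3) * h2
  refine ⟨k2, k4, Subtype.ext ?_⟩
  rw [show (uu (X4 σ) _ _ _ _).1 = _ from coe_uu_X4 _ _ k2 k4]
  rw [k1, hσ] at e3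
  ext i j
  fin_cases i <;> fin_cases j <;> simp [h00, h11, h22, h33, h10, h20, h30, h21, h31, h32, k1]
  · linear_combination e3 - (σ (g.1 1 3) + g.1 0 1 * g.1 1 2) * h2
  · linear_combination - (g.1 0 1 * g.1 1 3) * h2

theorem suσ_X4 (h2 : (2 : E) = 0) (hσ : ∀ s, σ (σ s) = s) (i : ZMod 8) (s : E) :
    suσ (σ : E →+* E) (X4 σ i s) = X4 σ i s := by
  have hn : ∀ t : E, -t = t := fun t => by linear_combination (-t) * h2
  have h1 := ra_ne_rb i
  have h3 : (rb i).rev ≠ (ra i).rev := fun e => h1 (Fin.rev_injective e).symm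
  by_cases hi : Ev i
  · rw [X4, xe_ev hi, map_mul, suσ_slE _ h1, suσ_slE _ h3, hn, hn, Fin.rev_rev, Fin.rev_rev]
    simp only [RingHom.coe_coe, hσ]
    exact (stA_slE.commute _ _ _ _ h3 h1 (by revert i; decide) (by revert i; decide) _ _).eq
  · by_cases hs : σ s = s
    · have k : (rb i).rev = ra i ∧ (ra i).rev = rb i := by revert i; decide
      rw [X4, xe_od hi hs, suσ_slE _ h1, hn, k.1, k.2, RingHom.coe_coe, hs]
    · rw [X4, xe_junk hi hs, map_one]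

theorem coe_w0 (h2 : (2 : E) = 0) :
    ((nn σ (X4 σ) 1 1 * nn σ (X4 σ) 3 1 : SL(4, E)) : Matrix (Fin 4) (Fin 4) E) =
      !![0, 0, 0, 1; 0, 0, 1, 0; 0, 1, 0, 0; 1, 0, 0, 0] := by
  have h : (1 : E) + 1 = 0 := by rw [one_add_one_eq_two, h2]
  simp only [nn, Matrix.SpecialLinearGroup.coe_mul, map_one, inv_one]
  rw [show (1 + 4 : ZMod 8) = 5 from rfl, show (3 + 4 : ZMod 8) = 7 from rfl, coe_X4_1 (map_one σ),
    coe_X4_3 (map_one σ), coe_X4_5 (map_one σ), coe_X4_7 (map_one σ)]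
  ext i j; fin_cases i <;> fin_cases j <;> simp [Matrix.mul_apply, Fin.sum_univ_four, h]

theorem w0_conj (h2 : (2 : E) = 0) (g : SL(4, E)) (i j : Fin 4) :
    (nn σ (X4 σ) 1 1 * nn σ (X4 σ) 3 1 * g * (nn σ (X4 σ) 1 1 * nn σ (X4 σ) 3 1)).1 i j =
      g.1 i.rev j.rev := by
  change ((nn σ (X4 σ) 1 1 * nn σ (X4 σ) 3 1 * g * (nn σ (X4 σ) 1 1 * nn σ (X4 σ) 3 1) :
    SL(4, E)) : Matrix (Fin 4) (Fin 4) E) i j = _
  rw [Matrix.SpecialLinearGroup.coe_mul, Matrix.SpecialLinearGroup.coe_mul (_ * _), coe_w0 h2]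
  fin_cases i <;> fin_cases j <;>
    simp [Matrix.mul_apply, Fin.sum_univ_four, Fin.rev, Matrix.vecMul, dotProduct]

theorem sl_U_tri {g : SL(4, E)} (hg : g ∈ (slGr 3 E).rgd.U) (i j : Fin 4) (h : j ≤ i) :
    g.1 i j = (1 : Matrix _ _ E) i j := by
  let D : AddSubsemigroup ℤ := ⟨{k | k < 0}, fun {a b} (h1 : a < 0) (h2 : b < 0) => add_neg h1 h2⟩
  rw [← RGD.UL_univ] at hg
  have := Char.sl_UL_le (K := unS (fun a : Fin 4 => (a.val : ℤ)) (slGr 3 E).ρ D)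
    (fun x y a _ t x' y' e => by
      rw [slGr_ρ, coe_slE a.ne, add_sub_cancel_left, Matrix.single_apply] at e
      split_ifs at e with c
      · obtain ⟨rfl, rfl⟩ := c
        exact (sub_neg (a := (x.val : ℤ))).2 (Int.ofNat_lt.2 a)
      · exact absurd rfl e) hg i j
  by_contra c
  exact absurd ((sub_neg (a := (i.val : ℤ))).1 (this (sub_ne_zero.2 c)))
    (not_lt.2 (Int.ofNat_le.2 h))

theorem sl_V_tri {g : SL(4, E)} (hg : g ∈ (slGr 3 E).rgd.V) (i j : Fin 4) (h : i ≤ j) :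
    g.1 i j = (1 : Matrix _ _ E) i j := by
  let D : AddSubsemigroup ℤ := ⟨{k | 0 < k}, fun {a b} (h1 : 0 < a) (h2 : 0 < b) => add_pos h1 h2⟩
  have hle : (slGr 3 E).rgd.V ≤ unS (fun a : Fin 4 => (a.val : ℤ)) (slGr 3 E).ρ D := by
    refine spanX_le_iff.2 fun r hr g hg => ?_
    obtain ⟨x, y, hxy, rfl⟩ := mem_typeA'.1 hr.1
    obtain ⟨t, rfl⟩ := (mem_slGr_X hxy).1 hg
    have a : y < x := lt_of_le_of_ne (not_lt.1 fun c => hr.2
      (Char.typeA_pos_inJ.2 ⟨x, y, c, rfl, fun _ _ _ => Set.mem_univ _⟩).1) hxy.symm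
    intro x' y' e
    rw [slGr_ρ, coe_slE hxy, add_sub_cancel_left, Matrix.single_apply] at e
    split_ifs at e with c
    · obtain ⟨rfl, rfl⟩ := c
      exact (sub_pos (a := (x.val : ℤ))).2 (Int.ofNat_lt.2 a)
    · exact absurd rfl e
  by_contra c
  exact absurd ((sub_pos (a := (i.val : ℤ))).1 (hle hg i j (sub_ne_zero.2 c)))
    (not_lt.2 (Int.ofNat_le.2 h))

end Mat

section M

variable {G E : Type*} [Group G] [Finite G] [Field E] [Finite E] {σ : E ≃+* E}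
  {x : ZMod 8 → E → G}

theorem u4s_xe {Γ : Type*} [Group Γ] (h : Qd σ) {e : Fin 4 → Fin 4 → E → Γ} (he : Chev.StA e) :
    U4S σ (xe σ e) := u4s_xe' h.two h.ss he

theorem Qd.u4s (h : Qd σ) : U4S σ (X4 σ) := u4s_xe h stA_slE

theorem Qd.card' [Fintype E] (h : Qd σ) : Fintype.card E = qn σ ^ 2 := by
  rw [← h.card, Nat.card_eq_fintype_card]

theorem Qd.eq_frobq [Fintype E] (h : Qd σ) : (σ : E →+* E) = frobq h.card' :=
  RingHom.ext h.frob

theorem mem_UU_X4 (h : Qd σ) {g : SL(4, E)} (hg : suσ (σ : E →+* E) g = g)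
    (ht : ∀ i j : Fin 4, j ≤ i → g.1 i j = (1 : Matrix _ _ E) i j) : g ∈ UU (X4 σ) := by
  rw [(eq_uu_X4 h.two h.ss hg ht).2.2]; exact uu_mem_UU _ _ _ _

theorem mem_LL_X4 (h : Qd σ) {g : SL(4, E)} :
    g ∈ LL (X4 σ) ↔ Chev.suσ (σ : E →+* E) g = g := by
  have h1 : ∀ g ∈ LL (X4 σ), suσ (σ : E →+* E) g = g := fun g hg =>
    (LL_le.2 (suσ_X4 h.two h.ss) : LL (X4 σ) ≤ (suσ (σ : E →+* E)).eqLocus (MonoidHom.id _)) hg
  refine ⟨h1 g, fun hg => ?_⟩
  have := Fintype.ofFinite E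
  have hF : ∀ g, g ∈ (suTw 3 (frobq_ne_id h.card') (frobq_frobq h.card')).F ↔
      suσ (σ : E →+* E) g = g := fun g => by
    rw [mem_suTw_F, h.eq_frobq, suσ_eq_iff]
  have h2 := suTw_F_le (n := 3) h.card' (by omega) ((hF g).2 hg)
  rw [RGD.Twist.G1_eq _ (slGr 3 E).faithful] at h2
  refine sup_le (c := LL (X4 σ)) (fun g hg => ?_) (fun g hg => ?_) h2
  · exact UU_le_LL (mem_UU_X4 h ((hF g).1 hg.2) (sl_U_tri hg.1))
  have m : ∀ i, nn σ (X4 σ) i 1 ∈ LL (X4 σ) := fun i =>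
    mul_mem (mul_mem (x_mem_LL _ _) (x_mem_LL _ _)) (x_mem_LL _ _)
  have w := mul_mem (m 1) (m 3)
  refine (mul_mem_cancel_left w).1 ((mul_mem_cancel_right w).1 (UU_le_LL (mem_UU_X4 h ?_ ?_)))
  · rw [map_mul, map_mul (_) (_ * _), h1 _ w, (hF g).1 hg.2]
  · intro i j hij
    rw [w0_conj h.two, sl_V_tri hg.1 _ _ (Fin.rev_le_rev.2 hij), Matrix.one_apply, Matrix.one_apply]
    simp only [Fin.rev_inj]

theorem sys_X4 (h : Qd σ) (h4 : qn σ = 2) : Sys σ (X4 σ) :=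
  ⟨h.u4s, h.ne, h4, (LL (X4 σ)).subtype, Subtype.val_injective, fun _ _ => rfl⟩

theorem Qd.equiv_SU [Fintype E] (h : Qd σ) : Nonempty (LL (X4 σ) ≃* SU 4 E (qn σ)) := by
  obtain ⟨e⟩ := nonempty_suTw_F_equiv (n := 3) h.card'
  exact ⟨(MulEquiv.subgroupCongr (Subgroup.ext fun g => by
    rw [mem_LL_X4 h, mem_suTw_F, h.eq_frobq, suσ_eq_iff])).trans e⟩

theorem Qd.center_SU [Fintype E] (h : Qd σ) : center (SU 4 E (qn σ)) = ⊥ := by
  rw [eq_bot_iff]
  intro g hg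
  obtain ⟨a, ha⟩ := (Form.mem_center_SU_iff h.card' 4 (by omega) g).1 hg
  have h1 := g.1.2
  rw [ha, Matrix.det_smul, Matrix.det_one, mul_one, Fintype.card_fin] at h1
  rw [h.eq_one_of h1, one_smul] at ha
  exact Subtype.ext (Subtype.ext ha)

theorem Qd.equiv_PSU [Fintype E] (h : Qd σ) : Nonempty (LL (X4 σ) ≃* PSU 4 E (qn σ)) := by
  obtain ⟨e⟩ := h.equiv_SU
  exact ⟨e.trans ((QuotientGroup.quotientMulEquivOfEq h.center_SU).trans
    QuotientGroup.quotientBot).symm⟩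

section NF

variable {G : Type*} [Group G] {x : ZMod 8 → E → G}

theorem LL_top_X4 : closure {g : LL (X4 σ) | ∃ i s, g = ⟨X4 σ i s, x_mem_LL i s⟩} = ⊤ := by
  rw [← map_injective (LL (X4 σ)).subtype_injective |>.eq_iff, MonoidHom.map_closure,
    ← MonoidHom.range_eq_map, range_subtype]
  refine congrArg Subgroup.closure ?_
  ext g
  constructor
  · rintro ⟨_, ⟨i, s, rfl⟩, rfl⟩
    exact ⟨i, s, rfl⟩
  · rintro ⟨i, s, rfl⟩
    exact ⟨_, ⟨i, s, rfl⟩, rfl⟩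

theorem range_eq_LL {φ : LL (X4 σ) →* G} (h : ∀ i s, φ ⟨X4 σ i s, x_mem_LL i s⟩ = x i s) :
    φ.range = LL x := by
  rw [MonoidHom.range_eq_map, ← LL_top_X4, MonoidHom.map_closure, LL.eq_1 x]
  congr 1
  ext g
  constructor
  · rintro ⟨_, ⟨i, s, rfl⟩, rfl⟩
    exact ⟨i, s, h i s⟩
  · rintro ⟨i, s, rfl⟩
    exact ⟨_, ⟨i, s, rfl⟩, h i s⟩

theorem Sys.equiv_X4 (h : Sys σ x) :
    ∃ e : LL (X4 σ) ≃* LL x, ∀ i s, e ⟨X4 σ i s, x_mem_LL i s⟩ = ⟨x i s, x_mem_LL i s⟩ := by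
  obtain ⟨φ, h1, h2⟩ := h.mod
  exact ⟨(MonoidHom.ofInjective h1).trans (MulEquiv.subgroupCongr (range_eq_LL h2)),
    fun i s => Subtype.ext (h2 i s)⟩

theorem Sys.finite (h : Sys σ x) : Finite (LL x) := by
  obtain ⟨e, -⟩ := h.equiv_X4
  exact Finite.of_equiv _ e.toEquiv

theorem Sys.map {G' : Type*} [Group G'] (h : Sys σ x) {φ : G →* G'} (hφ : Function.Injective φ) :
    Sys σ fun i s => φ (x i s) := by
  obtain ⟨ψ, h1, h2⟩ := h.mod
  exact ⟨h.s.map φ, h.ne, h.q2, φ.comp ψ, hφ.comp h1, fun i s => congrArg φ (h2 i s)⟩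

theorem Sys.cx (h : Sys σ x) (g : G) : Sys σ (cx x g) :=
  h.map (φ := (MulAut.conj g).toMonoidHom) (MulAut.conj g).injective

theorem Sys.iso {G' : Type*} [Group G'] {y : ZMod 8 → E → G'} (h : Sys σ x) (hy : Sys σ y) :
    ∃ e : LL x ≃* LL y, ∀ i s, e ⟨x i s, x_mem_LL i s⟩ = ⟨y i s, x_mem_LL i s⟩ := by
  obtain ⟨e, he⟩ := h.equiv_X4
  obtain ⟨e', he'⟩ := hy.equiv_X4
  exact ⟨e.symm.trans e', fun i s => by
    rw [← he, MulEquiv.trans_apply, MulEquiv.symm_apply_apply, he']⟩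

theorem Sys.equiv [Fintype E] (h : Sys σ x) : Nonempty (LL x ≃* PSU 4 E (qn σ)) := by
  obtain ⟨e, -⟩ := h.equiv_X4
  obtain ⟨e'⟩ := h.qd.equiv_PSU
  exact ⟨e.symm.trans e'⟩

theorem Sys.simple (h : Sys σ x) : IsSimpleGroup (LL x) := by
  have := Fintype.ofFinite E
  obtain ⟨e⟩ := h.equiv
  have := Form.isSimpleGroup_PSU h.qd.card' 4 (by omega) (by omega)
  exact e.isSimpleGroup

theorem Sys.map' {G' : Type*} [Group G'] (h : Sys σ x) (φ : G →* G') (h1 : φ (x 1 1) ≠ 1) :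
    Sys σ fun i s => φ (x i s) := by
  obtain ⟨ψ, -, h2⟩ := h.mod
  have := (sys_X4 h.qd h.q2).simple
  refine ⟨h.s.map φ, h.ne, h.q2, φ.comp ψ, ?_, fun i s => congrArg φ (h2 i s)⟩
  rcases (MonoidHom.normal_ker (φ.comp ψ)).eq_bot_or_eq_top with h3 | h3
  · exact (MonoidHom.ker_eq_bot_iff _).1 h3
  · refine absurd ?_ h1
    rw [← h2]
    exact MonoidHom.mem_ker.1 (h3 ▸ mem_top _ : _ ∈ (φ.comp ψ).ker)

theorem Sys.pull {G' : Type*} [Group G'] (h : Sys σ x) (φ : G' →* G) (hφ : Function.Injective φ)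
    (hle : LL x ≤ φ.range) : ∃ y : ZMod 8 → E → G', Sys σ y ∧ ∀ i s, φ (y i s) = x i s := by
  obtain ⟨e, he⟩ := h.equiv_X4
  let ψ : LL (X4 σ) →* G' := ((MonoidHom.ofInjective hφ).symm.toMonoidHom.comp
    (inclusion hle)).comp e.toMonoidHom
  have hψ : Function.Injective ψ :=
    ((MonoidHom.ofInjective hφ).symm.injective.comp (inclusion_injective hle)).comp e.injective
  have s0 : Sys σ fun i s => (⟨X4 σ i s, x_mem_LL i s⟩ : LL (X4 σ)) := by
    have u := h.qd.u4s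
    exact ⟨⟨u.two, u.ss, fun i hi s hs => Subtype.ext (u.junk i hi s hs),
      fun i hi s t => Subtype.ext (u.adds i hi s t),
      fun i hi s t hs ht => Subtype.ext (u.addl i hi s t hs ht),
      fun i s t => Subtype.ext (u.c1 i s t), fun i hi s t => Subtype.ext (u.c2l i hi s t),
      fun i hi s t => Subtype.ext (u.c2s i hi s t), fun i hi s t ht => Subtype.ext (u.c3p i hi s t ht),
      fun i hi s t ht => Subtype.ext (u.c3m i hi s t ht)⟩, h.ne, h.q2, MonoidHom.id _,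
      Function.injective_id, fun _ _ => rfl⟩
  refine ⟨_, s0.map hψ, fun i s => ?_⟩
  simp only [ψ, MonoidHom.comp_apply, MulEquiv.coe_toMonoidHom, he]
  exact MonoidHom.apply_ofInjective_symm hφ _

theorem exists_sys [Fintype E] (h : Qd σ) (h4 : qn σ = 2) :
    ∃ X : ZMod 8 → E → PSU 4 E (qn σ), Sys σ X ∧ LL X = ⊤ := by
  obtain ⟨e⟩ := h.equiv_PSU
  obtain ⟨y, h1, h2⟩ := (sys_X4 h h4).pull ((LL (X4 σ)).subtype.comp e.symm.toMonoidHom)
    (Subtype.val_injective.comp e.symm.injective) fun g hg => ⟨e ⟨g, hg⟩, by simp⟩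
  refine ⟨y, h1, eq_top_iff.2 fun g _ => ?_⟩
  have h3 : (LL y).map ((LL (X4 σ)).subtype.comp e.symm.toMonoidHom) = LL (X4 σ) := by
    rw [← LL_map]; congr 1; funext i s; exact h2 i s
  obtain ⟨k, hk, h4⟩ := h3.ge (e.symm g).2
  exact e.symm.injective (Subtype.ext h4) ▸ hk

theorem Sys.inj (h : Sys σ x) : Inj x σ := fun a d c r hd hr e => by
  obtain ⟨φ, h1, h2⟩ := h.mod
  refine inj_X4 a d c r hd hr (congrArg Subtype.val (h1 (a₁ := ⟨_, UU_le_LL (uu_mem_UU a d c r)⟩)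
    (a₂ := 1) ?_))
  rw [map_one, ← e, uu.eq_1 x, vv, ← h2, ← h2, ← h2, ← h2, ← map_mul, ← map_mul, ← map_mul]
  rfl

theorem Sys.not_comm (h : Sys σ x) : ¬ IsMulCommutative (LL x) := fun hc => by
  have e := congrArg Subtype.val (hc.is_comm.comm ⟨x 0 1, x_mem_LL _ _⟩ ⟨x 3 1, x_mem_LL _ _⟩)
  have e1 := h.s.conj0 1 (d := 1) (c := 0) (r := 0) (map_one σ) (map_zero σ)
  rw [h.s.vv_3, show x 0 1 * x 3 1 = x 3 1 * x 0 1 from e, mul_inv_cancel_right, ← h.s.vv_3] at e1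
  have := (h.s.vv_inj h.inj (map_one σ) (map_zero σ) (map_one σ) (by simp) e1).2.1
  simp at this

theorem Sys.perf (h : Sys σ x) : ⁅LL x, LL x⁆ = LL x := by
  have := h.simple
  rcases (inferInstance : (_root_.commutator (LL x)).Normal).eq_bot_or_eq_top with h3 | h3
  · refine absurd ⟨⟨fun a b => ?_⟩⟩ h.not_comm
    have : ⁅a, b⁆ ∈ _root_.commutator (LL x) := commutator_mem_commutator (mem_top _) (mem_top _)
    rw [h3, mem_bot, commutatorElement_eq_one_iff_mul_comm] at this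
    exact this
  · have := congrArg (Subgroup.map (LL x).subtype) h3
    rwa [_root_.commutator, map_commutator, ← MonoidHom.range_eq_map, range_subtype] at this

theorem Sys.cent (h : Sys σ x) : LL x ⊓ Cs (LL x) = ⊥ := by
  have := h.simple
  rcases (inferInstance : (center (LL x)).Normal).eq_bot_or_eq_top with h3 | h3
  · rw [eq_bot_iff]
    rintro g ⟨g1, g2⟩
    have : (⟨g, g1⟩ : LL x) ∈ center (LL x) := mem_center_iff.2 fun b =>
      Subtype.ext (mem_centralizer_iff.1 g2 b b.2)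
    rw [h3, mem_bot] at this
    exact congrArg Subtype.val this
  · refine absurd ⟨⟨fun a b => ?_⟩⟩ h.not_comm
    exact mem_center_iff.1 (h3 ▸ mem_top b) a

theorem Sys.card (h : Sys σ x) :
    Nat.card (LL x) = qn σ ^ 6 * (qn σ ^ 2 - 1) * (qn σ ^ 3 + 1) * (qn σ ^ 4 - 1) := by
  have := Fintype.ofFinite E
  obtain ⟨e, -⟩ := h.equiv_X4
  obtain ⟨e'⟩ := h.qd.equiv_SU
  rw [Nat.card_congr (e.symm.trans e').toEquiv]
  refine Nat.eq_of_mul_eq_mul_left (Nat.succ_pos (qn σ))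
    ((Form.card_SU h.qd.card' 4 (by omega)).trans ?_)
  simp [Form.guOrder, Finset.prod_range_succ, show ¬ Even 3 by decide]
  ring

theorem Sys.card_UU (h : Sys σ x) : Nat.card (UU x) = qn σ ^ 6 := by
  let f : E × fixF σ × E × fixF σ → UU x := fun p =>
    ⟨uu x p.1 p.2.1 p.2.2.1 p.2.2.2, uu_mem_UU _ _ _ _⟩
  have hb : Function.Bijective f := by
    refine ⟨fun ⟨a, d, c, r⟩ ⟨a', d', c', r'⟩ e => ?_, fun ⟨g, hg⟩ => ?_⟩
    · obtain ⟨rfl, h2, rfl, h4⟩ := h.s.uu_inj h.inj d.2 r.2 d'.2 r'.2 (congrArg Subtype.val e)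
      rw [Subtype.ext h2, Subtype.ext h4]
    · obtain ⟨a, d, c, r, hd, hr, rfl⟩ := h.s.mem_UU.1 hg
      exact ⟨(a, ⟨d, hd⟩, c, ⟨r, hr⟩), rfl⟩
  rw [← Nat.card_eq_of_bijective f hb]
  simp only [Nat.card_prod, h.qd.card]
  rw [← qn.eq_1]
  ring

theorem Sys.eq_bot_or (h : Sys σ x) {N : Subgroup G} (h1 : N ≤ LL x) (h2 : LL x ≤ Ns N) :
    N = ⊥ ∨ N = LL x := by
  have := h.simple
  rcases ((normal_subgroupOf_iff_le_normalizer h1).2 h2).eq_bot_or_eq_top with h3 | h3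
  · exact Or.inl (by rwa [subgroupOf_eq_bot, disjoint_iff, inf_eq_left.2 h1] at h3)
  · exact Or.inr (le_antisymm h1 (subgroupOf_eq_top.1 h3))

theorem Sys.le_of_normal (h : Sys σ x) {N : Subgroup G} (hN : LL x ≤ Ns N) (h1 : LL x ⊓ N ≠ ⊥) :
    LL x ≤ N := by
  refine inf_eq_left.1 ((h.eq_bot_or inf_le_left fun g hg => ?_).resolve_left h1)
  exact inf_normalizer_le_normalizer_inf ⟨le_normalizer hg, hN hg⟩

end NF

theorem Sys.syl (h : Sys σ x) : IsSylowIn 2 (UU x) (LL x) := by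
  obtain ⟨n, n1, hn⟩ := h.qd.two_pow
  refine ⟨UU_le_LL, IsPGroup.of_card (n := n * 6) (by rw [h.card_UU, hn, pow_mul]), ?_⟩
  have e := card_mul_relIndex (UU_le_LL (x := x))
  have hq : 0 < qn σ := by have := h.q2; omega
  rw [h.card_UU, h.card, mul_assoc, mul_assoc] at e
  rw [Nat.eq_of_mul_eq_mul_left (pow_pos hq 6) e]
  have h2 : ∀ k, 1 ≤ k → 2 ∣ qn σ ^ k ∧ 0 < qn σ ^ k := fun k hk =>
    ⟨dvd_pow (hn ▸ dvd_pow_self 2 (by omega)) (by omega), pow_pos hq k⟩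
  have a2 := h2 2 (by omega)
  have a3 := h2 3 (by omega)
  have a4 := h2 4 (by omega)
  intro hd
  rcases (Nat.Prime.dvd_mul Nat.prime_two).1 hd with h3 | h3
  · omega
  · rcases (Nat.Prime.dvd_mul Nat.prime_two).1 h3 with h3 | h3 <;> omega

theorem Sys.eq_of_le {y : ZMod 8 → E → G} (h : Sys σ x) (hy : Sys σ y) (e : LL x ≤ LL y) :
    LL x = LL y := eq_of_le_of_card_ge e (by rw [h.card, hy.card])

end M

end Cfsg.Lib.U42
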