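import Cfsg.Agent.U42.M2A
import Cfsg.Agent.U42.M1

/-!
# Standard subgroups of type `U₄(2)`: coordinates and orders
-/

set_option autoImplicit false
set_option linter.unusedSectionVars false

namespace Cfsg.Lib.U42

variable {G E : Type*} [Group G] [Finite G] [Field E] [Finite E] {σ : E ≃+* E}
  {x : ZMod 8 → E → G}

theorem Sys.uu_mem_VV (h : Sys σ x) {a d c r : E} (hd : σ d = d) (hr : σ r = r) :
    uu x a d c r ∈ VV x ↔ a = 0 := M2.uu_mem_VV h.s h.inj hd hr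

theorem Sys.uu_mem_QQ (h : Sys σ x) {a d c r : E} (hd : σ d = d) (hr : σ r = r) :
    uu x a d c r ∈ QQ x ↔ d = 0 := M2.uu_mem_QQ h.s h.inj hd hr

theorem Sys.uu_mem_NN (h : Sys σ x) {a d c r : E} (hd : σ d = d) (hr : σ r = r) :
    uu x a d c r ∈ NN x ↔ a = 0 ∧ d = 0 := M2.uu_mem_NN h.s h.inj hd hr

theorem Sys.uu_mem_R (h : Sys σ x) {a d c r : E} (hd : σ d = d) (hr : σ r = r) :
    uu x a d c r ∈ rt x 1 ↔ a = 0 ∧ d = 0 ∧ c = 0 := M2.uu_mem_R h.s h.inj hd hr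

theorem Sys.card_VV (h : Sys σ x) : Nat.card (VV x) = qn σ ^ 4 := M2.card_VV h h.inj

theorem Sys.card_QQ (h : Sys σ x) : Nat.card (QQ x) = qn σ ^ 5 := M2.card_QQ h h.inj

theorem Sys.card_NN (h : Sys σ x) : Nat.card (NN x) = qn σ ^ 3 := M2.card_NN h h.inj

theorem Sys.card_R (h : Sys σ x) : Nat.card (rt x 1) = qn σ := M2.card_R h h.inj

theorem Sys.card_U0 (h : Sys σ x) : Nat.card (U0 x σ) = qn σ ^ 4 := M2.card_U0 h h.inj

end Cfsg.Lib.U42
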