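import Cfsg.Agent.U42.M3A
import Cfsg.Agent.U42.M2b

/-!
# Standard subgroups of type `U₄(2)`: the normaliser of `PA`
-/

set_option autoImplicit false
set_option linter.unusedSectionVars false

namespace Cfsg.Lib.U42

open Subgroup Cfsg.Lib.Trans Cfsg.Lib.Gold

variable {G E : Type*} [Group G] [Finite G] [Field E] [Finite E] {σ : E ≃+* E}
  {x : ZMod 8 → E → G}

end Cfsg.Lib.U42
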