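import Cfsg.Agent.U42.M1
import Cfsg.Agent.U42.M1n
import Cfsg.Agent.U42.M2
import Cfsg.Agent.U42.M2b
import Cfsg.Agent.U42.M3

/-!
# Standard `U₄(2)`: orbits on `V`, involutions of `L`
-/

set_option autoImplicit false
set_option linter.unusedSectionVars false

namespace Cfsg.Lib.U42

open Subgroup Cfsg.Lib.Trans Cfsg.Lib.Gold
open scoped commutatorElement

variable {G E : Type*} [Group G] [Finite G] [Field E] [Finite E] {σ : E ≃+* E}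
  {x : ZMod 8 → E → G}

namespace M3v

/-- Conjugacy under a subgroup. -/
def Cj (H : Subgroup G) (a b : G) : Prop := ∃ p ∈ H, p * a * p⁻¹ = b

theorem Cj.trans {H : Subgroup G} {a b c : G} (h : Cj H a b) (k : Cj H b c) : Cj H a c := by
  obtain ⟨p, hp, rfl⟩ := h
  obtain ⟨q, hq, rfl⟩ := k
  exact ⟨q * p, mul_mem hq hp, by group⟩

theorem x0_PB (s : E) : x 0 s ∈ PB x := SL_le_PB (mem_sup_left (x_mem_rt 0 s))

theorem two {A : Subgroup G} (h : ∀ a ∈ A, a * a = 1) : IsPGroup 2 A := fun a =>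
  ⟨1, Subtype.ext (by simpa [pow_two] using h a a.2)⟩

theorem two_zp {v : G} (h : v * v = 1) : IsPGroup 2 (zpowers v) := two (by
  rintro _ ⟨n, rfl⟩
  rw [← (Commute.refl v).mul_zpow, h, one_zpow])

variable (h : Sys σ x) {d c r : E}
include h

theorem mn (hd : σ d = d) (hr : σ r = r) (c : E) : Cj (PB x) (vv x d c r) (vv x r (σ c) d) :=
  ⟨_, SL_le_PB (nn_mem_SL 0 1), h.n0_vv hd hr c⟩

theorem kill (hd : σ d = d) (hr : σ r = r) (d0 : d ≠ 0) :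
    Cj (PB x) (vv x d c r) (vv x d 0 (r + c * σ c / d)) :=
  ⟨_, x0_PB (σ c / d), by
    rw [h.s.conj0 _ hd hr, map_div₀, h.s.ss, hd]
    congr 1
    · rw [div_mul_cancel₀ _ d0, h.s.add_self]
    · field_simp
      linear_combination c * σ c * h.s.two⟩

theorem nz (hr : σ r = r) (c0 : c ≠ 0) :
    ∃ l, σ l = l ∧ l ≠ 0 ∧ Cj (PB x) (vv x 0 c r) (x 2 l) := by
  obtain ⟨s, hs⟩ := h.qd.T_surj' c0 hr
  obtain ⟨l, e, h1, h2, h3, rfl⟩ := h.qd.polar c0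
  have e0 : e ≠ 0 := left_ne_zero_of_mul_eq_one h3
  refine ⟨l, h1, h2, Cj.trans (b := uu x 0 0 (l * e ^ 2) 0) ⟨_, x0_PB s, ?_⟩
    ⟨_, SL_le_PB (hh_mem_SL (σ := σ) 0 e), ?_⟩⟩
  · rw [h.s.conj0 _ (map_zero σ) hr, h.s.uu_zero]
    congr 1
    · ring
    · linear_combination hs + r * h.s.two
  · rw [h.h0_uu e0, mul_zero, mul_zero, mul_zero, h.s.uu_zero, h.s.vv_2,
      ← inv_eq_of_mul_eq_one_right h3]
    congr 1
    field_simp

theorem perf {v z l : G} (hl : l ∈ LL x) (e : l * v * l⁻¹ = z) {Y : Subgroup G}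
    (h1 : Y ≤ LL x ⊓ C1 z) (h2 : ⁅Y, Y⁆ = Y) (h3 : z ∈ Y) :
    ∃ Y : Subgroup G, Y ≤ LL x ⊓ C1 v ∧ ⁅Y, Y⁆ = Y ∧ v ∈ Y :=
  ⟨cj l⁻¹ Y, le_inf (cj_le_of_mem_of_le (inv_mem hl) (h1.trans inf_le_left)) (cj_le_iff.2
    fun y hy => mem_C1.2 (by
      calc _ = l⁻¹ * (y * (l * v * l⁻¹)) * l := by group
        _ = _ := by rw [e, mem_C1.1 (h1 hy).2, ← e]; group)),
    by rw [cj, ← map_commutator, h2], mem_cj.2 (by simpa [e] using h3)⟩

end M3v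

open M3v

namespace Sys

variable (h : Sys σ x)
include h

theorem V_irr {N : Subgroup G} (h1 : PB x ≤ Ns N) (h2 : rt x 1 ≤ N) : VV x ≤ N := by
  have k : ∀ d, σ d = d → x 3 d ∈ N := fun d hd => by
    obtain ⟨p, hp, e⟩ := mn h (map_zero σ) hd 0
    rw [map_zero, h.s.vv_3, h.s.vv_1] at e
    exact e ▸ mem_normalizer_conj (h1 hp) (h2 (x_mem_rt 1 d))
  refine sup_le ((h.s.rtl_le (by decide)).2 k) (sup_le (rt_le.2 fun s => ?_) h2)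
  have := mem_normalizer_conj (h1 (x0_PB (σ s))) (k 1 (map_one σ))
  rwa [h.s.r03 _ (map_one σ), mul_mem_cancel_right (h2 (x_mem_rt 1 _)),
    mul_mem_cancel_left (k 1 (map_one σ)), h.s.ss, mul_one] at this

theorem ncl_R : ncl (rt x 1) (PB x) = VV x :=
  le_antisymm (ncl_le_of_le_Ns R_le_VV h.PB_le_Ns) (h.V_irr le_Ns_ncl le_ncl')

theorem V_lin {p : G} (hp : p ∈ PB x) {d c r d' c' r' l : E} (_hd : σ d = d)
    (_hr : σ r = r) (_hd' : σ d' = d') (_hr' : σ r' = r') (hl : σ l = l)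
    (e : p * vv x d c r * p⁻¹ = vv x d' c' r') :
    p * vv x (l * d) (l * c) (l * r) * p⁻¹ = vv x (l * d') (l * c') (l * r') := by
  rcases eq_or_ne l 0 with rfl | l0
  · simp [h.s.vv_zero]
  obtain ⟨k, rfl, hk⟩ := h.qd.sqrt l
  have k0 : k ≠ 0 := fun e => l0 (by simp [e])
  have k1 : ∀ d c r, vv x (k ^ 2 * d) (k ^ 2 * c) (k ^ 2 * r) =
      hh σ x 1 k * hh σ x 3 k * vv x d c r * (hh σ x 1 k * hh σ x 3 k)⁻¹ := fun d c r => by
    have := h.h1_uu k0 (hk hl) (k⁻¹ * 0) (k ^ 2 * d) (k * c) r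
    rw [← h.h3_uu k0 (hk hl), mul_zero, mul_zero, h.s.uu_zero, h.s.uu_zero, ← mul_assoc k,
      ← pow_two] at this
    rw [← this]; group
  obtain ⟨v, hv, m, hm, rfl⟩ := h.mem_PB hp
  have k2 : ∀ w ∈ VV x, v * m * w * (v * m)⁻¹ = m * w * m⁻¹ := fun w hw => by
    have := h.s.VV_comm hv _ (mem_normalizer_conj (h.PB_le_Ns (SL_le_PB hm)) hw)
    rw [mul_inv_rev, ← mul_assoc, mul_inv_eq_iff_eq_mul, this]; group
  have k3 := h.h13_SL k0 (hk hl) m hm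
  rw [k2 _ (vv_mem_VV _ _ _)] at e ⊢
  rw [k1, k1, ← e]
  generalize hh σ x 1 k * hh σ x 3 k = g at k3
  calc _ = m * g * vv x d c r * (m * g)⁻¹ := by group
    _ = _ := by rw [k3]; group

theorem V_sing {d c r : E} (hd : σ d = d) (hr : σ r = r) (e : c * σ c = d * r) :
    ∃ p ∈ PB x, ∃ l, σ l = l ∧ p * vv x d c r * p⁻¹ = x 1 l := by
  rcases eq_or_ne d 0 with rfl | d0
  · obtain rfl : c = 0 := by simpa using e
    exact ⟨1, one_mem _, r, hr, by simp [h.s.vv_1]⟩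
  · have k := kill h (c := c) hd hr d0
    rw [e, mul_div_cancel_left₀ _ d0, h.s.add_self] at k
    obtain ⟨p, hp, k⟩ := k.trans (mn h hd (map_zero σ) 0)
    exact ⟨p, hp, d, hd, by rw [k, map_zero, h.s.vv_1]⟩

theorem V_nsing {d c r : E} (hd : σ d = d) (hr : σ r = r) (e : c * σ c ≠ d * r) :
    ∃ p ∈ PB x, ∃ l, σ l = l ∧ l ≠ 0 ∧ p * vv x d c r * p⁻¹ = x 2 l := by
  suffices ∃ l, σ l = l ∧ l ≠ 0 ∧ Cj (PB x) (vv x d c r) (x 2 l) by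
    obtain ⟨l, h1, h2, p, hp, k⟩ := this
    exact ⟨p, hp, l, h1, h2, k⟩
  rcases eq_or_ne d 0 with rfl | d0
  · exact nz h hr fun e' => e (by simp [e'])
  have k1 : σ (r + c * σ c / d) = r + c * σ c / d := by rw [map_add, map_div₀, h.s.fxN, hr, hd]
  obtain ⟨s, hs⟩ := h.qd.N_surj (r := (r + c * σ c / d) / d) (by rw [map_div₀, k1, hd])
  obtain ⟨l, h1, h2, k⟩ := nz h hd (c := σ (σ s * d)) (by
    rw [map_ne_zero, mul_ne_zero_iff, map_ne_zero]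
    refine ⟨fun e' => e ?_, d0⟩
    rw [e', zero_mul, eq_comm, div_eq_zero_iff, or_iff_left d0] at hs
    rw [h.s.eq_of_add hs, mul_div_cancel₀ _ d0])
  refine ⟨l, h1, h2, (kill h hd hr d0).trans (Cj.trans ⟨_, x0_PB s, ?_⟩
    ((mn h hd (map_zero σ) _).trans k))⟩
  rw [h.s.conj0 _ hd k1, hs, div_mul_cancel₀ _ d0, h.s.add_self]
  simp

theorem V_long {d c r : E} (hd : σ d = d) (hr : σ r = r) (e : c * σ c = d * r)
    (h1 : vv x d c r ≠ 1) : ∃ l ∈ LL x, l * vv x d c r * l⁻¹ = x 1 1 := by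
  obtain ⟨p, hp, l, hl, k⟩ := h.V_sing hd hr e
  have l0 : l ≠ 0 := fun e => h1 (by rwa [e, h.s.zero, conj_eq_one_iff] at k)
  obtain ⟨m, hm, hm'⟩ := h.qd.sqrt l⁻¹
  refine Cj.trans ⟨p, PB_le_LL hp, k⟩ ⟨_, hh_mem_LL (σ := σ) 1 m, ?_⟩
  have := h.h1_uu (s := m) (fun e => l0 (by simpa [e] using hm.symm))
    (hm' (by rw [map_inv₀, hl])) 0 0 0 l
  rwa [mul_zero, hm, inv_mul_cancel₀ l0, h.s.uu_zero, h.s.uu_zero, h.s.vv_1, h.s.vv_1] at this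

theorem V_short {d c r : E} (hd : σ d = d) (hr : σ r = r) (e : c * σ c ≠ d * r) :
    ∃ l ∈ LL x, l * vv x d c r * l⁻¹ = x 2 1 := by
  obtain ⟨p, hp, l, hl, l0, k⟩ := h.V_nsing hd hr e
  refine Cj.trans ⟨p, PB_le_LL hp, k⟩ ⟨_, hh_mem_LL (σ := σ) 1 l⁻¹, ?_⟩
  have := h.h1_uu (inv_ne_zero l0) (by rw [map_inv₀, hl]) 0 0 l 0
  rwa [mul_zero, mul_zero, inv_mul_cancel₀ l0, h.s.uu_zero, h.s.uu_zero, h.s.vv_2, h.s.vv_2] at this

theorem V_gen {N : Subgroup G}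
    (hN : ∀ d c r, σ d = d → σ r = r → c * σ c ≠ d * r → vv x d c r ∈ N) : VV x ≤ N := by
  have k : ∀ c, x 2 c ∈ N := fun c => by
    rcases eq_or_ne c 0 with rfl | c0
    · rw [h.s.zero]; exact one_mem _
    · exact h.s.vv_2 c ▸ hN 0 c 0 (map_zero σ) (map_zero σ) (by simpa using c0)
  refine sup_le ((h.s.rtl_le (by decide)).2 fun d hd => ?_)
    (sup_le (rt_le.2 k) ((h.s.rtl_le (by decide)).2 fun r hr => ?_))
  · have := hN d 1 0 hd (map_zero σ) (by simp)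
    rwa [vv, h.s.zero, mul_one, mul_mem_cancel_right (k 1)] at this
  · have := hN 0 1 r (map_zero σ) hr (by simp)
    rwa [h.s.vv_21, mul_mem_cancel_left (k 1)] at this

theorem inv_V {v : G} (hv : v ∈ LL x) (h2 : v * v = 1) : ∃ l ∈ LL x, l * v * l⁻¹ ∈ VV x := by
  have : Fact (Nat.Prime 2) := ⟨Nat.prime_two⟩
  obtain ⟨l, hl, k⟩ := h.syl.exists_cj_le (two_zp h2) (zpowers_le.2 hv)
  obtain ⟨a, d, c, r, hd, hr, e⟩ := h.s.mem_UU.1 (k (conj_mem_cj.2 (mem_zpowers v)))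
  rcases eq_or_ne a 0 with rfl | a0
  · exact ⟨l, hl, by rw [e, h.s.uu_zero]; exact vv_mem_VV _ _ _⟩
  obtain ⟨rfl, k1⟩ := ((h.inv_U hd hr).1 (by rw [← e, conj_mul, h2]; simp)).resolve_left a0
  have a1 : σ a ≠ 0 := (map_ne_zero σ).2 a0
  have k2 : σ (c / σ a) = c / σ a := by
    rw [map_div₀, h.s.ss, div_eq_div_iff a0 a1]
    linear_combination k1 - a * c * h.s.two
  refine ⟨nn σ x 3 1 * x 3 (c / σ a) * l, mul_mem (mul_mem (nn_mem_LL 3 1) (x_mem_LL 3 _)) hl, ?_⟩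
  have k3 : x 3 (c / σ a) * uu x a 0 c r * (x 3 (c / σ a))⁻¹ =
      x 0 a * (x 1 (a * σ a * (c / σ a)) * x 1 r) := by
    rw [uu, h.s.vv_21, ← conj_mul, h.s.r30 a k2, ← ((h.s.c23 c _).mul_left (h.s.c13 r _)).eq,
      mul_inv_cancel_right, mul_div_cancel₀ _ a1, mul_assoc, mul_assoc, ← mul_assoc (x 1 _),
      (h.s.c12 _ c).eq, mul_assoc, ← mul_assoc (x 2 c), h.s.mul_self, one_mul]
  rw [show ∀ a b : G, a * b * l * v * (a * b * l)⁻¹ = a * (b * (l * v * l⁻¹) * b⁻¹) * a⁻¹ from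
    fun a b => by group, e, k3, ← conj_mul, ← conj_mul, h.nn_one, h.nn_one, h.nn_one]
  exact mul_mem (NN_le_VV (X2_le_NN (x_mem_rt 2 _)))
    (mul_mem (R_le_VV (x_mem_rt 1 _)) (R_le_VV (x_mem_rt 1 _)))

theorem classes {v : G} (hv : v ∈ LL x) (h2 : v * v = 1) (h1 : v ≠ 1) :
    ∃ l ∈ LL x, l * v * l⁻¹ = x 1 1 ∨ l * v * l⁻¹ = x 2 1 := by
  obtain ⟨l, hl, k⟩ := h.inv_V hv h2
  obtain ⟨d, c, r, hd, hr, e⟩ := h.s.mem_VV.1 k
  by_cases k1 : c * σ c = d * r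
  · obtain ⟨p, hp, k⟩ := Cj.trans ⟨l, hl, e⟩ (h.V_long hd hr k1 (by simpa [← e] using h1))
    exact ⟨p, hp, Or.inl k⟩
  · obtain ⟨p, hp, k⟩ := Cj.trans ⟨l, hl, e⟩ (h.V_short hd hr k1)
    exact ⟨p, hp, Or.inr k⟩

theorem inv_elem {v : G} (hv : v ∈ LL x) (h2 : v * v = 1) :
    ∃ A : Subgroup G, A ≤ LL x ∧ v ∈ A ∧ (∀ a ∈ A, a * a = 1) ∧ Nat.card A = qn σ ^ 4 := by
  obtain ⟨l, hl, k⟩ := h.inv_V hv h2
  refine ⟨cj l⁻¹ (VV x), (cj_mono _ VV_le_LL).trans (cj_eq_of_mem (inv_mem hl)).le,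
    mem_cj.2 (by simpa using k), ?_, by rw [card_cj, h.card_VV]⟩
  rintro _ ⟨a, ha, rfl⟩
  rw [← map_mul, h.s.sq_VV ha, map_one]

theorem central {v : G} (hv : v ∈ LL x) (h2 : v * v = 1) (h1 : v ≠ 1)
    {T : Subgroup G} (hT : IsPGroup 2 T) (hle : T ≤ LL x ⊓ C1 v) (hc : qn σ ^ 6 ≤ Nat.card T) :
    ∃ l ∈ LL x, l * v * l⁻¹ = x 1 1 := by
  have : Fact (Nat.Prime 2) := ⟨Nat.prime_two⟩
  obtain ⟨l, hl, k⟩ := h.syl.exists_cj_le (hT.to_sup_of_normal_right' (two_zp h2) fun t ht =>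
    cj_eq_self_iff.1 (by rw [cj_zpowers, mem_C1.1 (hle ht).2, mul_inv_cancel_right]))
    (sup_le (hle.trans inf_le_left) (zpowers_le.2 hv))
  have e : cj l T = UU x := eq_of_le_of_card_ge ((cj_mono _ le_sup_left).trans k)
    (by rwa [card_cj, h.card_UU])
  obtain ⟨r, hr, e1⟩ := (h.s.mem_rtl (by decide)).1 (h.z1.le
    (⟨k (conj_mem_cj.2 (mem_sup_right (mem_zpowers v))), by
      rw [← e]
      rintro _ ⟨t, ht, rfl⟩
      exact (conj_mul.trans (by rw [mem_C1.1 (hle ht).2])).trans conj_mul.symm⟩ :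
      l * v * l⁻¹ ∈ UU x ⊓ Cs (UU x)))
  rw [← h.s.vv_1] at e1
  exact Cj.trans ⟨l, hl, e1⟩ (h.V_long (map_zero σ) hr (by simp) (by simpa [← e1] using h1))

theorem elemL {A : Subgroup G} (hA : A ≤ LL x) (h2 : ∀ a ∈ A, a * a = 1) :
    (∃ l ∈ LL x, cj l A ≤ VV x) ∨ Nat.card A ≤ qn σ ^ 3 := by
  have : Fact (Nat.Prime 2) := ⟨Nat.prime_two⟩
  obtain ⟨l, hl, k⟩ := h.syl.exists_cj_le (two h2) hA
  refine (h.elem_le k ?_).imp (fun e => ⟨l, hl, e⟩) fun e => by rwa [card_cj] at e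
  rintro _ ⟨a, ha, rfl⟩
  rw [← map_mul, h2 a ha, map_one]

theorem gen_inv {H : Subgroup G} (k : ∀ v ∈ LL x, v * v = 1 → v ∈ H) : LL x ≤ H :=
  LL_le.2 fun i s => k _ (x_mem_LL i s) (h.s.mul_self i s)

end Sys

end Cfsg.Lib.U42
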