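import Cfsg.Agent.U42.M3b
import Cfsg.Agent.U42.M3v
import Cfsg.Agent.SG2.P1

/-!
# Standard subgroups of type `U₄(2)`: basic consequences of the hypotheses
-/

set_option autoImplicit false
set_option linter.unusedSectionVars false

namespace Cfsg.Lib.U42

open Subgroup Cfsg.Lib.Trans Cfsg.Lib.Gold
open Cfsg.Lib.SG2 (Uq Top Pp)
open scoped commutatorElement MatrixGroups

variable {G E : Type*} [Group G] [Finite G] [Field E] [Finite E] {σ : E ≃+* E}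
  {x : ZMod 8 → E → G} {t : G}

theorem Hyp.cx (h : Hyp σ x t) (g : G) : Hyp σ (cx x g) (g * t * g⁻¹) where
  toSys := h.toSys.cx g
  t2 := Comp.conj_sq h.t2 g
  t1 := by simpa using h.t1
  tc i s := (h.tc i s).map (MulAut.conj g)
  cn := by rw [LL_cx, ← cj_C1, ← cj_Ns]; exact cj_mono g h.cn
  cyc P hP hle := by
    rw [LL_cx, ← cj_Cs] at hle
    have := h.cyc _ (isPGroup_cj hP g⁻¹) (cj_inv_le_iff_le_cj.2 hle)
    exact isCyclic_of_injective (cjEquiv g⁻¹ P).toMonoidHom (cjEquiv g⁻¹ P).injective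

theorem Hyp.L_le (h : Hyp σ x t) : LL x ≤ C1 t := LL_le.2 fun i s => mem_C1.2 (h.tc i s).symm

theorem Hyp.tC (h : Hyp σ x t) : t ∈ Cs (LL x) := mem_Cs.2 fun _ hu => mem_C1.1 (h.L_le hu)

theorem Hyp.inv_eq (h : Hyp σ x t) {c : G} (hc : c ∈ Cs (LL x)) (c2 : c * c = 1)
    (ct : Commute c t) : c = 1 ∨ c = t := by
  have hA := Comp.sq_sup (Comp.sq_zpowers c2) (Comp.sq_zpowers h.t2) fun a ha b hb => by
    rcases Tl.mem_zpowers_of_sq c2 ha with rfl | rfl <;>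
      rcases Tl.mem_zpowers_of_sq h.t2 hb with rfl | rfl <;> simp [ct.eq]
  obtain ⟨r, hr⟩ := (Subgroup.isCyclic_iff_exists_zpowers_eq_top _).1 (h.cyc _ (isPGroup_of_sq hA)
    (sup_le (zpowers_le.2 hc) (zpowers_le.2 h.tC)))
  exact or_iff_not_imp_left.2 fun c1 => Comp.zpowers_uniq c (hr ▸ mem_sup_left (mem_zpowers c)) t
    (hr ▸ mem_sup_right (mem_zpowers t)) c2 h.t2 c1 h.t1

theorem Hyp.perf (h : Hyp σ x t) {Y : Subgroup G} (hY : ⁅Y, Y⁆ = Y) (hn : Y ≤ C1 t) :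
    Y ≤ LL x := by
  obtain ⟨T⟩ : Nonempty (Sylow 2 (Cs (LL x))) := inferInstance
  have := h.cyc _ (T.2.map (Cs (LL x)).subtype) (map_subtype_le _)
  exact GW.Lift.perfect_le_of_le_sup hY (h.toSys.perf_le hY (hn.trans h.cn)) Cs_le_Ns
    (Cor.isSolvable_of_isCyclic_sylow_two T (isCyclic_of_injective
      (equivMapOfInjective _ _ (subtype_injective _)).toMonoidHom (MulEquiv.injective _)))

namespace P1a

theorem one_of (h : Sys σ x) {v : G} (h1 : v ∈ LL x) (h2 : v ∈ Cs (LL x)) : v = 1 :=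
  mem_bot.1 (h.cent ▸ mem_inf.2 ⟨h1, h2⟩)

end P1a

theorem Hyp.cj_RT (h : Hyp σ x t) {w : G} (hw : w ∈ C1 t) {i j : ZMod 8}
    (e : cj w (rt x i) = rt x j) : cj w (RT x t i) = RT x t j := by
  rw [RT, RT, cj_Rt, mem_Ns_iff.1 (h.cn hw), e, Comp.conj_eq_of_comm (mem_C1.1 hw)]

theorem Ot_le : Ot x t ≤ C1 t ⊓ Cs (LL x) := Oc_le

theorem odd_Ot {o : G} (ho : o ∈ Ot x t) : Odd (orderOf o) :=
  (odd_card_Oc (L := C1 t ⊓ Cs (LL x))).of_dvd_nat (orderOf_dvd_natCard _ ho)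

theorem H1.two_mem (h : H1 σ x t) {c : G} (hc : c ∈ C1 t ⊓ Cs (LL x)) (h2 : Comp.Tw c) :
    c ∈ zpowers t := by
  have key : ∀ {c : G}, c ∈ Ot x t → Comp.Tw c → c = 1 := fun hc h2 =>
    eq_one_of_mem_of_odd h2.isPGroup odd_card_Oc (mem_zpowers _) hc
  rcases h.dec c hc with h1 | h1
  · exact key h1 h2 ▸ one_mem _
  · obtain ⟨k, hk⟩ := h2
    rw [eq_inv_of_mul_eq_one_right (key h1 ⟨k + 1, by
      rw [(Commute.symm (mem_C1.1 hc.1)).mul_pow, pow_succ, pow_mul c, hk, one_pow, mul_one,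
        mul_comm, pow_mul, pow_two, h.t2, one_pow]⟩)]
    exact inv_mem (mem_zpowers t)

theorem H1.two_bound (h : H1 σ x t) {T : Subgroup G} (hT : IsPGroup 2 T) (hle : T ≤ C1 t) :
    Nat.card T ≤ 256 := by
  have hs := h.toHyp.toSys
  have h0 := hs.idx_out (hle.trans h.cn)
  have h1 : T ⊓ (LL x ⊔ Cs (LL x)) ≤ (LL x ⊔ zpowers t) ⊓ T := by
    rintro g ⟨gT, hg⟩
    refine ⟨?_, gT⟩
    obtain ⟨m, hm, d, hc, rfl⟩ := (Solv.mem_sup_of_le_normalizer Cs_le_Ns).1 hg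
    obtain ⟨k, hk⟩ := Comp.Tw.of_mem hT gT
    have h2 := mul_mem (inv_mem (h.toHyp.L_le hm)) (hle gT)
    rw [inv_mul_cancel_left] at h2
    rw [Commute.mul_pow (mem_Cs.1 hc m hm)] at hk
    exact mul_mem (mem_sup_left hm) (mem_sup_right (h.two_mem ⟨h2, hc⟩ ⟨k, P1a.one_of hs
      (eq_inv_of_mul_eq_one_right hk ▸ inv_mem (pow_mem hm _)) (pow_mem hc _)⟩))
  have h1' := Subgroup.card_le_of_le h1
  have h2 : (LL x).relIndex (LL x ⊔ zpowers t) = 2 := by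
    have h3 := Solv.PG.card_sup_zpowers Nat.prime_two (Cs_le_Ns h.toHyp.tC)
      (fun e => h.t1 (P1a.one_of hs e h.toHyp.tC)) (by rw [pow_two, h.t2]; exact one_mem _)
    rw [← Solv.PG.relIndex_mul_card le_sup_left] at h3
    exact Nat.eq_of_mul_eq_mul_right Nat.card_pos h3
  have h4 := Solv.PG.relIndex_mul_card_inf (LL x) ((LL x ⊔ zpowers t) ⊓ T)
  have h5 : (LL x).relIndex ((LL x ⊔ zpowers t) ⊓ T) ≤ 2 :=
    h2 ▸ relIndex_le_of_le_right inf_le_left (h2 ▸ two_ne_zero)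
  have h6 := hs.syl.card_le (Q := LL x ⊓ ((LL x ⊔ zpowers t) ⊓ T))
    (hT.to_le (inf_le_right.trans inf_le_right)) inf_le_left
  rw [hs.card_UU] at h6
  have h7 := hs.qd.card_aut (n := 1) hs.q2
  rw [hs.q2] at h6
  calc Nat.card T ≤ Nat.card (E ≃+* E) * (2 * 2 ^ 6) := by
        refine h0.trans (Nat.mul_le_mul_left _ (h1'.trans ?_))
        rw [← h4]; gcongr
    _ = _ := by rw [h7]; rfl

theorem H1.mem_Ot (h : H1 σ x t) {c : G} (hc : c ∈ C1 t ⊓ Cs (LL x)) (ho : Odd (orderOf c)) :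
    c ∈ Ot x t := by
  refine (h.dec c hc).resolve_right fun h1 => h.t1 (eq_one_of_sq_of_odd h.t2 ?_)
  refine ((odd_Ot h1).mul ho).of_dvd_nat (orderOf_dvd_of_pow_eq_one ?_)
  have := (Commute.symm (mem_C1.1 hc.1)).mul_pow (orderOf (t * c) * orderOf c)
  rw [pow_mul, pow_orderOf_eq_one, one_pow, mul_comm _ (orderOf c), pow_mul c, pow_orderOf_eq_one,
    one_pow, mul_one, mul_comm] at this
  exact this.symm

theorem H1.split (h : H1 σ x t) {g p : G} (hg : Commute g t) (hp : p ∈ LL x)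
    (hc : p⁻¹ * g ∈ Cs (LL x)) : ∃ o ∈ Ot x t, g = p * o ∨ g = p * t * o := by
  have pt : Commute p t := mem_C1.1 (h.toHyp.L_le hp)
  rcases h.dec _ ⟨mem_C1.2 (pt.inv_left.mul_left hg).eq, hc⟩ with h1 | h1
  · exact ⟨_, h1, Or.inl (by group)⟩
  · exact ⟨_, h1, Or.inr (by rw [mul_assoc, ← mul_assoc t, h.t2]; group)⟩

theorem H1.odd_Cs (h : H1 σ x t) {K : Subgroup G} (hK : LL x ≤ K) (hO : Ot x t ≤ Cs K)
    (ht : t ∈ Ns K) (hn : t ∉ Cs K) : Odd (Nat.card (Cs K)) := by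
  by_contra he
  rw [Nat.not_odd_iff_even, even_iff_two_dvd] at he
  obtain ⟨b, hb⟩ := exists_prime_orderOf_dvd_card' 2 he
  have b1 : (b : G) ≠ 1 := fun e => by
    rw [OneMemClass.coe_eq_one.1 e, orderOf_one] at hb; omega
  have b2 : (b : G) * b = 1 := by
    rw [← pow_two, ← hb, ← coe_pow, pow_orderOf_eq_one, coe_one]
  obtain ⟨c, hc, c1, c2, ct⟩ := Comp.exists_fix_even (Comp.Tw.of_sq h.t2).isPGroup
    (zpowers_le.2 (mem_Ns_Cs ht)) b.2 b1 (Comp.Tw.of_sq b2)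
  rw [Cs_zpowers] at ct
  rcases h.toHyp.inv_eq (Cs_anti hK hc) c2 (mem_C1.1 ct) with e | e
  · exact c1 e
  · exact hn (e ▸ hc)

end Cfsg.Lib.U42
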