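import Cfsg.Agent.U42.Hyp
import Cfsg.Agent.U42.M1s
import Cfsg.Agent.U42.M1n
import Cfsg.Agent.U42.P1a

/-!
# Standard subgroups of type `U₄(2)`: the split case of the dichotomy
-/

set_option autoImplicit false
set_option linter.unusedSectionVars false

namespace Cfsg.Lib.U42

open Subgroup Cfsg.Lib.Trans Cfsg.Lib.Gold

namespace E0

section
variable {K Γ : Type*} [CommRing K] [Group Γ] {ρ : K ≃+* K} {y : ZMod 8 → K → Γ} (h : U4S ρ y)
include h

theorem com_lt {d : ZMod 8} (hd : d.val ≤ 3) (i : ZMod 8) {a b : K} (e : a * b = 0)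
    (e' : ρ a * b = 0) : Commute (y i a) (y (i + d) b) := by
  have k1 : ρ a * ρ b = 0 := by rw [← map_mul, e, map_zero]
  have k2 : ρ b * a = 0 := by rw [← h.ss a, ← map_mul, mul_comm, e', map_zero]
  have f : ∀ {u v : Γ}, u * v * u⁻¹ = v → Commute u v := fun e => mul_inv_eq_iff_eq_mul.1 e
  rcases (by revert d; decide : d = 0 ∨ d = 1 ∨ d = 2 ∨ d = 3) with rfl | rfl | rfl | rfl
  · rw [add_zero]; exact h.c0 i a b
  · exact h.c1 i a b
  · by_cases hi : Ev i
    · exact f (by rw [h.c2s i hi, e, k1, add_zero, h.zero, mul_one])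
    · exact h.c2l i hi a b
  · by_cases hi : Ev i
    · by_cases hb : ρ b = b
      · exact f (by rw [h.c3p i hi a b hb, mul_assoc a, e', mul_zero, h.zero, h.zero, mul_one,
          mul_one])
      · rw [h.junk (i + 3) (by revert hi; revert i; decide) b hb]
        exact Commute.one_right _
    · by_cases ha : ρ a = a
      · have := h.c3m (i + 3) (by revert hi; revert i; decide) b a ha
        rw [add_sub_cancel_right, mul_assoc b, k2, mul_zero, h.zero, h.zero, mul_one,
          mul_one] at this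
        exact (f this).symm
      · rw [h.junk i hi a ha]
        exact Commute.one_left _

theorem com_ne {i j : ZMod 8} (hij : j ≠ i + 4) {a b : K} (e : a * b = 0) (e' : ρ a * b = 0) :
    Commute (y i a) (y j b) := by
  rcases (by revert i j; decide : (j - i).val ≤ 3 ∨ (i - j).val ≤ 3) with c | c
  · simpa using com_lt h c i e e'
  · simpa using (com_lt h c j (mul_comm a b ▸ e)
      (by rw [← h.ss a, ← map_mul, mul_comm, e', map_zero])).symm

theorem com {ε θ a b : K} (hε : ρ ε = ε) (hθ : θ + ρ θ = 1) (ha : ε * a = a) (hb : ε * b = 0)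
    (i j : ZMod 8) : Commute (y i a) (y j b) := by
  have m : ∀ l c, j ≠ l + 4 → y l (ε * c) ∈ C1 (y j b) := fun l c hl =>
    mem_centralizer_singleton_iff.2 (com_ne h hl (by linear_combination c * hb)
      (by rw [map_mul, hε]; linear_combination ρ c * hb))
  refine mem_centralizer_singleton_iff.1 ?_
  by_cases hij : j = i + 4
  swap
  · exact ha ▸ m i a hij
  subst hij
  obtain ⟨d1, d2, d3, d4, d5, d6, d7⟩ := (by decide : ∀ i : ZMod 8, (Ev i → Ev (i - 2)) ∧
    (¬ Ev i → Ev (i - 1)) ∧ i + 4 ≠ i - 2 + 3 + 4 ∧ i + 4 ≠ i - 2 + 4 ∧ i + 4 ≠ i - 2 + 1 + 4 ∧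
    i + 4 ≠ i - 1 + 2 + 4 ∧ i + 4 ≠ i - 1 + 4) i
  by_cases hi : Ev i
  · have e := h.c3p (i - 2) (d1 hi) (ε * ρ a) (ε * 1) (by rw [mul_one, hε])
    rw [sub_add_cancel, map_mul, hε, h.ss, ha, show a * (ε * 1) = a by linear_combination ha,
      mul_assoc ε, mul_assoc ε] at e
    have m1 := m (i - 2 + 3) 1 d3
    have m2 := m (i - 2) (ρ a) d4
    have := mul_mem (mul_mem m2 m1) (inv_mem m2)
    rw [e] at this
    exact (mul_mem_cancel_left m1).1 ((mul_mem_cancel_right (m _ _ d5)).1 this)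
  · by_cases fa : ρ a = a
    swap
    · rw [h.junk i hi a fa]; exact one_mem _
    have e := h.c2s (i - 1) (d2 hi) (ε * 1) (ε * (a * θ))
    rw [sub_add_cancel, show ε * 1 * (ε * (a * θ)) + ρ (ε * 1) * ρ (ε * (a * θ)) = a by
      simp only [map_mul, map_one, hε, fa]
      linear_combination ε * ε * a * hθ + (ε + 1) * ha] at e
    have m1 := m (i - 1 + 2) (a * θ) d6
    have m2 := m (i - 1) 1 d7
    have := mul_mem (mul_mem m2 m1) (inv_mem m2)
    rw [e] at this
    exact (mul_mem_cancel_left m1).1 this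

end

end E0

variable {G E : Type*} [Group G] [Finite G] [Field E] [Finite E] {σ : E ≃+* E}
  {x : ZMod 8 → E → G} {t : G}

theorem H4.split {β : E} {hβ : σ β = β} {y : ZMod 8 → EK β → G} (h : H4 σ x t hβ y) {γ : E}
    (hγ : γ * γ = γ + β) (fγ : σ γ = γ) : ∃ y' z' : ZMod 8 → E → G, ES σ x t y' z' := by
  have h2 := h.s.two
  obtain ⟨ε, e1, e2, e3, e5, e6⟩ : ∃ ε : EK β, ε * ε = ε ∧ star ε = 1 + ε ∧
      (∀ k, ∃ a b : E, k = a • ε + b • (1 + ε) ∧ (qb σ hβ k = k → σ a = a ∧ σ b = b)) ∧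
      qb σ hβ ε = ε ∧ ε.im = 1 :=
    ⟨⟨γ, 1⟩, by
      ext <;> simp
      · linear_combination hγ + β * h2
      · linear_combination γ * h2, by
      ext <;> simp [QuadraticAlgebra.re_one, QuadraticAlgebra.im_one]
      · exact add_comm _ _
      · linear_combination -h2, fun k => ⟨k.re + k.im * (1 + γ), k.re + k.im * γ, by
      ext <;> simp [QuadraticAlgebra.re_one, QuadraticAlgebra.im_one]
      · linear_combination -(k.re * γ + k.im * γ + k.im * γ ^ 2) * h2
      · linear_combination -(k.re + k.im * γ) * h2, fun e => by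
      simp only [map_add, map_mul, map_one, fγ, (qb_fix.1 e).1, (qb_fix.1 e).2, and_self]⟩,
      qb_fix.2 ⟨fγ, map_one σ⟩, rfl⟩
  have two := h.gs.two
  have e4 : (1 + ε) * (1 + ε) = 1 + ε := by linear_combination e1 + ε * two
  have e7 : qb σ hβ (1 + ε) = 1 + ε := by rw [map_add, map_one, e5]
  have e8 : (1 + ε).im = 1 := by simp [e6, QuadraticAlgebra.im_one]
  have inj : ∀ η : EK β, η.im = 1 → Function.Injective fun s : E => s • η := fun η e s u e' => by
    simpa [e] using congrArg QuadraticAlgebra.im e'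
  have gs : ∀ η : EK β, η * η = η → qb σ hβ η = η → η.im = 1 →
      U4S σ fun i (s : E) => y i (s • η) := fun η e e' e'' =>
    h.gs.comp _ (inj η e'') (fun s u => add_smul s u η)
      (fun s u => by rw [smul_mul_smul_comm, e]) fun s => by rw [qb_smul, e']
  have g1 := gs ε e1 e5 e6
  have g2 := gs _ e4 e7 e8
  have rs : ∀ i s, x i s = y i (s • ε) * y i (s • (1 + ε)) := fun i s => by
    rcases h.s.ok i s with c | c
    · rw [← h.gs.add (c.imp id fun c => ⟨by rw [qb_smul, c, e5], by rw [qb_smul, c, e7]⟩),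
        ← smul_add, ← h.res, show ε + (1 + ε) = 1 by linear_combination ε * two,
        Algebra.algebraMap_eq_smul_one]
    · by_cases c' : Ev i ∨ σ s = s
      · rw [← h.gs.add (c'.imp id fun c => ⟨by rw [qb_smul, c, e5], by rw [qb_smul, c, e7]⟩),
          ← smul_add, ← h.res, show ε + (1 + ε) = 1 by linear_combination ε * two,
          Algebra.algebraMap_eq_smul_one]
      · rw [not_or] at c'
        rw [c, g1.junk i c'.1 s c'.2, g2.junk i c'.1 s c'.2, one_mul]
  have ac : ∀ i (s : E), t * y i (s • ε) * t⁻¹ = y i (s • (1 + ε)) := fun i s => by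
    rw [h.st i, ← e2]
    congr 1; ext <;> simp; ring
  obtain ⟨θ, hθ⟩ := h.toSys.qd.exists_th
  have cm : ∀ i j (s u : E), Commute (y i (s • ε)) (y j (u • (1 + ε))) := fun i j s u =>
    E0.com h.gs (θ := algebraMap E _ θ) e5 (by rw [qb_alg, ← map_add, hθ, map_one])
      (by rw [mul_smul_comm, e1])
      (by rw [mul_smul_comm, show ε * (1 + ε) = 0 by linear_combination e1 + ε * two, smul_zero])
      i j
  have n1 : y 1 ((1 : E) • ε) ≠ 1 := fun e => h.toSys.x_ne 1 (by rw [rs, ← ac, e]; group)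
  have eq : LL (fun i (s : E) => y i (s • ε)) ⊔ LL (fun i (s : E) => y i (s • (1 + ε))) = LL y :=
    le_antisymm (sup_le (LL_le.2 fun i s => x_mem_LL i _) (LL_le.2 fun i s => x_mem_LL i _))
      (LL_le.2 fun i k => by
        rcases h.gs.ok i k with c | c
        · obtain ⟨a, b, e, f⟩ := e3 k
          rw [e, h.gs.add (c.imp id fun c => ⟨by rw [qb_smul, (f c).1, e5],
            by rw [qb_smul, (f c).2, e7]⟩)]
          exact mul_mem (mem_sup_left (x_mem_LL i a)) (mem_sup_right (x_mem_LL i b))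
        · rw [c]; exact one_mem _)
  have ac' : ∀ i (s : E), t * y i (s • (1 + ε)) * t⁻¹ = y i (s • ε) := fun i s => by
    rw [← ac, ← mul_assoc, ← mul_assoc, h.t2, one_mul, mul_assoc, ← mul_inv_rev, h.t2, inv_one,
      mul_one]
  have hu := fun a ha => h.toHyp.inv_eq (c := a) ha
  exact ⟨_, _, h.toH1, h.toSys.of_diag g1 g2 cm rs n1 ac ac' hu,
    h.toSys.of_diag g2 g1 (fun i j s u => (cm j i u s).symm)
      (fun i s => by rw [rs, (cm i i s s).eq])
      (fun e => n1 (conj_eq_one_iff.1 ((ac 1 1).trans e))) ac' ac hu,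
    rs, cm, ac, eq ▸ h.cO, eq ▸ h.nL⟩

end Cfsg.Lib.U42
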