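import Cfsg.Agent.U42.NS
import Cfsg.Agent.SU4.UFT
import Cfsg.Agent.SG2.FSF

/-!
# Standard subgroups of type `U₄(2)`: strong closure and product fusion in the split case
-/

set_option autoImplicit false
set_option linter.unusedSectionVars false

namespace Cfsg.Lib.U42

open Subgroup Cfsg.Lib.Trans Cfsg.Lib.Gold
open Cfsg.Lib.SG2 (Uq Top Pp)
open Cfsg.Lib.SU4 (uft ctr)
open scoped commutatorElement MatrixGroups

variable {G E : Type*} [Group G] [Finite G] [Field E] [Finite E] {σ : E ≃+* E}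
  {x y z : ZMod 8 → E → G} {t a b g v w : G} {X T A B N : Subgroup G}

namespace END

theorem common (hT : IsSylowIn 2 T X) (hA : IsPGroup 2 A) (hB : IsPGroup 2 B) (h1 : A ≤ X ⊓ C1 w)
    (h2 : B ≤ X ⊓ C1 w) : ∃ k ∈ X ⊓ C1 w, ∃ f ∈ X, cj f A ≤ T ∧ cj (f * k) B ≤ T := by
  have := Fact.mk Nat.prime_two
  obtain ⟨R, hR, k1⟩ := exists_isSylowIn_ge hA h1
  obtain ⟨k, hk, k2⟩ := hR.exists_cj_le hB h2
  obtain ⟨f, hf, k3⟩ := hT.exists_cj_le hR.isPGroup (hR.le.trans inf_le_left)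
  exact ⟨k, hk, f, hf, (cj_mono f k1).trans k3, by rw [cj_mul]; exact (cj_mono f k2).trans k3⟩

theorem sq_cj (h : ∀ a ∈ A, a * a = 1) (g : G) : ∀ a ∈ cj g A, a * a = 1 := fun a ha => by
  have := h _ (mem_cj.1 ha)
  rwa [show g⁻¹ * a * g * (g⁻¹ * a * g) = g⁻¹ * (a * a) * g by group, mul_assoc,
    inv_mul_eq_one, eq_comm, mul_eq_right] at this

theorem simple (hX : IsSimpleGroup X) (h1 : N ≤ X) (h2 : X ≤ Ns N) : N = ⊥ ∨ N = X := by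
  have : (N.subgroupOf X).Normal := ⟨fun n hn g => mem_normalizer_conj (T := N) (h2 g.2) hn⟩
  rcases hX.eq_bot_or_eq_top_of_normal _ this with e | e
  · left; rwa [subgroupOf_eq_bot, disjoint_iff, inf_of_le_left h1] at e
  · exact Or.inr (le_antisymm h1 (subgroupOf_eq_top.1 e))

variable (h : FS σ x t y z X)
include h

theorem LX : LL y ≤ X := le_sup_left.trans h.le

theorem com (ha : a ∈ LL y) (hb : b ∈ LL z) : b * a = a * b := mem_Cs.1 (h.toES.le_Cs ha) b hb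

theorem one (ha : a ∈ LL y) (hb : a ∈ LL z) : a = 1 := by
  have : a ∈ LL y ⊓ LL z := ⟨ha, hb⟩
  rwa [h.toES.inf] at this

theorem cUU : UU y ≤ Cs (UU z) := (UU_le_LL.trans h.toES.le_Cs).trans (Cs_anti UU_le_LL)

theorem J_le : VV y ⊔ VV z ≤ UU y ⊔ UU z := sup_le_sup VV_le_UU VV_le_UU

theorem J_comm : VV y ⊔ VV z ≤ Cs (VV y ⊔ VV z) := by
  have k : VV y ≤ Cs (VV z) := (VV_le_UU.trans (cUU h)).trans (Cs_anti VV_le_UU)
  exact sup_le (le_Cs_comm.1 (sup_le h.sy.s.VV_comm (le_Cs_comm.1 k)))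
    (le_Cs_comm.1 (sup_le k h.sz.s.VV_comm))

theorem J_sq : ∀ a ∈ VV y ⊔ VV z, a * a = 1 := fun a ha => by
  obtain ⟨b, hb, c, hc, rfl⟩ := (SG2.mem_sup_Cs
    ((VV_le_UU.trans (cUU h)).trans (Cs_anti VV_le_UU))).1 ha
  rw [mul_assoc, ← mul_assoc c, com h (VV_le_LL hb) (VV_le_LL hc), mul_assoc, h.sz.s.sq_VV hc,
    mul_one, h.sy.s.sq_VV hb]

theorem wc (hg : cj g (VV y ⊔ VV z) ≤ UU y ⊔ UU z) : cj g (VV y ⊔ VV z) = VV y ⊔ VV z :=
  h.toES.J_eq hg (sq_cj (J_sq h) g) (by rw [card_cj, h.toES.card_J])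

theorem ic0 (hv : v ∈ VV y) (hg : g ∈ X) (e : g * v * g⁻¹ ∈ VV y ⊔ VV z) : g * v * g⁻¹ ∈ VV y := by
  have k1 := (J_le h).trans h.syl.le
  have k2 := h.syl.isPGroup.to_le (J_le h)
  obtain ⟨k, hk, f, hf, e1, e2⟩ := common (w := g * v * g⁻¹) h.syl k2 (isPGroup_cj k2 g)
    (le_inf k1 ((J_comm h).trans (Cs_le_C1 e)))
    (le_inf (cj_le_of_mem_of_le hg k1) (by
      rw [← cj_C1]; exact cj_mono g ((J_comm h).trans (Cs_le_C1 (mem_sup_left hv)))))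
  rw [cj_cj] at e2
  have e3 := (wc h e2).trans (wc h e1).symm
  rw [mul_assoc, cj_mul, cj_inj] at e3
  have := mem_normalizer_conj (h.nV ⟨mul_mem hk.1 hg, mem_Ns_iff.2 e3⟩) hv
  rwa [show k * g * v * (k * g)⁻¹ = k * (g * v * g⁻¹) * k⁻¹ by group, mem_C1.1 hk.2,
    mul_inv_cancel_right] at this

theorem ic (hv : v ∈ LL y) (v2 : v * v = 1) (hg : g ∈ X) (e : g * v * g⁻¹ ∈ LL y ⊔ LL z) :
    g * v * g⁻¹ ∈ LL y := by
  obtain ⟨a, ha, b, hb, e1⟩ := (SG2.mem_sup_Cs h.toES.le_Cs).1 e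
  obtain ⟨a2, b2⟩ := SG2.sq_parts h.toES.le_Cs h.toES.inf ha hb (by
    rw [e1, show g * v * g⁻¹ * (g * v * g⁻¹) = g * (v * v) * g⁻¹ by group, v2]; group)
  obtain ⟨l, hl, k0⟩ := h.sy.inv_V hv v2
  obtain ⟨m, hm, k1⟩ := h.sy.inv_V ha a2
  obtain ⟨n, hn, k2⟩ := h.sz.inv_V hb b2
  have e2 : m * n * g * l⁻¹ * (l * v * l⁻¹) * (m * n * g * l⁻¹)⁻¹ = m * a * m⁻¹ * (n * b * n⁻¹) := by
    calc _ = m * (n * (g * v * g⁻¹) * n⁻¹) * m⁻¹ := by group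
      _ = m * (n * a * b * n⁻¹) * m⁻¹ := by rw [← e1]; group
      _ = m * a * (n * b * n⁻¹ * m⁻¹) := by rw [com h ha hn]; group
      _ = _ := by rw [com h (inv_mem hm) (VV_le_LL k2)]; group
  have k3 := ic0 h k0 (mul_mem (mul_mem (mul_mem (LX h hm) (LX h.symm hn)) hg) (inv_mem (LX h hl)))
    (e2 ▸ mul_mem (mem_sup_left k1) (mem_sup_right k2))
  rw [e2, mul_mem_cancel_left k1] at k3
  have k4 := one h (VV_le_LL k3) (VV_le_LL k2)
  rw [← e1, show b = 1 by simpa using k4, mul_one]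
  exact ha

theorem vc (hg : g ∈ X) (e : cj g (VV y) ≤ UU y ⊔ UU z) : cj g (VV y) = VV y := by
  refine h.sy.elem_eq (cj_le_iff.2 fun v hv => ?_) (sq_cj (fun _ => h.sy.s.sq_VV) g)
    (by rw [card_cj, h.sy.card_VV])
  have k := cj_le_iff.1 e v hv
  have k1 := ic h (VV_le_LL hv) (h.sy.s.sq_VV hv) hg (UU2_le k)
  obtain ⟨a, ha, b, hb, e1⟩ := (SG2.mem_sup_Cs (cUU h)).1 k
  rw [← e1] at k1 ⊢
  rw [one h ((mul_mem_cancel_left (UU_le_LL ha)).1 k1) (UU_le_LL hb), mul_one]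
  exact ha

theorem LC : LL y ≤ X ⊓ Cs (VV z) := le_inf (LX h) (h.toES.le_Cs.trans (Cs_anti VV_le_LL))

theorem UC : UU y ≤ ⁅X ⊓ Cs (VV z), X ⊓ Cs (VV z)⁆ :=
  (UU_le_LL.trans h.sy.perf.ge).trans (commutator_mono (LC h) (LC h))

theorem tc : ⁅X ⊓ Cs (VV z), X ⊓ Cs (VV z)⁆ ⊓ (UU y ⊔ VV z) ≤ UU y := by
  have := Fact.mk Nat.prime_two
  have k0 := (UU_le_LL.trans (LC h)).trans inf_le_right
  have k1 := (h.syl.mono (K := X ⊓ Ns (VV z))
    (le_inf h.syl.le (sup_le (k0.trans Cs_le_Ns) h.sz.s.UU_le_Ns_VV)) inf_le_left).inf_normal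
    (N := Cs (VV z)) fun _ hg => mem_Ns_Cs hg.2
  rw [inf_assoc, inf_of_le_right Cs_le_Ns] at k1
  have k2 : (UU y ⊔ UU z) ⊓ Cs (VV z) = UU y ⊔ VV z := by
    refine le_antisymm (fun g hg => ?_)
      (le_inf (sup_le_sup_left VV_le_UU _) (sup_le k0 h.sz.s.VV_comm))
    obtain ⟨a, ha, b, hb, rfl⟩ := (SG2.mem_sup_Cs (cUU h)).1 hg.1
    exact mul_mem (mem_sup_left ha)
      (mem_sup_right (h.sz.cVU.le ⟨hb, (mul_mem_cancel_left (k0 ha)).1 hg.2⟩))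
  rw [k2] at k1
  exact ctr k1 rfl (le_Cs_comm.1 inf_le_right)
    (eq_bot_iff.2 fun a ha => one h (UU_le_LL ha.1) (VV_le_LL ha.2)) (UC h)

theorem sc (ha : a ∈ UU y) (hg : g ∈ X) (e : g * a * g⁻¹ ∈ UU y ⊔ UU z) : g * a * g⁻¹ ∈ UU y := by
  obtain ⟨b, hb, c, hc, e1⟩ := (SG2.mem_sup_Cs (cUU h)).1 e
  have k0 := NN_le_VV (h.sy.s.sq_UU ha)
  have e2 : g * (a * a) * g⁻¹ = b * b * (c * c) := by
    calc _ = g * a * g⁻¹ * (g * a * g⁻¹) := by group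
      _ = b * (c * b) * c := by rw [← e1]; group
      _ = _ := by rw [com h (UU_le_LL hb) (UU_le_LL hc)]; group
  have k1 := ic h (VV_le_LL k0) (h.sy.s.sq_VV k0) hg
    (e2 ▸ UU2_le (mul_mem (mem_sup_left (mul_mem hb hb)) (mem_sup_right (mul_mem hc hc))))
  rw [e2, mul_mem_cancel_left (UU_le_LL (mul_mem hb hb))] at k1
  obtain ⟨l, hl, k2⟩ := h.sz.inv_V (UU_le_LL hc) (one h k1 (UU_le_LL (mul_mem hc hc)))
  have e3 : l * g * a * (l * g)⁻¹ = b * (l * c * l⁻¹) := by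
    calc _ = l * (g * a * g⁻¹) * l⁻¹ := by group
      _ = l * b * c * l⁻¹ := by rw [← e1]; group
      _ = _ := by rw [com h (UU_le_LL hb) hl]; group
  have hg' := mul_mem (LX h.symm hl) hg
  have k3 : VV z ≤ X := VV_le_LL.trans (LX h.symm)
  have k4 := h.sz.s.two_UU.to_le VV_le_UU
  have k5 : ∀ u ∈ UU y, u ∈ Cs (VV z) := fun u hu => (LC h (UU_le_LL hu)).2
  obtain ⟨k, hk, f, hf, f1, f2⟩ := common (w := l * g * a * (l * g)⁻¹) h.syl k4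
    (isPGroup_cj k4 (l * g))
    (le_inf k3 fun v hv => mem_C1.2 (mem_Cs.1 (e3 ▸ mul_mem (k5 b hb) (h.sz.s.VV_comm k2)) v hv))
    (le_inf (cj_le_of_mem_of_le hg' k3) (by
      rw [← cj_C1]; exact cj_mono _ fun v hv => mem_C1.2 (mem_Cs.1 (k5 a ha) v hv)))
  rw [cj_cj] at f2
  rw [sup_comm] at f1 f2
  have f3 := (vc h.symm (mul_mem (mul_mem hf hk.1) hg') f2).trans (vc h.symm hf f1).symm
  rw [mul_assoc, cj_mul, cj_inj] at f3
  have n1 : k * (l * g) ∈ Ns (X ⊓ Cs (VV z)) :=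
    mem_Ns_inf (le_normalizer (mul_mem hk.1 hg')) (mem_Ns_Cs (mem_Ns_iff.2 f3))
  have k6 := mem_normalizer_conj (mem_Ns_commutator n1 n1) (UC h ha)
  rw [show k * (l * g) * a * (k * (l * g))⁻¹ = k * (l * g * a * (l * g)⁻¹) * k⁻¹ by group,
    mem_C1.1 hk.2, mul_inv_cancel_right, e3] at k6
  have k7 := (mul_mem_cancel_left hb).1
    (tc h ⟨k6, mul_mem (mem_sup_left hb) (mem_sup_right k2)⟩)
  have k8 := one h (UU_le_LL k7) (VV_le_LL k2)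
  rw [← e1, show c = 1 by simpa using k8, mul_one]
  exact hb

theorem ncl_eq : ncl (UU y) X = X :=
  (simple h.top.simple (ncl_le (UU_le_LL.trans (LX h))) le_Ns_ncl).resolve_left fun e =>
    h.sy.x_ne 1 (mem_bot.1 (e ▸ le_ncl' (R_le_UU (x_mem_rt 1 1))))

end END

theorem FS.false (h : FS σ x t y z X) : False := by
  have k := SG2.pfq (D := ⊥) h.syl le_sup_left le_sup_right
    (eq_bot_iff.2 fun a ha => END.one h (UU_le_LL ha.1) (UU_le_LL ha.2))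
    (le_Cs_comm.1 bot_le) (END.cUU h) (fun a ha g hg e => END.sc h ha hg e)
    fun a ha g hg e => END.sc h.symm ha hg (sup_comm (UU y) _ ▸ e)
  rw [END.ncl_eq h, END.ncl_eq h.symm, h.top.perf, bot_sup_eq] at k
  have k1 := k (END.LX h (x_mem_LL 1 1))
  obtain ⟨n, hn⟩ := odd_card_Oc (L := X)
  have e : y 1 1 ^ Nat.card (Oc X) = 1 :=
    congrArg Subtype.val (pow_card_eq_one' (x := (⟨_, k1⟩ : Oc X)))
  rw [hn, pow_succ, pow_mul, sq, h.sy.s.mul_self, one_pow, one_mul] at e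
  exact h.sy.x_ne 1 e

end Cfsg.Lib.U42
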