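import Cfsg.Agent.U42.M3b
import Cfsg.Agent.U42.M3v
import Cfsg.Agent.U42.M3d

/-!
# Standard subgroups of type `U₄(2)`: outer involutions
-/

set_option autoImplicit false
set_option linter.unusedSectionVars false

namespace Cfsg.Lib.U42

open Subgroup Cfsg.Lib.Trans Cfsg.Lib.Gold
open Cfsg.Lib.SG2.M3c (nc)
open Cfsg.Lib.Comp (Tw)
open scoped commutatorElement MatrixGroups

variable {G E : Type*} [Group G] [Finite G] [Field E] [Finite E] {σ : E ≃+* E}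
  {x : ZMod 8 → E → G}

open M3b

theorem M3c.dec {L : Subgroup G} {g : G} (hg : g ∈ L ⊔ Cs L) : ∃ l ∈ L, ∃ c ∈ Cs L, l * c = g :=
  (SG2.mem_sup_Cs (le_Cs_comm.1 le_rfl)).1 hg

theorem M3c.one (h : Sys σ x) {l : G} (h1 : l ∈ LL x) (h2 : l ∈ Cs (LL x)) : l = 1 :=
  mem_bot.1 (h.cent.le (mem_inf.2 ⟨h1, h2⟩))

theorem M3c.two_part {C : Subgroup G} {g : G} (h2 : g * g ∈ C) : ∃ c ∈ C, Tw (g * c) := by
  obtain ⟨k, m, hm, e⟩ := Nat.exists_eq_two_pow_mul_odd (orderOf_pos g).ne'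
  obtain ⟨m, rfl⟩ := hm
  exact ⟨_, pow_mem h2 m, k, by
    rw [← sq, ← pow_mul, ← pow_succ', ← pow_mul, mul_comm, ← e, pow_orderOf_eq_one]⟩

open M3c

theorem Sys.not_inner (h : Sys σ x) {l g₀ : G} (hl : l ∈ LL x) {τ : E ≃+* E} (hg : Acts x g₀ τ)
    (h1 : τ ≠ 1) : l * g₀ ∉ LL x ⊔ Cs (LL x) := fun e => by
  obtain ⟨m, hm, c, hc, e⟩ := dec e
  have := Mp.mul hg (Mp.of_Cs (inv_mem hc))
  rw [mul_one, show g₀ * c⁻¹ = l⁻¹ * m by rw [eq_inv_mul_iff_mul_eq, ← mul_assoc, ← e]; group] at this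
  exact h1 (h.acts_inner (mul_mem (inv_mem hl) hm) this).2

theorem Sys.inner (h : Sys σ x) {g : G} (hg : g ∈ LL x ⊔ Cs (LL x)) (h2 : g * g ∈ Cs (LL x)) :
    ∃ l ∈ LL x, l * l = 1 ∧ l⁻¹ * g ∈ Cs (LL x) := by
  obtain ⟨l, hl, c, hc, rfl⟩ := dec hg
  refine ⟨l, hl, one h (mul_mem hl hl) ?_, by rwa [inv_mul_cancel_left]⟩
  rw [mul_assoc, ← mul_assoc c, ← mem_Cs.1 hc l hl, mul_assoc, ← mul_assoc] at h2
  exact (mul_mem_cancel_right (mul_mem hc hc)).1 h2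

theorem M3c.out (h : Sys σ x) {g : G} (hg : g ∈ Ns (LL x)) (h2 : g * g ∈ Cs (LL x))
    (hn : g ∉ LL x ⊔ Cs (LL x)) : ∃ l ∈ LL x, Acts x (l⁻¹ * g) σ := by
  obtain ⟨l, hl, τ, h1⟩ := h.aut hg
  have h3 : τ * τ = 1 := by
    by_contra h3
    refine h.not_inner (mul_mem hl (nc (acts_Ns h1) hl)) (Mp.mul h1 h1) h3 ?_
    rw [show l * (l⁻¹ * g * l * (l⁻¹ * g)⁻¹) * (l⁻¹ * g * (l⁻¹ * g)) = g * g by group]
    exact mem_sup_right h2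
  rcases h.qd.aut_inv h3 with rfl | rfl
  · exact absurd (mul_inv_cancel_left l g ▸ mul_mem (mem_sup_left hl)
      (mem_sup_right (Mp.mem_Cs h1))) hn
  · exact ⟨l, hl, h1⟩

theorem M3c.sq_Cs (h : Sys σ x) {g k : G} (hg : Acts x g σ) (hk : Acts x k σ) :
    g * k ∈ Cs (LL x) := Mp.mem_Cs (h.qd.mul_self ▸ Mp.mul hg hk)

theorem Sys.outer_mul (h : Sys σ x) {g k : G} (hg : g ∈ Ns (LL x)) (g2 : g * g ∈ Cs (LL x))
    (gn : g ∉ LL x ⊔ Cs (LL x)) (hk : k ∈ Ns (LL x)) (k2 : k * k ∈ Cs (LL x))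
    (kn : k ∉ LL x ⊔ Cs (LL x)) : g * k ∈ LL x ⊔ Cs (LL x) := by
  obtain ⟨l, hl, h1⟩ := out h hg g2 gn
  obtain ⟨m, hm, h2⟩ := out h hk k2 kn
  rw [show g * k = l * (l⁻¹ * g * m * (l⁻¹ * g)⁻¹) * (l⁻¹ * g * (m⁻¹ * k)) by group]
  exact mul_mem (mem_sup_left (mul_mem hl (nc (acts_Ns h1) hm))) (mem_sup_right (sq_Cs h h1 h2))

theorem M3c.mem_U (h : Sys σ x) {S : Subgroup G} (hS : IsPGroup 2 S) (h1 : UU x ≤ S) {m c : G}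
    (hm : m ∈ LL x) (hc : c ∈ Cs (LL x)) (e : m * c ∈ S) : m ∈ UU x := by
  have h2 : m ∈ Ns (UU x) := Comp.mem_Ns_of fun u hu => (h.syl.eq_inf hS h1).le (mem_inf.2 ⟨by
    have := mul_mem (mul_mem e (h1 hu)) (inv_mem e)
    rwa [mul_assoc m, ← mem_Cs.1 hc u (UU_le_LL hu), mul_inv_rev, ← mul_assoc, ← mul_assoc,
      mul_inv_cancel_right] at this, mul_mem (mul_mem hm (UU_le_LL hu)) (inv_mem hm)⟩)
  obtain ⟨k, hk⟩ := Tw.of_mem hS e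
  rw [Commute.mul_pow (mem_Cs.1 hc m hm), mul_eq_one_iff_eq_inv] at hk
  have h3 : Tw m := ⟨k, one h (pow_mem hm _) (hk ▸ inv_mem (pow_mem hc _))⟩
  exact (h.syl.eq_of_le (Comp.isPGroup_sup h.s.two_UU h3.isPGroup (zpowers_le.2 h2)) le_sup_left
    (sup_le UU_le_LL (zpowers_le.2 hm))).le (mem_sup_right (mem_zpowers m))

theorem Sys.outer_U (h : Sys σ x) {g : G} (hg : g ∈ Ns (LL x)) (h2 : g * g ∈ Cs (LL x))
    (hn : g ∉ LL x ⊔ Cs (LL x)) {T : Subgroup G} (hT : IsPGroup 2 T) (hle : T ≤ LL x ⊓ C1 g) :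
    ∃ l ∈ LL x, ∃ u ∈ UU x, ∃ g₀, Acts x g₀ σ ∧ l * g * l⁻¹ = u * g₀ ∧ cj l T ≤ UU x := by
  obtain ⟨l₀, hl₀, h1⟩ := out h hg h2 hn
  obtain ⟨c, hc, tc⟩ := two_part h2
  obtain ⟨d, hd, td⟩ := two_part (sq_Cs h h1 h1)
  have h3 : Mp x x (l₀⁻¹ * g * d) σ := mul_one σ ▸ Mp.mul h1 (Mp.of_Cs hd)
  obtain ⟨S, hS, hU⟩ := exists_isSylowIn_ge (H := Ns (LL x)) (Comp.isPGroup_sup h.s.two_UU
    td.isPGroup (zpowers_le.2 (cj_eq_self_iff.1 h3.cj_UU)))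
    (sup_le (UU_le_LL.trans le_normalizer) (zpowers_le.2 (acts_Ns h3)))
  obtain ⟨k, hk, h4⟩ := hS.exists_cj_le (Comp.isPGroup_sup hT tc.isPGroup (zpowers_le.2
    (Comp.mem_Ns_of fun t ht => by
      rwa [mul_assoc g, ← mem_Cs.1 hc t (hle ht).1, ← mul_assoc, ← mem_C1.1 (hle ht).2, mul_assoc t,
        mul_inv_cancel_right])))
    (sup_le (hle.trans (inf_le_left.trans le_normalizer)) (zpowers_le.2 (mul_mem hg (Cs_le_Ns hc))))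
  obtain ⟨l, hl, τ, h5⟩ := h.aut (inv_mem hk)
  have h6 : l⁻¹ * k⁻¹ ∈ Ns (UU x) := cj_eq_self_iff.1 (Mp.cj_UU h5)
  have hm := mul_mem (mul_mem (inv_mem hl) hl₀) (nc (acts_Ns h1) hl)
  refine ⟨l⁻¹, inv_mem hl, l⁻¹ * l₀ * (l₀⁻¹ * g * l * (l₀⁻¹ * g)⁻¹), ?_, _, h1, by group,
    cj_le_iff.2 fun t ht => ?_⟩
  · have h7 := (((Mp.inv h5).mul (Mp.mul h1 (Mp.of_Cs hc))).mul h5).mul h3.inv
    rw [mul_one, mul_assoc τ⁻¹, aut_comm σ, inv_mul_cancel_left, mul_inv_cancel] at h7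
    have h8 := nc h6 (mem_U h hS.isPGroup (le_sup_left.trans hU) (nc (inv_mem (acts_Ns h5)) hm)
      h7.mem_Cs (by
        have := mul_mem (h4 (conj_mem_cj.2 (mem_sup_right (mem_zpowers _))))
          (inv_mem (hU (mem_sup_right (mem_zpowers _))))
        rw [show k * (g * c) * k⁻¹ = k * g * l * (l⁻¹ * c) * k⁻¹ by group,
          mem_Cs.1 hc _ (inv_mem hl)] at this
        convert this using 1
        group))
    convert h8 using 1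
    group
  · have := nc h6 ((h.syl.eq_inf hS.isPGroup (le_sup_left.trans hU)).le (mem_inf.2
      ⟨h4 (conj_mem_cj.2 (mem_sup_left ht)), nc hk (hle ht).1⟩))
    convert this using 1
    group

namespace M3c

variable {g₀ : G}

/-- Twisted conjugacy. -/
def Rc (x : ZMod 8 → E → G) (g₀ u v : G) : Prop := ∃ l ∈ LL x, l * (u * g₀) * l⁻¹ = v * g₀

theorem Rc.trans {u v w : G} (h : Rc x g₀ u v) (h' : Rc x g₀ v w) : Rc x g₀ u w := by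
  obtain ⟨l, hl, e⟩ := h
  obtain ⟨m, hm, e'⟩ := h'
  exact ⟨m * l, mul_mem hm hl, by rw [← e', ← e]; group⟩

theorem Rc.root (h : Sys σ x) (hg : Acts x g₀ σ) (i : ZMod 8) (s : E) (u : G) :
    Rc x g₀ u (x i s * u * x i (σ s)) :=
  ⟨x i s, x_mem_LL i s, by rw [← hg, h.s.inv]; group⟩

theorem Rc.conj {l : G} (hl : l ∈ LL x) (hc : Commute g₀ l) (u : G) : Rc x g₀ u (l * u * l⁻¹) :=
  ⟨l, hl, by rw [mul_assoc, mul_assoc u, hc.inv_right.eq]; group⟩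

theorem fix (hg : Acts x g₀ σ) (i : ZMod 8) {s : E} (hs : σ s = s) : Commute g₀ (x i s) :=
  mul_inv_eq_iff_eq_mul.1 (by rw [hg, hs])

theorem fix_nn (hg : Acts x g₀ σ) (i : ZMod 8) {s : E} (hs : σ s = s) : Commute g₀ (nn σ x i s) :=
  ((fix hg i hs).mul_right (fix hg _ (by rw [hs, map_inv₀, hs]))).mul_right (fix hg i hs)

theorem rel (h : Sys σ x) (hg : Acts x g₀ σ) {a d c r : E} (hd : σ d = d) (hr : σ r = r)
    (e : uu x a d c r * g₀ * (uu x a d c r * g₀) ∈ Cs (LL x)) : σ a = a ∧ c + σ c = a * d := by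
  rw [show uu x a d c r * g₀ * (uu x a d c r * g₀) =
    uu x a d c r * (g₀ * uu x a d c r * g₀⁻¹) * (g₀ * g₀) by group,
    mul_mem_cancel_right (sq_Cs h hg hg), hg.uu, hd, hr, h.s.uu_mul hd hr hd hr] at e
  obtain ⟨h1, -, h2, -⟩ := h.inj _ _ _ _ (fx_add hd hd) (fx_add (fx_add (fx_add hr
    (fx_mul (h.s.fxN _) hd)) (h.s.fxT' _ _)) hr) (one h (UU_le_LL (uu_mem_UU _ _ _ _)) e)
  rw [h.s.ss] at h2
  exact ⟨h.qd.T_zero.1 h1, by linear_combination h2 - a * d * h.s.two⟩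

theorem r2 (h : Sys σ x) (hg : Acts x g₀ σ) {d c r : E} (hd : σ d = d) (hc : σ c = c)
    (hr : σ r = r) : Rc x g₀ (vv x d c r) (vv x d 0 r) := by
  obtain ⟨s, rfl⟩ := h.qd.T_surj hc
  have := Rc.root h hg 2 s (vv x d (s + σ s) r)
  rwa [← h.s.vv_2, ← h.s.vv_2, h.s.vv_mul (map_zero σ) (map_zero σ) hd hr, zero_add, zero_add,
    h.s.vv_mul hd hr (map_zero σ) (map_zero σ), add_zero, add_zero, ← add_assoc, h.s.add_self,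
    zero_add, h.s.add_self] at this

theorem r1 (h : Sys σ x) (hg : Acts x g₀ σ) {r : E} (hr : σ r = r) :
    Rc x g₀ (vv x 0 0 r) 1 ∨ Rc x g₀ (vv x 0 0 r) (x 1 1) := by
  by_cases h0 : r = 0
  · exact Or.inl ⟨1, one_mem _, by simp [h0, h.s.vv_zero]⟩
  obtain ⟨c, rfl, hc⟩ := h.qd.sqrt r
  have c0 : c⁻¹ ≠ 0 := inv_ne_zero (ne_zero_pow two_ne_zero h0)
  have c1 : σ c⁻¹ = c⁻¹ := by rw [map_inv₀, hc hr]
  have := Rc.conj (hh_mem_LL 1 c⁻¹) ((fix_nn hg 1 c1).mul_right (fix_nn hg 1 (map_one σ)))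
    (vv x 0 0 (c ^ 2))
  rw [← h.s.uu_zero, h.h1_uu c0 c1, mul_zero, inv_pow, inv_mul_cancel₀ h0, h.s.uu_zero,
    h.s.uu_zero, h.s.vv_1 1] at this
  exact Or.inr this

theorem r3 (h : Sys σ x) (hg : Acts x g₀ σ) {d r : E} (hd : σ d = d) (hr : σ r = r) :
    Rc x g₀ (vv x d 0 r) 1 ∨ Rc x g₀ (vv x d 0 r) (x 1 1) := by
  by_cases h0 : d = 0
  · exact h0 ▸ r1 h hg hr
  obtain ⟨s, h1, hs⟩ := h.qd.sqrt (r / d)
  have s1 := hs (by rw [map_div₀, hr, hd])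
  have h2 := Rc.conj (x_mem_LL 0 s) (fix hg 0 s1) (vv x d 0 r)
  rw [h.s.conj0 s hd hr, s1, ← sq, h1, div_mul_cancel₀ r h0, h.s.add_self, map_zero, mul_zero,
    add_zero, add_zero, zero_add] at h2
  have h3 := Rc.conj (nn_mem_LL 0 1) (fix_nn hg 0 (map_one σ)) (vv x d 0 0)
  rw [h.n0_vv hd (map_zero σ), map_zero] at h3
  have h4 := (h2.trans (r2 h hg hd (fx_mul s1 hd) (map_zero σ))).trans h3
  exact (r1 h hg hd).imp h4.trans h4.trans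

end M3c

theorem Sys.outer_cls (h : Sys σ x) {g : G} (hg : g ∈ Ns (LL x)) (h2 : g * g ∈ Cs (LL x))
    (hn : g ∉ LL x ⊔ Cs (LL x)) :
    ∃ l ∈ LL x, ∃ g₀, Acts x g₀ σ ∧ (l * g * l⁻¹ = g₀ ∨ l * g * l⁻¹ = x 1 1 * g₀) := by
  obtain ⟨l, hl, u, hu, g₀, h1, e, -⟩ := h.outer_U hg h2 hn IsPGroup.of_bot bot_le
  obtain ⟨a, d, c, r, hd, hr, rfl⟩ := h.s.mem_UU.1 hu
  have key : ∀ m ∈ LL x, m * g * m⁻¹ * (m * g * m⁻¹) ∈ Cs (LL x) := fun m hm => by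
    rwa [conj_mul, mem_Cs.1 h2 m hm, mul_inv_cancel_right]
  obtain ⟨s, rfl⟩ := h.qd.T_surj (rel h h1 hd hr (e ▸ key l hl)).1
  obtain ⟨c', r', hr', h3⟩ : ∃ c' r', σ r' = r' ∧ Rc x g₀ (uu x (s + σ s) d c r) (uu x 0 d c' r') := by
    have := Rc.root h h1 0 s (uu x (s + σ s) d c r)
    rw [uu, ← mul_assoc, ← h.s.add0, ← add_assoc, h.s.add_self, zero_add, ← uu, ← uu, ← h.s.uu_0,
      h.s.uu_mul hd hr (map_zero σ) (map_zero σ), h.s.add_self, add_zero, add_zero, add_zero] at this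
    exact ⟨_, _, fx_add (fx_add hr (fx_mul (h.s.fxN _) hd)) (h.s.fxT' _ _), this⟩
  have h4 : σ c' = c' := by
    obtain ⟨m, hm, e'⟩ := h3
    have := key _ (mul_mem hm hl)
    rw [show m * l * g * (m * l)⁻¹ = m * (l * g * l⁻¹) * m⁻¹ by group, e, e'] at this
    exact h.qd.T_zero.1 ((rel h h1 hd hr' this).2.trans (zero_mul _))
  rw [h.s.uu_zero] at h3
  have h5 := h3.trans (r2 h h1 hd h4 hr')
  have h6 : ∀ v, Rc x g₀ (uu x (s + σ s) d c r) v → ∃ m ∈ LL x, m * g * m⁻¹ = v * g₀ :=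
    fun v ⟨m, hm, e'⟩ => ⟨m * l, mul_mem hm hl, by rw [← e', ← e]; group⟩
  rcases r3 h h1 hd hr' with h7 | h7 <;> obtain ⟨m, hm, e'⟩ := h6 _ (h5.trans h7)
  exacts [⟨m, hm, g₀, h1, Or.inl (e'.trans (one_mul _))⟩, ⟨m, hm, g₀, h1, Or.inr e'⟩]

theorem M3c.LL_cx {l : G} (hl : l ∈ LL x) : LL (cx x l) = LL x := by
  rw [U42.LL_cx, cj_eq_of_mem hl]

theorem M3c.cls (h : Sys σ x) {g : G} (hg : g ∈ Ns (LL x)) (h2 : g * g ∈ Cs (LL x))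
    (hn : g ∉ LL x ⊔ Cs (LL x)) : ∃ y, Sys σ y ∧ LL y = LL x ∧ ∃ g₀, Acts y g₀ σ ∧
      ∃ z ∈ rt y 1, g = z * g₀ := by
  obtain ⟨l, hl, g₀, h1, e⟩ := h.outer_cls hg h2 hn
  refine ⟨_, h.cx l⁻¹, M3c.LL_cx (inv_mem hl), l⁻¹ * g₀ * l, fun i s => by
    rw [cx, cx, ← h1]; group, ?_⟩
  rcases e with e | e
  · exact ⟨1, one_mem _, by rw [← e]; group⟩
  · exact ⟨_, x_mem_rt 1 1, by rw [cx, ← mul_left_inj l⁻¹, ← mul_right_inj l, ← mul_assoc, e]; group⟩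

theorem M3c.inn (h : Sys σ x) {g : G} (hg : g ∈ LL x ⊔ Cs (LL x)) (h2 : g * g ∈ Cs (LL x)) :
    ∃ y, Sys σ y ∧ LL y = LL x ∧ VV y ≤ C1 g := by
  obtain ⟨l, hl, h1, h3⟩ := h.inner hg h2
  obtain ⟨m, hm, h4⟩ := h.inv_V hl h1
  have h5 := M3c.LL_cx (inv_mem hm)
  refine ⟨_, h.cx m⁻¹, h5, fun v hv => mem_C1.2 ?_⟩
  have h6 : l ∈ VV (cx x m⁻¹) := by rw [VV_cx, mem_cj_inv]; exact h4
  rw [← mul_inv_cancel_left l g]
  exact mem_Cs.1 (mul_mem ((h.cx m⁻¹).s.VV_comm h6) (Cs_anti (VV_le_LL.trans h5.le) h3)) v hv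

theorem M3c.le_C1 (h : Sys σ x) {g₀ z : G} (hz : z ∈ rt x 1) {Y : Subgroup G}
    (h1 : Y ≤ LL x ⊓ C1 (x 1 1)) (h2 : Y ≤ C1 g₀) : Y ≤ LL x ⊓ C1 (z * g₀) := fun _ hy =>
  mem_inf.2 ⟨(h1 hy).1, mem_C1.2 (Commute.mul_right (mem_Cs.1 (h.cR.le (h1 hy)).2 z hz).symm
    (mem_C1.1 (h2 hy)))⟩

theorem M3c.U_le (h : Sys σ x) : UU x ≤ LL x ⊓ C1 (x 1 1) :=
  (le_inf UU_le_LL (UU_le_PA.trans (le_Cs_comm.1 h.s.R_le_Cs))).trans h.cR.ge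

theorem Sys.outer_rank (h : Sys σ x) {g : G} (hg : g ∈ Ns (LL x)) (h2 : g * g ∈ Cs (LL x))
    (hn : g ∉ LL x ⊔ Cs (LL x)) {A : Subgroup G} (hA : A ≤ LL x ⊓ C1 g)
    (ha : ∀ a ∈ A, a * a = 1) : Nat.card A ≤ qn σ ^ 3 := by
  obtain ⟨l, -, u, hu, g₀, h1, e, h3⟩ := h.outer_U hg h2 hn (isPGroup_of_sq ha) hA
  rw [← card_cj l]
  refine h.rankU hu h1 (le_inf h3 (cj_le_iff.2 fun a a1 => mem_C1.2 ?_)) ?_
  · rw [← e, conj_mul, conj_mul, mem_C1.1 (hA a1).2]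
  · rintro _ ⟨a, a1, rfl⟩
    exact Comp.conj_sq (ha a a1) l

theorem Sys.outer_elem (h : Sys σ x) {g : G} (hg : g ∈ Ns (LL x)) (h2 : g * g ∈ Cs (LL x)) :
    ∃ A : Subgroup G, A ≤ LL x ⊓ C1 g ∧ (∀ a ∈ A, a * a = 1) ∧ Nat.card A = qn σ ^ 3 := by
  by_cases hn : g ∈ LL x ⊔ Cs (LL x)
  · obtain ⟨y, hy, e, h1⟩ := inn h hn h2
    exact ⟨NN y, le_inf (NN_le_LL.trans e.le) (NN_le_VV.trans h1),
      fun a ha => hy.s.sq_VV (NN_le_VV ha), hy.card_NN⟩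
  obtain ⟨y, hy, e, g₀, h1, z, hz, rfl⟩ := cls h hg h2 hn
  refine ⟨VV y ⊓ C1 g₀, e ▸ le_C1 hy hz (inf_le_left.trans (VV_le_UU.trans (U_le hy))) inf_le_right,
    fun a ha => hy.s.sq_VV ha.1, ?_⟩
  rw [SG2.card_of_param (fun p : fixF σ × fixF σ × fixF σ => vv y p.1 p.2.1 p.2.2) (fun p q e => ?_)
    fun v => ⟨fun hv => ?_, ?_⟩, Nat.card_prod, Nat.card_prod, qn]
  · ring
  · obtain ⟨h3, h4, h5⟩ := hy.s.vv_inj hy.inj p.1.2 p.2.2.2 q.1.2 q.2.2.2 e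
    exact Prod.ext (Subtype.ext h3) (Prod.ext (Subtype.ext h4) (Subtype.ext h5))
  · obtain ⟨d, c, r, hd, hr, rfl⟩ := hy.s.mem_VV.1 hv.1
    have h3 := h1.uu 0 d c r
    rw [map_zero, hd, hr, hy.s.uu_zero, hy.s.uu_zero, ← mem_C1.1 hv.2, mul_inv_cancel_right] at h3
    exact ⟨(⟨d, hd⟩, ⟨c, (hy.s.vv_inj hy.inj hd hr hd hr h3).2.1.symm⟩, ⟨r, hr⟩), rfl⟩
  · rintro ⟨p, rfl⟩
    exact mem_inf.2 ⟨vv_mem_VV _ _ _, mem_C1.2 (((fix h1 3 p.1.2).mul_right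
      (fix h1 2 p.2.1.2)).mul_right (fix h1 1 p.2.2.2)).symm⟩

theorem Sys.inv_cent (h : Sys σ x) {g : G} (hg : g ∈ Ns (LL x)) (h2 : g * g ∈ Cs (LL x)) :
    ∃ T : Subgroup G, T ≤ LL x ⊓ C1 g ∧ IsPGroup 2 T ∧ Nat.card T = qn σ ^ 4 := by
  by_cases hn : g ∈ LL x ⊔ Cs (LL x)
  · obtain ⟨y, hy, e, h1⟩ := inn h hn h2
    exact ⟨VV y, le_inf (VV_le_LL.trans e.le) h1, hy.s.two_UU.to_le VV_le_UU, hy.card_VV⟩
  obtain ⟨y, hy, e, g₀, h1, z, hz, rfl⟩ := cls h hg h2 hn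
  refine ⟨U0 y σ, e ▸ le_C1 hy hz (U0_le_UU.trans (U_le hy)) ((closure_le _).2 ?_),
    hy.s.two_UU.to_le U0_le_UU, hy.card_U0⟩
  rintro _ ⟨i, s, -, hs, rfl⟩
  exact mem_C1.2 (fix h1 i hs).symm

end Cfsg.Lib.U42
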