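import Cfsg.Agent.U42.Defs

/-!
# Standard subgroups of type `U₄(2)`: the hypotheses of the successive phases
-/

set_option autoImplicit false
set_option linter.unusedSectionVars false

namespace Cfsg.Lib.U42

open Subgroup Cfsg.Lib.Trans Cfsg.Lib.Gold
open Cfsg.Lib.SG2 (Uq Top)
open scoped commutatorElement MatrixGroups

variable {G E : Type*} [Group G] [Field E]

/-- The étale quadratic algebra `E[ω] / (ω² + ω + β)`. -/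
abbrev EK (β : E) : Type _ := QuadraticAlgebra E β 1

/-- The coefficientwise extension of `σ` to `EK β`. -/
def qb (σ : E ≃+* E) {β : E} (hβ : σ β = β) : EK β ≃+* EK β where
  toFun k := ⟨σ k.re, σ k.im⟩
  invFun k := ⟨σ.symm k.re, σ.symm k.im⟩
  left_inv k := by ext <;> simp
  right_inv k := by ext <;> simp
  map_mul' k m := by ext <;> simp [hβ]
  map_add' k m := by ext <;> simp

theorem qb_eq_1' : type_of% @qb.eq_1 := @qb.eq_1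

@[simp] theorem qb_re (σ : E ≃+* E) {β : E} (hβ : σ β = β) (k : EK β) :
    (qb σ hβ k).re = σ k.re := rfl

@[simp] theorem qb_im (σ : E ≃+* E) {β : E} (hβ : σ β = β) (k : EK β) :
    (qb σ hβ k).im = σ k.im := rfl

theorem qb_fix {σ : E ≃+* E} {β : E} {hβ : σ β = β} {k : EK β} :
    qb σ hβ k = k ↔ σ k.re = k.re ∧ σ k.im = k.im := QuadraticAlgebra.ext_iff

theorem qb_alg (σ : E ≃+* E) {β : E} (hβ : σ β = β) (s : E) :
    qb σ hβ (algebraMap E (EK β) s) = algebraMap E (EK β) (σ s) := by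
  ext <;> simp [QuadraticAlgebra.algebraMap_eq]

theorem qb_smul (σ : E ≃+* E) {β : E} (hβ : σ β = β) (s : E) (k : EK β) :
    qb σ hβ (s • k) = σ s • qb σ hβ k := by
  ext <;> simp

theorem qb_star (σ : E ≃+* E) {β : E} (hβ : σ β = β) (k : EK β) :
    qb σ hβ (star k) = star (qb σ hβ k) := by
  ext <;> simp

/-- The standard field (`b = false`) and graph-field (`b = true`) automorphisms of `SL₄(E)`. -/
def gm (τ : E ≃+* E) (b : Bool) : SL(4, E) →* SL(4, E) :=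
  if b then Chev.suσ (τ : E →+* E) else Matrix.SpecialLinearGroup.map (τ : E →+* E)

theorem gm_eq_1' : type_of% @gm.eq_1 := @gm.eq_1

theorem gm_true (τ : E ≃+* E) : gm τ true = Chev.suσ (τ : E →+* E) := rfl

theorem gm_false (τ : E ≃+* E) : gm τ false = Matrix.SpecialLinearGroup.map (τ : E →+* E) := rfl

variable (σ : E ≃+* E) (x : ZMod 8 → E → G) (t : G)

/-- The perfect subgroup `q³ : SL₂(q)` of `Sp₄(q)` centralising `x 1 1`. -/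
def YA : Subgroup G := closure {g | ∃ i s, i ≠ 4 ∧ i ≠ 5 ∧ i ≠ 6 ∧ σ s = s ∧ g = x i s}

/-- The perfect subgroup `q³ : SL₂(q)` of `Sp₄(q)` centralising `x 2 1`. -/
def YB : Subgroup G := closure {g | ∃ i s, i.val ≤ 4 ∧ σ s = s ∧ g = x i s}

/-- The standard form hypothesis. -/
structure Hyp : Prop extends Sys σ x where
  t2 : t * t = 1
  t1 : t ≠ 1
  tc : ∀ i s, Commute t (x i s)
  cn : C1 t ≤ Ns (LL x)
  cyc : ∀ P : Subgroup G, IsPGroup 2 P → P ≤ Cs (LL x) → IsCyclic P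

/-- The odd part of `C(t) ∩ C(L)`. -/
def Ot : Subgroup G := Oc (C1 t ⊓ Cs (LL x))

/-- After phase 1. -/
structure H1 : Prop extends Hyp σ x t where
  dec : ∀ c ∈ C1 t ⊓ Cs (LL x), c ∈ Ot x t ∨ t * c ∈ Ot x t
  nc : ∀ g : G, g * t * g⁻¹ ∉ LL x

/-- The canonical enlargement of the long root subgroup `Y` of `L`. -/
def Rt (L : Subgroup G) (t : G) (Y : Subgroup G) : Subgroup G :=
  closure {y | y ∈ Cs (L ⊓ Cs Y) ∧ y * y = 1 ∧ ∃ a ∈ Y, a ≠ 1 ∧ y * t * y⁻¹ = t * a}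

theorem Rt_eq_1' : type_of% @Rt.eq_1 := @Rt.eq_1

theorem cj_Rt_le (g : G) (L : Subgroup G) (t : G) (Y : Subgroup G) :
    cj g (Rt L t Y) ≤ Rt (cj g L) (g * t * g⁻¹) (cj g Y) := by
  rw [Rt, cj, MonoidHom.map_closure, closure_le]
  rintro _ ⟨y, ⟨h1, h2, a, ha, a1, e⟩, rfl⟩
  refine subset_closure ⟨?_, ?_, g * a * g⁻¹, conj_mem_cj.2 ha, fun h => a1 (by simpa using h), ?_⟩
  · rw [← cj_Cs, ← cj_inf, ← cj_Cs]
    exact conj_mem_cj.2 h1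
  · show g * y * g⁻¹ * (g * y * g⁻¹) = 1
    rw [conj_mul, h2]; simp
  · show g * y * g⁻¹ * (g * t * g⁻¹) * (g * y * g⁻¹)⁻¹ = _
    rw [conj_mul, conj_inv, conj_mul, e, conj_mul]

theorem cj_Rt (g : G) (L : Subgroup G) (t : G) (Y : Subgroup G) :
    cj g (Rt L t Y) = Rt (cj g L) (g * t * g⁻¹) (cj g Y) := by
  refine le_antisymm (cj_Rt_le g L t Y) fun y hy => mem_cj.2 ?_
  have := cj_Rt_le g⁻¹ _ _ _ (conj_mem_cj.2 hy)
  simpa [cj_cj, cj_one, mul_assoc] using this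

/-- `R̃_i`. -/
def RT (i : ZMod 8) : Subgroup G := Rt (LL x) t (rt x i)

/-- `Ṽ`. -/
def VT : Subgroup G := ncl (RT x t 1) (PB x)

/-- The torus centralising `X₁` and `X₃`. -/
def T2 : Subgroup G := closure {g | ∃ e, e * σ e = 1 ∧ g = hh σ x 0 e}

/-- `X̃₂`. -/
def XT : Subgroup G := VT x t ⊓ ⁅VT x t, T2 σ x⁆

theorem YA_eq_1' : type_of% @YA.eq_1 := @YA.eq_1
theorem YB_eq_1' : type_of% @YB.eq_1 := @YB.eq_1
theorem Ot_eq_1' : type_of% @Ot.eq_1 := @Ot.eq_1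
theorem RT_eq_1' : type_of% @RT.eq_1 := @RT.eq_1
theorem VT_eq_1' : type_of% @VT.eq_1 := @VT.eq_1
theorem T2_eq_1' : type_of% @T2.eq_1 := @T2.eq_1
theorem XT_eq_1' : type_of% @XT.eq_1 := @XT.eq_1

/-- `Ṽ` is elementary abelian. -/
structure H3 : Prop extends H1 σ x t where
  le : rt x 1 ≤ RT x t 1
  cP : RT x t 1 ≤ Cs (LL x ⊓ Cs (rt x 1))
  cO : RT x t 1 ≤ Cs (Ot x t)
  onto : ∀ s, ∃ g ∈ RT x t 1, g * t * g⁻¹ = t * x 1 s
  ker : ∀ g ∈ RT x t 1, Commute g t → g ∈ rt x 1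
  ab : ∀ g ∈ RT x t 1, ∀ g' ∈ RT x t 1, Commute g g'
  le3 : RT x t 3 ≤ VT x t
  leV : VV x ≤ VT x t
  cOV : VT x t ≤ Cs (Ot x t)
  abV : ∀ g ∈ VT x t, ∀ g' ∈ VT x t, Commute g g'
  el : ∀ g ∈ VT x t, g * g = 1

/-- After phase 4a: coordinates `Y i a b` (for `a + b ω`) on `R̃₁`, `X̃₂`, `R̃₃`. -/
structure H4a (Y : ZMod 8 → E → E → G) : Prop extends H3 σ x t where
  addl : ∀ i, i = 1 ∨ i = 3 → ∀ a b a' b', σ a = a → σ b = b → σ a' = a' → σ b' = b' →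
    Y i (a + a') (b + b') = Y i a b * Y i a' b'
  add2 : ∀ a b a' b', Y 2 (a + a') (b + b') = Y 2 a b * Y 2 a' b'
  res : ∀ i, i = 1 ∨ i = 2 ∨ i = 3 → ∀ a, Y i a 0 = x i a
  stl : ∀ i, i = 1 ∨ i = 3 → ∀ a b, σ a = a → σ b = b → t * Y i a b * t⁻¹ = Y i (a + b) b
  st2 : ∀ a b, t * Y 2 a b * t⁻¹ = Y 2 (a + b) b
  meml : ∀ i, i = 1 ∨ i = 3 → ∀ g, g ∈ RT x t i ↔ ∃ a b, σ a = a ∧ σ b = b ∧ g = Y i a b
  mem2 : ∀ g, g ∈ XT σ x t ↔ ∃ a b, g = Y 2 a b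
  a3 : ∀ s a b, σ a = a → σ b = b → x 0 s * Y 3 a b * (x 0 s)⁻¹ =
    Y 3 a b * Y 2 (σ s * a) (σ s * b) * Y 1 (s * σ s * a) (s * σ s * b)
  a2 : ∀ s a b, x 0 s * Y 2 a b * (x 0 s)⁻¹ =
    Y 2 a b * Y 1 (s * a + σ s * σ a) (s * b + σ s * σ b)
  n1 : ∀ a b, σ a = a → σ b = b → nn σ x 0 1 * Y 1 a b * (nn σ x 0 1)⁻¹ = Y 3 a b
  n2 : ∀ a b, nn σ x 0 1 * Y 2 a b * (nn σ x 0 1)⁻¹ = Y 2 (σ a) (σ b)
  h11 : ∀ c a b, σ c = c → c ≠ 0 → σ a = a → σ b = b →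
    hh σ x 1 c * Y 1 a b * (hh σ x 1 c)⁻¹ = Y 1 (c ^ 2 * a) (c ^ 2 * b)
  h12 : ∀ c a b, σ c = c → c ≠ 0 → hh σ x 1 c * Y 2 a b * (hh σ x 1 c)⁻¹ = Y 2 (c * a) (c * b)
  h32 : ∀ c a b, σ c = c → c ≠ 0 → hh σ x 3 c * Y 2 a b * (hh σ x 3 c)⁻¹ = Y 2 (c * a) (c * b)
  h02 : ∀ e a b, e * σ e = 1 →
    hh σ x 0 e * Y 2 a b * (hh σ x 0 e)⁻¹ = Y 2 (σ e ^ 2 * a) (σ e ^ 2 * b)

/-- After phase 4b: the algebra `EK β` and the group `Q̃`. -/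
structure H4b {β : E} (hβ : σ β = β) (y : ZMod 8 → EK β → G) : Prop extends H3 σ x t where
  junk : ∀ i, i = 1 ∨ i = 3 → ∀ k, qb σ hβ k ≠ k → y i k = 1
  adds : ∀ i, i = 0 ∨ i = 2 → ∀ k m, y i (k + m) = y i k * y i m
  addl : ∀ i, i = 1 ∨ i = 3 → ∀ k m, qb σ hβ k = k → qb σ hβ m = m → y i (k + m) = y i k * y i m
  res : ∀ i : ZMod 8, i.val ≤ 3 → ∀ s, y i (algebraMap E (EK β) s) = x i s
  st : ∀ i : ZMod 8, i.val ≤ 3 → ∀ k, t * y i k * t⁻¹ = y i (star k)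
  meml : ∀ i, i = 1 ∨ i = 3 → ∀ g, g ∈ RT x t i ↔ ∃ k, qb σ hβ k = k ∧ g = y i k
  mem2 : ∀ g, g ∈ XT σ x t ↔ ∃ k, g = y 2 k
  a3 : ∀ s m, qb σ hβ m = m → x 0 s * y 3 m * (x 0 s)⁻¹ =
    y 3 m * y 2 (σ s • m) * y 1 ((s * σ s) • m)
  c02 : ∀ k m, y 0 k * y 2 m * (y 0 k)⁻¹ = y 2 m * y 1 (k * m + qb σ hβ k * qb σ hβ m)
  n1 : ∀ k, nn σ x 0 1 * y 1 k * (nn σ x 0 1)⁻¹ = y 3 k
  n2 : ∀ k, nn σ x 0 1 * y 2 k * (nn σ x 0 1)⁻¹ = y 2 (qb σ hβ k)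
  n0 : ∀ k, nn σ x 3 1 * y 2 k * (nn σ x 3 1)⁻¹ = y 0 (qb σ hβ k)
  h00 : ∀ e k, e * σ e = 1 → hh σ x 0 e * y 0 k * (hh σ x 0 e)⁻¹ = y 0 (e ^ 2 • k)
  h02 : ∀ e k, e * σ e = 1 → hh σ x 0 e * y 2 k * (hh σ x 0 e)⁻¹ = y 2 (σ e ^ 2 • k)

/-- After phase 4c: all relations in `Ũ`. -/
structure H4c {β : E} (hβ : σ β = β) (y : ZMod 8 → EK β → G) : Prop extends H4b σ x t hβ y where
  c03 : ∀ k m, qb σ hβ m = m → y 0 k * y 3 m * (y 0 k)⁻¹ =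
    y 3 m * y 2 (qb σ hβ k * m) * y 1 (k * qb σ hβ k * m)

/-- After phase 4: all relations. -/
structure H4 {β : E} (hβ : σ β = β) (y : ZMod 8 → EK β → G) : Prop extends H1 σ x t where
  gs : U4S (qb σ hβ) y
  res : ∀ i s, y i (algebraMap E (EK β) s) = x i s
  st : ∀ i k, t * y i k * t⁻¹ = y i (star k)
  cO : Ot x t ≤ Cs (LL y)
  nL : C1 t ≤ Ns (LL y)

/-- The field case. -/
structure EF (φ : SL(4, E) →* G) : Prop extends H1 σ x t where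
  inj : Function.Injective φ
  res : ∀ i s, φ (X4 σ i s) = x i s
  act : ∀ g, t * φ g * t⁻¹ = φ (Chev.suσ (σ : E →+* E) g)
  cO : Ot x t ≤ Cs φ.range
  nL : C1 t ≤ Ns φ.range

/-- The split case. -/
structure ES (y z : ZMod 8 → E → G) : Prop extends H1 σ x t where
  sy : Sys σ y
  sz : Sys σ z
  res : ∀ i s, x i s = y i s * z i s
  com : ∀ i j s u, Commute (y i s) (z j u)
  act : ∀ i s, t * y i s * t⁻¹ = z i s
  cO : Ot x t ≤ Cs (LL y ⊔ LL z)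
  nL : C1 t ≤ Ns (LL y ⊔ LL z)

/-- The split case after the determination of fusion of `t`. -/
structure FS0 (y z : ZMod 8 → E → G) (X : Subgroup G) : Prop extends ES σ x t y z where
  top : Top X t
  le : LL y ⊔ LL z ≤ X
  odd : Odd (Nat.card (Cs (LL y ⊔ LL z)))
  uq : Uq (Ns (LL y ⊔ LL z)) t

/-- The split case after the determination of the Sylow 2-subgroup. -/
structure FS (y z : ZMod 8 → E → G) (X : Subgroup G) : Prop extends FS0 σ x t y z X where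
  nt : t ∉ X
  two : ∀ g ∈ X ⊓ Ns (LL y ⊔ LL z), Comp.Tw g → g ∈ LL y ⊔ LL z
  syl : IsSylowIn 2 (UU y ⊔ UU z) X

/-- A pure element preserving both factors. -/
def Nsw (y z : ZMod 8 → E → G) (p : G) (σ₁ σ₂ : E ≃+* E) : Prop := Acts y p σ₁ ∧ Acts z p σ₂

/-- A pure element interchanging the factors. -/
def Swp (y z : ZMod 8 → E → G) (p : G) (σ₁ σ₂ : E ≃+* E) : Prop :=
  (∀ i s, p * y i s * p⁻¹ = z i (σ₁ s)) ∧ ∀ i s, p * z i s * p⁻¹ = y i (σ₂ s)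

theorem Nsw_eq_1' : type_of% @Nsw.eq_1 := @Nsw.eq_1
theorem Swp_eq_1' : type_of% @Swp.eq_1 := @Swp.eq_1

/-- A complement of pure elements to `U₁ × U₂` in a Sylow 2-subgroup of `G`. -/
structure PC (y z : ZMod 8 → E → G) (P : Subgroup G) : Prop where
  two : IsPGroup 2 P
  mem : t ∈ P
  pure : ∀ p ∈ P, (∃ σ₁ σ₂, Nsw y z p σ₁ σ₂) ∨ ∃ σ₁ σ₂, Swp y z p σ₁ σ₂
  inj : ∀ p ∈ P, Nsw y z p 1 1 → p = 1
  syl : IsSylowIn 2 ((UU y ⊔ UU z) ⊔ P) ⊤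

end Cfsg.Lib.U42
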