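import Cfsg.Agent.U42.Fld
import Cfsg.Agent.Known.PSLAutOut
import Cfsg.Agent.Known.PSLAutMain
import Cfsg.Agent.S1769

/-!
# The group `SL₄(E)` in characteristic two
-/

set_option autoImplicit false
set_option linter.unusedSectionVars false

namespace Cfsg.Lib.U42

open Subgroup Cfsg.Lib.Trans Cfsg.Lib.Gold Cfsg.Lib.Known
open scoped commutatorElement MatrixGroups

variable {G E : Type*} [Group G] [Finite G] [Field E] [Finite E] {σ : E ≃+* E}

theorem M4.gm_f (τ : E ≃+* E) (g : SL(4, E)) (i j : Fin 4) : (gm τ false g).1 i j = τ (g.1 i j) :=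
  rfl

theorem M4.gm_t (τ : E ≃+* E) (g : SL(4, E)) (i j : Fin 4) :
    (gm τ true g).1 i j = τ ((g⁻¹).1 j.rev i.rev) := rfl

theorem gm_one (g : SL(4, E)) : gm 1 false g = g := Subtype.ext (Matrix.ext fun _ _ => rfl)

theorem gm_mul (τ τ' : E ≃+* E) (b b' : Bool) (g : SL(4, E)) :
    gm τ b (gm τ' b' g) = gm (τ * τ') (xor b b') g := by
  refine Subtype.ext (Matrix.ext fun i j => ?_)
  cases b <;> cases b'
  · rfl
  · rfl
  · rw [M4.gm_t, ← map_inv]; rfl
  · rw [M4.gm_t, ← map_inv, M4.gm_t, inv_inv, Fin.rev_rev, Fin.rev_rev]; rfl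

theorem gm_bij (τ : E ≃+* E) (b : Bool) : Function.Bijective (gm τ b) :=
  Function.bijective_iff_has_inverse.2 ⟨gm τ⁻¹ b,
    fun g => by rw [gm_mul, inv_mul_cancel, Bool.xor_self, gm_one],
    fun g => by rw [gm_mul, mul_inv_cancel, Bool.xor_self, gm_one]⟩

theorem gm_UT (τ : E ≃+* E) (b : Bool) {g : SL(4, E)} (hg : g ∈ Known.uniTri 4 E) :
    gm τ b g ∈ Known.uniTri 4 E := by
  cases b
  · exact ⟨fun i j h => by rw [M4.gm_f, hg.1 h, map_zero], fun i => by rw [M4.gm_f, hg.2, map_one]⟩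
  · exact ⟨fun i j h => by
      rw [M4.gm_t, (inv_mem hg).1 (i := j.rev) (j := i.rev) (Fin.rev_lt_rev.2 h), map_zero],
      fun i => by rw [M4.gm_t, (inv_mem hg).2, map_one]⟩

theorem sl_center (h : Qd σ) : center SL(4, E) = ⊥ := by
  refine eq_bot_iff.2 fun g hg => ?_
  obtain ⟨r, hr, e⟩ := Matrix.SpecialLinearGroup.mem_center_iff.1 hg
  rw [h.eq_one_of (l := r) (by simpa using hr), map_one] at e
  exact mem_bot.2 (Subtype.ext e.symm)

theorem M4.mk_inj (h : Qd σ) : Function.Injective (QuotientGroup.mk' (center SL(4, E))) := by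
  rw [← MonoidHom.ker_eq_bot_iff, QuotientGroup.ker_mk', sl_center h]

theorem sl_psl (h : Qd σ) : Nonempty (SL(4, E) ≃* Matrix.ProjectiveSpecialLinearGroup (Fin 4) E) :=
  ⟨MulEquiv.ofBijective (QuotientGroup.mk' _) ⟨M4.mk_inj h, QuotientGroup.mk'_surjective _⟩⟩

theorem sl_simple (h : Qd σ) : IsSimpleGroup SL(4, E) := by
  obtain ⟨e⟩ := sl_psl h
  have := Class.PSL_isSimpleGroup (ι := Fin 4) (F := E) (by simp)
  exact e.isSimpleGroup

theorem sl_perf (h : Qd σ) : commutator SL(4, E) = ⊤ := Class.SL_commutator_eq_top (by simp)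

theorem sl_syl (h : Qd σ) : IsSylowIn 2 (Known.uniTri 4 E) ⊤ :=
  have := h.charP
  ⟨le_top, isPGroup_uniTri 2, by rw [relIndex_top_right]; exact not_dvd_index_uniTri 2⟩

/-- The antidiagonal matrix. -/
def M4.Jm (E : Type*) [Field E] : Matrix (Fin 4) (Fin 4) E := Fin.revPerm.toPEquiv.toMatrix
theorem M4.Jm_eq_1' : type_of% @M4.Jm.eq_1 := @M4.Jm.eq_1

theorem M4.Jm_conj (A : Matrix (Fin 4) (Fin 4) E) (i j : Fin 4) :
    (M4.Jm E * A * M4.Jm E) i j = A i.rev j.rev := by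
  rw [M4.Jm, PEquiv.toMatrix_toPEquiv_mul, PEquiv.mul_toMatrix_toPEquiv]; rfl

theorem M4.Jm_sq : M4.Jm E * M4.Jm E = 1 := Matrix.ext fun i j => by
  have := M4.Jm_conj (1 : Matrix (Fin 4) (Fin 4) E) i j
  rwa [mul_one, Matrix.one_apply, if_congr Fin.rev_inj rfl rfl, ← Matrix.one_apply] at this

theorem M4.exists_J (E : Type*) [Field E] [Finite E] : ∃ J : GL (Fin 4) E, ∀ (τ : E ≃+* E) s,
    fieldSL (Fin 4) E τ (graphSL (Fin 4) E s) = conjSL (Fin 4) E J (gm τ true s) :=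
  ⟨⟨M4.Jm E, M4.Jm E, M4.Jm_sq, M4.Jm_sq⟩, fun τ s => Subtype.ext (Matrix.ext fun i j => by
    rw [coe_fieldSL, coe_graphSL]
    exact ((M4.Jm_conj _ i j).trans ((M4.gm_t τ s _ _).trans (by rw [Fin.rev_rev, Fin.rev_rev]; rfl))).symm)⟩

theorem M4.inner (h : Qd σ) (g : GL (Fin 4) E) :
    ∃ l : SL(4, E), ∀ s, conjSL (Fin 4) E g s = l * s * l⁻¹ := by
  obtain ⟨c, hc, -⟩ := h.sqrt (Matrix.det g.1)
  obtain ⟨d, hd, -⟩ := h.sqrt c
  have e : Matrix.det g.1 = d ^ 4 := by rw [← hc, ← hd]; ring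
  have h0 : d ≠ 0 := by
    rintro rfl
    exact Matrix.GeneralLinearGroup.det_ne_zero g (by rw [e]; ring)
  refine ⟨⟨d⁻¹ • g.1, by rw [Matrix.det_smul, e]; simp [h0]⟩, fun s => ?_⟩
  refine eq_mul_inv_iff_mul_eq.2 (Subtype.ext ?_)
  change (conjSL (Fin 4) E g s).1 * (d⁻¹ • g.1) = (d⁻¹ • g.1) * s.1
  rw [coe_conjSL, Matrix.mul_smul, Matrix.smul_mul, mul_assoc, Units.inv_mul, mul_one]

theorem sl_aut (h : Qd σ) (α : MulAut SL(4, E)) :
    ∃ l τ b, ∀ g, α g = l * gm τ b g * l⁻¹ := by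
  obtain ⟨g, τ, e | e⟩ := PSL_aut_eq (n := 4) (by norm_num) (autQuot _ α)
  · obtain ⟨l, hl⟩ := M4.inner h g
    exact ⟨l, τ, false, fun s => (M4.mk_inj h (congrArg (fun β : MulAut _ =>
      β (QuotientGroup.mk s)) e)).trans (hl _)⟩
  · obtain ⟨J, hJ⟩ := M4.exists_J E
    obtain ⟨l, hl⟩ := M4.inner h (g * J)
    refine ⟨l, τ, true, fun s => ?_⟩
    rw [← hl, map_mul, MulAut.mul_apply, ← hJ]
    exact M4.mk_inj h (congrArg (fun β : MulAut _ => β (QuotientGroup.mk s)) e)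

theorem sl_uniq (h : Qd σ) {l : SL(4, E)} {τ : E ≃+* E} {b : Bool}
    (e : ∀ g, gm τ b g = l * g * l⁻¹) : τ = 1 ∧ b = false := by
  have := h.charP
  cases b
  · refine ⟨eq_one_of_fieldAut_mem_range_innD (ι := Fin 4) ⟨Matrix.SpecialLinearGroup.toGL l,
      MulEquiv.ext fun s => ?_⟩, rfl⟩
    induction s using QuotientGroup.induction_on with | H s => ?_
    rw [innD_mk, conjSL_toGL, MulAut.conj_apply, ← e]
    rfl
  · obtain ⟨J, hJ⟩ := M4.exists_J E
    refine absurd ⟨J * Matrix.SpecialLinearGroup.toGL l, MulEquiv.ext fun s => ?_⟩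
      (fieldAut_mul_graphAut_notMem_range_innD (ι := Fin 4) 2 (by simp) τ)
    induction s using QuotientGroup.induction_on with | H s => ?_
    rw [innD_mk, map_mul, MulAut.mul_apply, conjSL_toGL, MulAut.conj_apply, ← e, ← hJ]
    rfl

theorem M4.exists_elem (h : Qd σ) : ∃ ψ : Multiplicative (E × E) →* SL(4, E),
    Function.Injective ψ := by
  have c : ∀ s t : E, Commute (Chev.slE (0 : Fin 4) 2 s) (Chev.slE 0 3 t) :=
    Chev.stA_slE.commute _ _ _ _ (by decide) (by decide) (by decide) (by decide)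
  refine ⟨MonoidHom.mk' (fun v => Chev.slE 0 3 v.toAdd.1 * Chev.slE 0 2 v.toAdd.2) fun v w => ?_,
    (injective_iff_map_eq_one _).2 fun v hv => ?_⟩
  · rw [toAdd_mul, Prod.fst_add, Prod.snd_add, ← Chev.stA_slE.add _ _ (by decide),
      ← Chev.stA_slE.add _ _ (by decide), (c _ _).symm.mul_mul_mul_comm]
  · have e : (Chev.slE (0 : Fin 4) 3 v.toAdd.1).1 * (Chev.slE (0 : Fin 4) 2 v.toAdd.2).1 = 1 :=
      congrArg Subtype.val hv
    rw [Chev.coe_slE (by decide), Chev.coe_slE (by decide), mul_add, mul_one, add_mul, one_mul,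
      Matrix.single_mul_single_of_ne _ _ _ _ (by decide)] at e
    have e1 := congrFun (congrFun e 0) 3
    have e2 := congrFun (congrFun e 0) 2
    exact Multiplicative.toAdd.injective (Prod.ext (by simpa using e1) (by simpa using e2))

theorem sl_ident (h : Qd σ) {X : Subgroup G} (hX : IsSimpleGroup X) {φ : SL(4, E) →* G}
    (hφ : Function.Injective φ) (hle : φ.range ≤ X) (hs : IsSylowIn 2 ((Known.uniTri 4 E).map φ) X) :
    φ.range = X := by
  have := Fintype.ofFinite E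
  obtain ⟨n, h1, hn⟩ := h.two_pow
  have hc : Nat.card E = 2 ^ (n * 2) := by rw [h.card, hn, pow_mul]
  obtain ⟨e⟩ := sl_psl h
  obtain ⟨P, hP⟩ := (sl_syl h).exists_sylow_eq
  obtain ⟨ψ, hψ⟩ := M4.exists_elem h
  let χ := (φ.codRestrict X fun g => hle ⟨g, rfl⟩).comp ψ
  have hχ : Function.Injective χ := fun a b k => hψ (hφ (congrArg Subtype.val k))
  obtain ⟨f⟩ := Cfsg.Agent.S1769.result (G := X) (fun k => by
      have := k χ.range inferInstance (by
        rintro _ ⟨v, rfl⟩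
        have e2 : ∀ s : E, s + s = 0 := fun s => by rw [← two_mul, h.two, zero_mul]
        rw [← map_pow, pow_two, show v * v = 1 from Multiplicative.toAdd.injective
          (Prod.ext (e2 _) (e2 _)), map_one])
      rw [← Nat.card_congr (MonoidHom.ofInjective hχ).toEquiv, Nat.card_congr Multiplicative.toAdd,
        Nat.card_prod, hc, ← pow_add, Nat.pow_le_pow_iff_right (by norm_num)] at this
      omega) (n * 2) (by omega) (Nat.card_eq_fintype_card.symm.trans hc) 4 (by norm_num)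
    hs.toSylow (P.mapSurjective (f := e.toMonoidHom) e.surjective)
    ⟨((subgroupOfEquivOfLe hs.le).trans (equivMapOfInjective _ φ hφ).symm).trans
      ((MulEquiv.subgroupCongr hP.symm).trans (equivMapOfInjective _ e.toMonoidHom e.injective))⟩
  refine eq_of_le_of_card_ge hle ?_
  rw [← Nat.card_congr (MonoidHom.ofInjective hφ).toEquiv, Nat.card_congr (f.trans e.symm).toEquiv]

end Cfsg.Lib.U42
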