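import Cfsg.Agent.U42.SY0
import Cfsg.Agent.U42.M1
import Cfsg.Agent.U42.M1n
import Cfsg.Agent.U42.M1s
import Cfsg.Agent.U42.M2
import Cfsg.Agent.U42.M2b
import Cfsg.Agent.U42.M1b
import Cfsg.Agent.U42.M3
import Cfsg.Agent.SG2.M3c
import Cfsg.Agent.S0815

/-!
# Standard subgroups of type `U₄(2)`: automorphisms, centralisers and normalisers in `Aut L`
-/

set_option autoImplicit false
set_option linter.unusedSectionVars false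

namespace Cfsg.Lib.U42

open Subgroup Cfsg.Lib.Trans Cfsg.Lib.Gold
open Cfsg.Lib.SG2.M3c (nc comm_mul)
open scoped commutatorElement MatrixGroups

variable {G E : Type*} [Group G] [Finite G] [Field E] [Finite E] {σ : E ≃+* E}
  {x : ZMod 8 → E → G}

namespace M3b

theorem acts_one {g : G} {τ : E ≃+* E} (h : Acts x g τ) (i : ZMod 8) : Commute g (x i 1) :=
  mul_inv_eq_iff_eq_mul.1 (by rw [h, map_one])

theorem acts_Ns {g : G} {τ : E ≃+* E} (h : Acts x g τ) : g ∈ Ns (LL x) :=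
  cj_eq_self_iff.1 (Mp.cj_LL h)

theorem ns_PA {g : G} (h : ∀ j, g ∈ Ns (rt x j)) : g ∈ Ns (PA x) :=
  SG2.Ns_sup (SG2.Ns_sup (h 0) (SG2.Ns_sup (h 2) (h 1))) (SG2.Ns_sup (h 3) (h _))

theorem ns_PB {g : G} (h : ∀ j, g ∈ Ns (rt x j)) : g ∈ Ns (PB x) :=
  SG2.Ns_sup (SG2.Ns_sup (h 3) (SG2.Ns_sup (h 2) (h 1))) (SG2.Ns_sup (h 0) (h _))

theorem LL_tau (τ : E ≃+* E) : LL (fun i s => x i (τ s)) = LL x :=
  le_antisymm (LL_le.2 fun i s => x_mem_LL i _) (LL_le.2 fun i s => by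
    rw [← τ.apply_symm_apply s]; exact x_mem_LL (x := fun i s => x i (τ s)) i _)

theorem comm_of {g l v : G} (h1 : Commute g v) (h2 : Commute (l⁻¹ * g) v) : Commute l v := by
  simpa using h1.mul_left h2.inv_left

theorem comm_eq {g l v : G} (h : Commute (l⁻¹ * g) v) : ⁅l, v⁆ = ⁅g, v⁆ := by
  calc ⁅l, v⁆ = l * (l⁻¹ * g * v * (l⁻¹ * g)⁻¹) * l⁻¹ * v⁻¹ := by
        rw [h.eq, mul_inv_cancel_right, commutatorElement_def]
    _ = _ := by rw [commutatorElement_def]; group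

end M3b

open M3b

theorem Sys.acts_inner (h : Sys σ x) {l : G} (hl : l ∈ LL x) {τ : E ≃+* E} (ha : Acts x l τ) :
    l = 1 ∧ τ = 1 := by
  have hc := acts_one ha
  obtain ⟨d, c, r, hd, hr, rfl⟩ := h.s.mem_VV.1 (h.cVL hl (hc 1) (hc 2) (hc 3))
  have h0 := h.s.conj0 (c := c) 1 hd hr
  have h4 := h.s.conj4 1 hd hr c
  rw [← (hc 0).eq, mul_inv_cancel_right] at h0
  rw [← (hc 4).eq, mul_inv_cancel_right] at h4
  have h1 := (h.s.vv_inj h.inj hd hr hd (fx_add (fx_add hr (fx_mul (h.s.fxN _) hd)) (h.s.fxT' _ _))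
    h0).2.1
  have h2 := (h.s.vv_inj h.inj hd hr (fx_add (fx_add hd (fx_mul (h.s.fxN _) hr)) (h.s.fxT' _ _)) hr
    h4).2.1
  obtain rfl : d = 0 := by simpa using h1
  obtain rfl : r = 0 := by simpa using h2
  have h7 := h.s.c3m 2 (by decide) c 1 (map_one σ)
  rw [← h.s.vv_2, show (2 - 3 : ZMod 8) = 7 from rfl, (hc 7).eq, mul_inv_cancel_right, mul_assoc,
    left_eq_mul, show (2 - 2 : ZMod 8) = 0 from rfl, show (2 - 1 : ZMod 8) = 1 from rfl,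
    ← h.s.vv_1, ← uu] at h7
  obtain rfl : c = 0 := by
    simpa using (h.inj _ _ _ _ (map_zero σ) (fx_mul (h.s.fxN _) (map_one σ)) h7).1
  rw [h.s.vv_zero] at ha ⊢
  exact ⟨rfl, Mp.uniq h.s h.inj ha Mp.one⟩

theorem M3b.aut0 (h : Sys σ x) (θ : MulAut (LL x)) : ∃ l ∈ LL x, ∃ τ : E ≃+* E,
    ∀ i s, (θ ⟨x i s, x_mem_LL i s⟩ : G) = l * x i (τ s) * l⁻¹ := by
  have := Fintype.ofFinite E
  choose e he using fun τ => h.iso (h.tau τ)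
  let f : LL x × (E ≃+* E) → MulAut (LL x) := fun p =>
    MulAut.conj p.1 * (e p.2).trans (MulEquiv.subgroupCongr (LL_tau p.2))
  have hf : ∀ p i s, (f p ⟨x i s, x_mem_LL i s⟩ : G) = p.1 * x i (p.2 s) * (p.1 : G)⁻¹ :=
    fun p i s => by
      change (p.1 : G) * (e p.2 ⟨x i s, x_mem_LL i s⟩ : G) * _ = _
      rw [he]; rfl
  have hi : Function.Injective f := fun ⟨l, τ⟩ ⟨m, ρ⟩ e => by
    obtain ⟨h1, h2⟩ := h.acts_inner (mul_mem (inv_mem m.2) l.2) (τ := ρ * τ⁻¹) fun i s => by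
      have h3 := (hf _ i (τ.symm s)).symm.trans (e ▸ hf _ i (τ.symm s))
      simp only [RingEquiv.apply_symm_apply] at h3
      calc _ = (m : G)⁻¹ * (l * x i s * (l : G)⁻¹) * m := by group
        _ = _ := by rw [← h3]; group; rfl
    exact Prod.ext (Subtype.ext (inv_mul_eq_one.1 h1).symm) (mul_inv_eq_one.1 h2).symm
  obtain ⟨n, hn, hq⟩ := h.qd.two_pow
  obtain ⟨ψ⟩ := h.equiv
  have h4 := h.q2
  have hc := Cfsg.Agent.S0815.result (F := E) 2 n hn hq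
    (Nat.card_eq_fintype_card.symm.trans h.qd.card) 4 (by norm_num) (by omega)
  have hg : Nat.gcd 4 (qn σ + 1) = 1 := Nat.Coprime.pow_left 2 (Nat.coprime_two_left.2
    (Even.add_one (hq ▸ (Nat.even_pow.2 ⟨even_two, by omega⟩))))
  obtain ⟨p, rfl⟩ := ((Nat.bijective_iff_injective_and_card f).2 ⟨hi, by
    rw [Nat.card_congr (MulAut.congr ψ).toEquiv, hc, hg, Nat.card_prod, h.qd.card_aut hq,
      Nat.card_congr ψ.toEquiv, one_mul, mul_comm]⟩).2 θ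
  exact ⟨p.1, p.1.2, p.2, hf p⟩

theorem Sys.aut2 {y : ZMod 8 → E → G} (h : Sys σ x) (hy : Sys σ y) {g : G}
    (hg : cj g (LL x) = LL y) : ∃ l ∈ LL y, ∃ τ : E ≃+* E, Mp x y (l⁻¹ * g) τ := by
  obtain ⟨e, he⟩ := hy.iso h
  obtain ⟨l, hl, τ, h1⟩ := aut0 hy (e.trans ((cjEquiv g _).trans (MulEquiv.subgroupCongr hg)))
  refine ⟨l, hl, τ, fun i s => ?_⟩
  have h2 : g * x i s * g⁻¹ = l * y i (τ s) * l⁻¹ := by
    rw [← h1, MulEquiv.trans_apply, he]; rfl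
  calc _ = l⁻¹ * (g * x i s * g⁻¹) * l := by group
    _ = _ := by rw [h2]; group

theorem Sys.aut (h : Sys σ x) {g : G} (hg : g ∈ Ns (LL x)) :
    ∃ l ∈ LL x, ∃ τ : E ≃+* E, Acts x (l⁻¹ * g) τ := h.aut2 h (cj_eq_self_iff.2 hg)

theorem Sys.perf_le (h : Sys σ x) {Y : Subgroup G} (hY : ⁅Y, Y⁆ = Y) (hn : Y ≤ Ns (LL x)) :
    Y ≤ LL x ⊔ Cs (LL x) := by
  refine hY.ge.trans (commutator_le.2 fun a ha b hb => ?_)
  obtain ⟨l, hl, ρ, h1⟩ := h.aut (hn ha)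
  obtain ⟨m, hm, τ, h2⟩ := h.aut (hn hb)
  rw [← mul_inv_cancel_left l a, ← mul_inv_cancel_left m b, comm_mul]
  refine mul_mem (mul_mem (mem_sup_left (mul_mem hl (nc (acts_Ns h1) hm)))
    (mem_sup_right (Mp.mem_Cs ?_))) (mem_sup_left (inv_mem (mul_mem hm (nc (acts_Ns h2) hl))))
  have := ((Mp.mul h1 h2).mul (Mp.inv h1)).mul (Mp.inv h2)
  rwa [aut_comm ρ τ, mul_inv_cancel_right, mul_inv_cancel] at this

theorem Sys.idx_out (h : Sys σ x) {T : Subgroup G} (hT : T ≤ Ns (LL x)) :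
    Nat.card T ≤ Nat.card (E ≃+* E) * Nat.card ↥(T ⊓ (LL x ⊔ Cs (LL x))) := by
  classical
  have : Finite (E ≃+* E) := Finite.of_injective (fun τ : E ≃+* E => (τ : E → E)) DFunLike.coe_injective
  let f : (E ≃+* E) → G := fun τ => if e : ∃ a, Acts x a τ then e.choose else 1
  refine (SG2.card_le_cover (Set.range f) fun d hd => ?_).trans
    (Nat.mul_le_mul_right _ (Nat.card_le_card_of_surjective _ Set.rangeFactorization_surjective))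
  obtain ⟨l, hl, τ, h1⟩ := h.aut (hT hd)
  have h2 : Acts x (f τ) τ := by
    have e : ∃ a, Acts x a τ := ⟨_, h1⟩
    simp only [f, dif_pos e]; exact e.choose_spec
  refine ⟨_, ⟨τ, rfl⟩, ?_⟩
  rw [show (f τ)⁻¹ * d = (f τ)⁻¹ * l * (f τ)⁻¹⁻¹ * ((f τ)⁻¹ * (l⁻¹ * d)) by group]
  have := (Mp.inv h2).mul h1
  rw [inv_mul_cancel] at this
  exact mul_mem (mem_sup_left (nc (inv_mem (acts_Ns h2)) hl)) (mem_sup_right (Mp.mem_Cs this))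

theorem M3b.ne_of_norm {e : E} (he : e * σ e = 1) : e ≠ 0 := left_ne_zero_of_mul_eq_one he

theorem Sys.cR (h : Sys σ x) : LL x ⊓ C1 (x 1 1) = LL x ⊓ Cs (rt x 1) := by
  refine le_antisymm (fun l hl => ⟨hl.1, ?_⟩) fun l hl =>
    ⟨hl.1, mem_C1.2 (mem_Cs.1 hl.2 _ (x_mem_rt 1 1)).symm⟩
  obtain ⟨e, he, p, hp, rfl⟩ := h.cz hl.1 (mem_C1.1 hl.2)
  refine (Cs (rt x 1)).mul_mem (le_Cs_comm.1 (rt_le.2 fun s => mem_Cs.2 fun u hu => ?_)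
    (mem_zpowers _)) (le_Cs_comm.1 h.s.R_le_Cs hp)
  obtain ⟨n, rfl⟩ := hu
  refine Commute.zpow_left (mul_inv_eq_iff_eq_mul.1 ?_) n
  rw [h.hh_conj 0 1 (ne_of_norm he) (Or.inl (by decide)), show pa 0 1 = 1 from rfl,
    show pb 0 1 = 1 from rfl, zpow_one, zpow_one, he, one_mul]

theorem Sys.cz' (h : Sys σ x) {Y : Subgroup G} (hY : ⁅Y, Y⁆ = Y) (hle : Y ≤ LL x ⊓ C1 (x 1 1)) :
    Y ≤ PA x := by
  refine hY.ge.trans (commutator_le.2 fun a ha b hb => ?_)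
  obtain ⟨e, he, p, hp, rfl⟩ := h.cz (hle ha).1 (mem_C1.1 (hle ha).2)
  obtain ⟨e', he', p', hp', rfl⟩ := h.cz (hle hb).1 (mem_C1.1 (hle hb).2)
  have h1 := ns_PA (h.hh_Ns 0 (ne_of_norm he) (Or.inl (by decide)))
  have h2 := ns_PA (h.hh_Ns 0 (ne_of_norm he') (Or.inl (by decide)))
  rw [← inv_mul_cancel_right (hh σ x 0 e * p) (hh σ x 0 e),
    ← inv_mul_cancel_right (hh σ x 0 e' * p') (hh σ x 0 e'), comm_mul,
    (h.hh_comm 0 0 (ne_of_norm he) (Or.inl (by decide)) (ne_of_norm he')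
      (Or.inl (by decide))).commutator_eq, mul_one]
  exact mul_mem (mul_mem (nc h1 hp) (nc h1 (nc h2 hp')))
    (inv_mem (mul_mem (nc h2 hp') (nc h2 (nc h1 hp))))

theorem Sys.nR (h : Sys σ x) {l : G} (hl : l ∈ LL x) (hn : l ∈ Ns (rt x 1)) :
    ∃ c, σ c = c ∧ c ≠ 0 ∧ (hh σ x 1 c)⁻¹ * l ∈ Cs (rt x 1) := by
  obtain ⟨r, hr, e⟩ := (h.s.mem_rtl (by decide)).1 (nc hn (x_mem_rt 1 1))
  obtain ⟨c, rfl, hc⟩ := h.qd.sqrt r
  have h0 : c ≠ 0 := by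
    rintro rfl
    rw [zero_pow two_ne_zero, h.s.zero, conj_eq_one_iff] at e
    exact h.x_ne 1 e
  refine ⟨c, hc hr, h0, (h.cR.le (mem_inf.2 ⟨mul_mem (inv_mem (hh_mem_LL 1 c)) hl, mem_C1.2 ?_⟩)).2⟩
  have h1 := h.hh_conj 1 1 h0 (Or.inr (hc hr)) 1
  rw [show pa 1 1 = (2 : ℕ) from rfl, show pb 1 1 = 0 from rfl, zpow_natCast, zpow_zero, mul_one,
    mul_one, ← e] at h1
  calc _ = (hh σ x 1 c)⁻¹ * (l * x 1 1 * l⁻¹) * l := by group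
    _ = _ := by rw [← h1]; group

theorem Sys.cR_Ns (h : Sys σ x) : LL x ⊓ Ns (rt x 1) ≤ Ns (PA x) := fun l hl => by
  obtain ⟨c, hc, h0, h1⟩ := h.nR hl.1 hl.2
  obtain ⟨e, he, p, hp, h2⟩ := h.cz (mul_mem (inv_mem (hh_mem_LL 1 c)) hl.1)
    (mem_Cs.1 h1 _ (x_mem_rt 1 1)).symm
  rw [inv_mul_eq_iff_eq_mul.1 h2]
  exact mul_mem (ns_PA (h.hh_Ns 1 h0 (Or.inr hc)))
    (mul_mem (ns_PA (h.hh_Ns 0 (ne_of_norm he) (Or.inl (by decide)))) (le_normalizer hp))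

theorem Sys.cW (h : Sys σ x) {g : G} (hg : g ∈ Ns (LL x)) (hc : g ∈ Cs (rt x 1))
    (hq : ∀ q ∈ QQ x, ⁅g, q⁆ ∈ rt x 1) : ∃ p ∈ QQ x, p⁻¹ * g ∈ Cs (LL x) := by
  obtain ⟨l, hl, τ, h1⟩ := h.aut hg
  have h0 := fun s => X0_le_QQ (x_mem_rt (x := x) 0 s)
  have h2 := h.fa hl (comm_of (mem_Cs.1 hc _ (x_mem_rt 1 1)).symm (acts_one h1 1))
    (comm_eq (acts_one h1 0) ▸ hq _ (h0 1))
    (comm_eq (acts_one h1 2) ▸ hq _ (NN_le_QQ (X2_le_NN (x_mem_rt 2 1))))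
  obtain rfl : τ = 1 := RingEquiv.ext fun s => by
    have h3 := hq _ (h0 s)
    have h4 : x 0 (τ s + s) ∈ rt x 1 := by
      rw [h.s.add0, ← h1, ← h.s.inv 0 s, h.s.inv 0 s, show l⁻¹ * g * x 0 s * (l⁻¹ * g)⁻¹ * x 0 s =
        ⁅l⁻¹, ⁅g, x 0 s⁆⁆ * ⁅g, x 0 s⁆ * ⁅l⁻¹, x 0 s⁆ * (x 0 s * x 0 s) by
          simp only [commutatorElement_def]; group, h.s.mul_self, mul_one]
      exact mul_mem (mul_mem (h.s.comm_QQ (inv_mem h2) (R_le_QQ h3)) h3)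
        (h.s.comm_QQ (inv_mem h2) (h0 s))
    rw [← h.s.uu_0, h.uu_mem_R (map_zero σ) (map_zero σ)] at h4
    exact h.s.eq_of_add h4.1
  exact ⟨l, h2, Mp.mem_Cs h1⟩

theorem Sys.cQ (h : Sys σ x) {g : G} (hg : g ∈ Ns (LL x)) (hc : g ∈ Cs (QQ x)) :
    ∃ p ∈ rt x 1, p⁻¹ * g ∈ Cs (LL x) := by
  obtain ⟨p, hp, h1⟩ := h.cW hg (Cs_anti R_le_QQ hc) fun q hq => by
    rw [(show Commute g q from (mem_Cs.1 hc q hq).symm).commutator_eq]; exact one_mem _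
  refine ⟨p, h.zQ.le ⟨hp, ?_⟩, h1⟩
  simpa using mul_mem hc (inv_mem (Cs_anti QQ_le_LL h1))

theorem Sys.cV (h : Sys σ x) {g : G} (hg : g ∈ Ns (LL x)) (hc : g ∈ Cs (VV x)) :
    ∃ p ∈ VV x, p⁻¹ * g ∈ Cs (LL x) := by
  obtain ⟨l, hl, τ, h1⟩ := h.aut hg
  have h0 := fun s => NN_le_VV (X2_le_NN (x_mem_rt (x := x) 2 s))
  have h2 := h.cVL hl (comm_of (mem_Cs.1 hc _ (R_le_VV (x_mem_rt 1 1))).symm (acts_one h1 1))
    (comm_of (mem_Cs.1 hc _ (h0 1)).symm (acts_one h1 2))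
    (comm_of (mem_Cs.1 hc _ (X3_le_VV (x_mem_rt 3 1))).symm (acts_one h1 3))
  obtain rfl : τ = 1 := RingEquiv.ext fun s => h.s.x2_inj h.inj (by
    rw [← h1, ← mem_Cs.1 (mul_mem (inv_mem (h.s.VV_comm h2)) hc) _ (h0 s), mul_inv_cancel_right]
    rfl)
  exact ⟨l, h2, Mp.mem_Cs h1⟩

theorem Sys.nV (h : Sys σ x) {g : G} (hg : g ∈ Ns (LL x)) (hn : g ∈ Ns (VV x)) :
    g ∈ Ns (PB x) := by
  obtain ⟨l, hl, τ, h1⟩ := h.aut hg
  obtain ⟨c, hc, h0, p, hp, e⟩ := h.nVL hl (by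
    simpa using mul_mem hn (inv_mem (cj_eq_self_iff.1 (Mp.cj_VV h1) : _ ∈ Ns (VV x))))
  rw [← mul_inv_cancel_left l g]
  refine mul_mem ?_ (cj_eq_self_iff.1 (Mp.cj_PB h1))
  exact e ▸ mul_mem (ns_PB (h.hh_Ns 1 h0 (Or.inr hc))) (le_normalizer hp)

end Cfsg.Lib.U42
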