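import Cfsg.Agent.U42.M1n
import Cfsg.Agent.U42.M2
import Cfsg.Agent.U42.M3b
import Cfsg.Agent.U42.P1a

/-!
# Standard subgroups of type `U₄(2)`: the relation between `y 0` and `y 3`
-/

set_option autoImplicit false
set_option linter.unusedSectionVars false

namespace Cfsg.Lib.U42

open Subgroup Cfsg.Lib.Trans Cfsg.Lib.Gold
open scoped commutatorElement

variable {G E : Type*} [Group G] [Finite G] [Field E] [Finite E] {σ : E ≃+* E}
  {x : ZMod 8 → E → G} {t : G} {β : E} {hβ : σ β = β} {y : ZMod 8 → EK β → G}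

namespace P4c

local notation "τ" => qb σ hβ
local notation "ι" => algebraMap E (EK β)

/-- Normal form. -/
def W (y : ZMod 8 → EK β → G) (k c r : EK β) : G := y 0 k * y 2 c * y 1 r

theorem W_eq_1 : type_of% @W.eq_1 := @W.eq_1

theorem one_of {o : G} (ho : Odd (orderOf o)) (h : o ^ 4 = 1) : o = 1 :=
  orderOf_eq_one_iff.1 (Nat.Coprime.eq_one_of_dvd
    (Nat.Coprime.pow_right 2 (Nat.coprime_two_right.2 ho)) (orderOf_dvd_of_pow_eq_one h))

theorem fι {s : E} (hs : σ s = s) : τ (ι s) = ι s := by rw [qb_alg, hs]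

variable (h : H4b σ x t hβ y) {k m c r k' c' r' : EK β} {g : G}
include h

theorem kk (k : EK β) : k + k = 0 := by ext <;> simp [h.s.add_self]

theorem two : (2 : EK β) = 0 := by rw [← one_add_one_eq_two, kk h]

theorem tt (k : EK β) : τ (τ k) = k := by ext <;> simp [h.s.ss]

theorem fT (a b : EK β) : τ (a * b + τ a * τ b) = a * b + τ a * τ b := by
  rw [map_add, map_mul, map_mul, tt h, tt h, add_comm]

theorem star_eq (k : EK β) : star k = k + ι k.im := by ext <;> simp [h.s.neg_eq]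

theorem T_inj (e : ∀ s, ι s * k + τ (ι s) * τ k = ι s * m + τ (ι s) * τ m) : k = m := by
  ext
  · refine h.qd.T_inj fun s => ?_
    have := congrArg QuadraticAlgebra.re (e s)
    simpa [mul_comm] using this
  · refine h.qd.T_inj fun s => ?_
    have := congrArg QuadraticAlgebra.im (e s)
    simpa [mul_comm] using this

theorem y0 {i : ZMod 8} (hi : i.val ≤ 3) : y i 0 = 1 := by
  rw [← map_zero ι, h.res i hi, h.s.zero]

theorem ml {i : ZMod 8} (hi : i = 1 ∨ i = 3) (r : EK β) : y i r ∈ RT x t i := by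
  by_cases e : τ r = r
  · exact (h.meml i hi _).2 ⟨r, e, rfl⟩
  · rw [h.junk i hi r e]; exact one_mem _

theorem m1 (r : EK β) : y 1 r ∈ RT x t 1 := ml h (Or.inl rfl) r

omit h in
theorem RV : RT x t 1 ≤ VT x t := le_ncl'

theorem v1 (r : EK β) : y 1 r ∈ VT x t := RV (m1 h r)
theorem v2 (r : EK β) : y 2 r ∈ VT x t := ((h.mem2 _).2 ⟨r, rfl⟩).1
theorem v3 (r : EK β) : y 3 r ∈ VT x t := h.le3 (ml h (Or.inr rfl) r)
theorem w3 (d : E) : x 3 d ∈ VT x t := h.leV (X3_le_VV (x_mem_rt 3 d))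

theorem s0 (k : EK β) : y 0 k * y 0 k = 1 := by
  rw [← h.adds 0 (Or.inl rfl), kk h, y0 h (by decide)]

theorem c00 (k m : EK β) : Commute (y 0 k) (y 0 m) := by
  rw [Commute, SemiconjBy, ← h.adds 0 (Or.inl rfl), ← h.adds 0 (Or.inl rfl), add_comm]

theorem tc {i : ZMod 8} (hi : i.val ≤ 3) (e : y i (k + ι k.im) = y i k * y i (ι k.im))
    (s : y i k * y i k = 1) : y i k * t * (y i k)⁻¹ = t * x i k.im := by
  have := h.st i hi k
  rw [star_eq h, e, h.res i hi, mul_inv_eq_iff_eq_mul] at this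
  rw [inv_eq_of_mul_eq_one_right s, mul_assoc, this, ← mul_assoc, ← mul_assoc, s, one_mul,
    (h.tc i _).eq]

theorem t0 (k : EK β) : y 0 k * t * (y 0 k)⁻¹ = t * x 0 k.im :=
  tc h (by decide) (h.adds 0 (Or.inl rfl) ..) (s0 h k)

theorem t2 (k : EK β) : y 2 k * t * (y 2 k)⁻¹ = t * x 2 k.im :=
  tc h (by decide) (h.adds 2 (Or.inr rfl) ..) (h.el _ (v2 h k))

theorem t1 (hk : τ k = k) : y 1 k * t * (y 1 k)⁻¹ = t * x 1 k.im :=
  tc h (by decide) (h.addl 1 (Or.inl rfl) _ _ hk (fι (qb_fix.1 hk).2)) (h.el _ (v1 h k))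

theorem t3 (hk : τ k = k) : y 3 k * t * (y 3 k)⁻¹ = t * x 3 k.im :=
  tc h (by decide) (h.addl 3 (Or.inr rfl) _ _ hk (fι (qb_fix.1 hk).2)) (h.el _ (v3 h k))

theorem inj1 (hr : τ r = r) (hr' : τ r' = r') (e : y 1 r = y 1 r') : r = r' := by
  have a := t1 h hr
  rw [e, t1 h hr', mul_right_inj] at a
  replace a := h.s.x1_inj h.inj (qb_fix.1 hr').2 (qb_fix.1 hr).2 a
  have b := h.addl 1 (Or.inl rfl) _ _ hr hr'
  rw [e, h.el _ (v1 h r'), show r + r' = ι (r.re + r'.re) by ext <;> simp [a, h.s.add_self],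
    h.res 1 (by decide), ← h.s.zero 1] at b
  exact QuadraticAlgebra.ext (h.s.eq_of_add (h.s.x1_inj h.inj
    (fx_add (qb_fix.1 hr).1 (qb_fix.1 hr').1) (map_zero σ) b)) a.symm

theorem PA_R (hg : g ∈ PA x) : g ∈ Cs (RT x t 1) :=
  le_Cs_comm.1 h.cP ⟨PA_le_LL hg, le_Cs_comm.1 h.s.R_le_Cs hg⟩

theorem V_R (hg : g ∈ VT x t) : g ∈ Cs (RT x t 1) := mem_Cs.2 fun a ha => h.abV a (RV ha) g hg

theorem y0_eq (k : EK β) : y 0 k = nn σ x 3 1 * y 2 (τ k) * (nn σ x 3 1)⁻¹ := by rw [h.n0, tt h]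

theorem y0_R (k : EK β) : y 0 k ∈ Cs (RT x t 1) := by
  have := PA_R h (SL_le_PA (nn_mem_SL (σ := σ) 3 1))
  rw [y0_eq h]
  exact mul_mem (mul_mem this (V_R h (v2 h _))) (inv_mem this)

omit h in
theorem L_O : LL x ≤ Cs (Ot x t) := le_Cs_comm.1 (Ot_le.trans inf_le_right)

theorem y0_O (k : EK β) : y 0 k ∈ Cs (Ot x t) := by
  rw [y0_eq h]
  exact mul_mem (mul_mem (L_O (nn_mem_LL 3 1)) (h.cOV (v2 h _))) (inv_mem (L_O (nn_mem_LL 3 1)))

theorem W_R (k c r : EK β) : W y k c r ∈ Cs (RT x t 1) :=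
  mul_mem (mul_mem (y0_R h k) (V_R h (v2 h c))) (V_R h (v1 h r))

theorem W_O (k c r : EK β) : W y k c r ∈ Cs (Ot x t) :=
  mul_mem (mul_mem (y0_O h k) (h.cOV (v2 h c))) (h.cOV (v1 h r))

theorem W_mul (hr : τ r = r) (hr' : τ r' = r') : W y k c r * W y k' c' r' =
    W y (k + k') (c + c') (k' * c + τ k' * τ c + r + r') := by
  have e : y 2 c * y 0 k' = y 0 k' * (y 2 c * y 1 (k' * c + τ k' * τ c)) := by
    rw [← h.c02, inv_eq_of_mul_eq_one_right (s0 h k'), ← mul_assoc, ← mul_assoc, s0 h, one_mul]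
  rw [W, W, W, h.adds 0 (Or.inl rfl), h.adds 2 (Or.inr rfl),
    h.addl 1 (Or.inl rfl) _ _ (fx_add (fT h ..) hr) hr', h.addl 1 (Or.inl rfl) _ _ (fT h ..) hr,
    mul_assoc _ (y 1 r), ← mul_assoc (y 1 r), mem_Cs.1 (mul_mem (y0_R h k') (V_R h (v2 h c'))) _
      (m1 h r)]
  simp only [mul_assoc]
  rw [← mul_assoc (y 2 c), e, (h.abV _ (v2 h c') _ (v1 h (k' * c + τ k' * τ c))).left_comm]
  simp only [mul_assoc]

theorem W_comm (hr : τ r = r) (hr' : τ r' = r') : ⁅W y k c r, W y k' c' r'⁆ ∈ RT x t 1 := by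
  rw [commutatorElement_def, mul_assoc, ← mul_inv_rev, W_mul h hr hr', W_mul h hr' hr, add_comm k',
    add_comm c', W, W, mul_inv_rev, ← mul_assoc, mul_assoc (y 0 _ * y 2 _)]
  have := mul_mem (m1 h (k' * c + τ k' * τ c + r + r')) (inv_mem (m1 h (k * c' + τ k * τ c' + r' + r)))
  rwa [← mem_Cs.1 (mul_mem (y0_R h _) (V_R h (v2 h _))) _ this, mul_inv_cancel_right]

theorem W4 (hr : τ r = r) : W y k c r ^ 4 = 1 := by
  rw [show 4 = 2 * 2 from rfl, pow_mul, pow_two, pow_two, W_mul h hr hr, kk h, kk h, W,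
    y0 h (by decide), y0 h (by decide), one_mul, one_mul, h.el _ (v1 h _)]

theorem mem_Q (hg : g ∈ QQ x) : ∃ k c r, τ r = r ∧ g = W y k c r := by
  obtain ⟨a, c, r, hr, rfl⟩ := h.s.mem_QQ.1 hg
  exact ⟨ι a, ι c, ι r, fι hr, by
    rw [W, h.res 0 (by decide), h.res 2 (by decide), h.res 1 (by decide), uu, h.s.vv_21, mul_assoc]⟩

theorem x03 (s : E) (hm : τ m = m) :
    y 3 m * x 0 s * (y 3 m)⁻¹ = W y (ι s) (σ s • m) ((s * σ s) • m) := by
  have e := h.a3 s m hm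
  rw [h.s.inv] at e
  rw [W, h.res 0 (by decide), mul_assoc (x 0 s), ← mul_left_inj (y 3 m), inv_mul_cancel_right,
    mul_assoc, ← (h.abV _ (v3 h m) _ (mul_mem (v2 h _) (v1 h _))).eq, ← mul_assoc (y 3 m), ← e,
    ← mul_assoc, ← mul_assoc, h.s.mul_self, one_mul]

theorem conj (hm : τ m = m)
    (H : ∀ k, ∃ k' c r, τ r = r ∧ y 3 m * y 0 k * (y 3 m)⁻¹ = W y k' c r) (k : EK β) :
    y 3 m * y 0 k * (y 3 m)⁻¹ = W y k (τ k * m) (k * τ k * m) := by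
  have A : ∀ k, ∃ r, τ r = r ∧ y 3 m * y 0 k * (y 3 m)⁻¹ = W y k (τ k * m) r := fun k => by
    obtain ⟨k', c, r, hr, e⟩ := H k
    obtain rfl : k' = k := T_inj h fun s => by
      have a := congrArg (fun g => y 3 m * g * (y 3 m)⁻¹) (mul_inv_eq_iff_eq_mul.1 (h.c02 k (ι s)))
      simp only [← conj_mul, e, (h.abV _ (v3 h m) _ (v2 h _)).eq, (h.abV _ (v3 h m) _ (v1 h _)).eq,
        mul_inv_cancel_right] at a
      rw [W, mul_assoc (y 0 k'), mul_assoc (y 0 k'), ← (h.abV _ (v2 h (ι s)) _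
        (mul_mem (v2 h _) (v1 h _))).eq, ← mul_assoc, mul_inv_eq_iff_eq_mul.1 (h.c02 k' (ι s)),
        ← mul_assoc _ (y 0 k'), mul_left_inj, mul_left_inj, mul_right_inj] at a
      simpa only [mul_comm] using inj1 h (fT h ..) (fT h ..) a
    obtain rfl : c = τ k' * m := T_inj h fun s => by
      have f : τ ((s * σ s) • m) = (s * σ s) • m := by rw [qb_smul, hm, h.s.fxN]
      have a := congrArg (fun g => y 3 m * g * (y 3 m)⁻¹) (c00 h k' (ι s)).eq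
      simp only [← conj_mul, e, h.res 0 (by decide), x03 h s hm] at a
      rw [W_mul h hr f, W_mul h f hr, add_comm (ι s), add_comm (σ s • m), W, W, mul_right_inj] at a
      replace a := inj1 h (fx_add (fx_add (fT h ..) hr) f) (fx_add (fx_add (fT h ..) f) hr) a
      simp only [map_mul, tt h, hm, qb_smul, h.s.ss, Algebra.smul_def, qb_alg] at a ⊢
      linear_combination a
    exact ⟨r, hr, e⟩
  obtain ⟨e, he, he'⟩ := h.qd.exists_norm1
  have n0 : e ^ 2 + 1 ≠ 0 := fun a => he' (h.s.eq_of_add a)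
  obtain ⟨k, rfl⟩ : ∃ l, k = e ^ 2 • l + l := ⟨(e ^ 2 + 1)⁻¹ • k, by
    conv_lhs => rw [← smul_inv_smul₀ n0 k, add_smul, one_smul]⟩
  obtain ⟨r, hr, a⟩ := A k
  have c1 : ∀ {l}, l ∈ LL x → l ∈ Cs (rt x 1) → ∀ r, l * y 1 r * l⁻¹ = y 1 r := fun a b r => by
    rw [← mem_Cs.1 (le_Cs_comm.1 h.cP ⟨a, b⟩) _ (m1 h r), mul_inv_cancel_right]
  have c3 : hh σ x 0 e * y 3 m * (hh σ x 0 e)⁻¹ = y 3 m := by
    have e0 : e ≠ 0 := left_ne_zero_of_mul_eq_one he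
    have := c1 (hh_mem_LL 0 e⁻¹) (Cs_anti le_sup_left (h.h0_SL (e := e⁻¹) (by
      rw [map_inv₀, ← mul_inv, he, inv_one])).2) m
    rw [← h.n1, ← inv_inv e, ← h.nn_hh 0 (inv_ne_zero e0) (Or.inl (by decide))]
    conv_rhs => rw [← this]
    group
  have b := congrArg (fun g => hh σ x 0 e * g * (hh σ x 0 e)⁻¹) a
  simp only [W, ← conj_mul, ← conj_inv, c3, h.h00 e _ he, h.h02 e _ he,
    c1 (hh_mem_LL 0 e) (Cs_anti le_sup_left (h.h0_SL he).2)] at b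
  rw [h.adds 0 (Or.inl rfl), ← conj_mul, b, a, ← W, W_mul h hr hr]
  have he2 : ι e * ι (σ e) = 1 := by rw [← map_mul, he, map_one]
  congr 1 <;> simp only [map_add, map_mul, map_pow, tt h, hm, h.s.ss, Algebra.smul_def, qb_alg]
  · ring
  · linear_combination (r - k * τ k * m) * two h - (ι e * ι (σ e) + 1) * k * τ k * m * he2

theorem no_t {p o : G} (hp : p ∈ Cs (RT x t 1)) (ho : o ∈ Ot x t) :
    p * t * o ∉ Cs (RT x t 1) := fun e => by
  rw [mul_mem_cancel_right (le_Cs_comm.1 h.cO ho), mul_mem_cancel_left hp] at e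
  have := t1 h (k := ⟨0, 1⟩) (by ext <;> simp)
  rw [mem_Cs.1 e _ (m1 h _), mul_inv_cancel_right, left_eq_mul] at this
  exact h.x_ne 1 this

theorem step1 {d : E} (hd : σ d = d) (k : EK β) :
    ∃ k' c r, τ r = r ∧ x 3 d * y 0 k * (x 3 d)⁻¹ = W y k' c r := by
  have f1 := h.s.fxT' k.re (σ k.im * d)
  have f2 := fx_mul (h.s.fxN k.im) hd
  have fr : τ ⟨0, k.re * (σ k.im * d) + σ k.re * σ (σ k.im * d) + k.im * σ k.im * d⟩ = _ :=
    qb_fix.2 ⟨map_zero σ, fx_add f1 f2⟩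
  have e : W y k ⟨0, σ k.im * d⟩
      ⟨0, k.re * (σ k.im * d) + σ k.re * σ (σ k.im * d) + k.im * σ k.im * d⟩ * t *
      (W y k ⟨0, σ k.im * d⟩
      ⟨0, k.re * (σ k.im * d) + σ k.re * σ (σ k.im * d) + k.im * σ k.im * d⟩)⁻¹ =
      x 3 d * y 0 k * (x 3 d)⁻¹ * t * (x 3 d * y 0 k * (x 3 d)⁻¹)⁻¹ := by
    have a : ∀ a b c : G, a * b * c * t * (a * b * c)⁻¹ = a * (b * (c * t * c⁻¹) * b⁻¹) * a⁻¹ :=
      fun _ _ _ => by group
    have b := h.c02 k (ι (σ k.im * d))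
    rw [show k * ι (σ k.im * d) + τ k * τ (ι (σ k.im * d)) =
      ι (k.re * (σ k.im * d) + σ k.re * σ (σ k.im * d)) by
        ext
        · simp
        · simp [h.s.ss, hd]; linear_combination k.im * σ k.im * d * h.s.two,
      h.res 2 (by decide), h.res 1 (by decide)] at b
    rw [W, a, a, t1 h fr, ← conj_mul (a := t), t2 h, ← mem_Cs.1 (V_R h (v2 h _)) _ (h.le (x_mem_rt 1 _)),
      mul_inv_cancel_right, ← conj_mul, ← conj_mul, t0 h, b,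
      ← mem_Cs.1 (y0_R h _) _ (h.le (x_mem_rt 1 _)), mul_inv_cancel_right,
      ← (h.tc 3 d).inv_right.eq, mul_inv_cancel_right, t0 h, ← conj_mul, ← (h.tc 3 d).eq,
      mul_inv_cancel_right, h.s.r30 _ hd, h.s.add1 f1 f2]
    simp only [mul_assoc]
    rw [← mul_assoc (x 1 _), h.s.mul_self, one_mul]
  generalize (⟨0, σ k.im * d⟩ : EK β) = c at e
  generalize (⟨0, _⟩ : EK β) = r at e fr
  have ct : Commute ((W y k c r)⁻¹ * (x 3 d * y 0 k * (x 3 d)⁻¹)) t := by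
    generalize x 3 d * y 0 k * (x 3 d)⁻¹ = b at e
    rw [Commute, SemiconjBy, mul_assoc, mul_inv_eq_iff_eq_mul.1 e.symm]; group
  have x3R := V_R h (w3 h d)
  have uR := mul_mem (inv_mem (W_R h k c r)) (mul_mem (mul_mem x3R (y0_R h k)) (inv_mem x3R))
  obtain ⟨p, hp, hc⟩ := h.cW (h.cn (mem_C1.2 ct)) (Cs_anti h.le uR) fun q hq => by
    refine h.ker _ ?_ (Commute.mul_left (Commute.mul_left (ct.mul_left ?_) ct.inv_left)
      (Commute.inv_left ?_))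
    · obtain ⟨k1, c1, r1, h1, e1⟩ := mem_Q h (mem_normalizer_conj' (h.s.UU_le_Ns_QQ
        (VV_le_UU (X3_le_VV (x_mem_rt 3 d)))) hq)
      obtain ⟨k2, c2, r2, h2, e2⟩ := mem_Q h hq
      have a := W_comm h (k := k) (c := 0) (map_zero τ) h1 (k' := k1) (c' := c1)
      rw [← e1, W, y0 h (i := 2) (by decide), y0 h (i := 1) (by decide), mul_one, mul_one] at a
      have b := mem_normalizer_conj' (Cs_le_Ns (W_R h k c r)) (mul_mem (mem_normalizer_conj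
        (Cs_le_Ns x3R) a) (inv_mem (e2 ▸ W_comm h (k := k) (c := c) fr h2)))
      convert b using 1
      simp only [commutatorElement_def]; group
    · exact mem_C1.1 (h.L_le (QQ_le_LL hq))
    · exact mem_C1.1 (h.L_le (QQ_le_LL hq))
  obtain ⟨o, ho, a | a⟩ := h.split ct (QQ_le_LL hp) hc
  · obtain ⟨k1, c1, r1, h1, rfl⟩ := mem_Q h hp
    rw [inv_mul_eq_iff_eq_mul, ← mul_assoc (W y k c r), W_mul h fr h1] at a
    have f := fx_add (fx_add (fT h k1 c) fr) h1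
    have b : ∀ r, Commute (W y (k + k1) (c + c1) r) o := fun r =>
      (mem_Cs.1 (W_O h _ _ _) o ho).symm
    have s : (x 3 d * y 0 k * (x 3 d)⁻¹) ^ 4 = 1 := by
      rw [conj_pow, show 4 = 2 * 2 from rfl, pow_mul, pow_two (y 0 k), s0 h]; simp
    rw [a, (b _).mul_pow, W4 h f, one_mul] at s
    exact ⟨_, _, _, f, by rw [a, one_of (odd_Ot ho) s, mul_one]⟩
  · exact (no_t h (PA_R h (QQ_le_PA hp)) ho (a ▸ uR)).elim

/-- The group generated by `y 2` and `y 1`. -/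
theorem mem_D : g ∈ XT σ x t ⊔ RT x t 1 ↔ ∃ c r, τ r = r ∧ g = y 2 c * y 1 r := by
  rw [SG2.mem_sup_Cs (A := XT σ x t) fun a ha => V_R h ha.1]
  constructor
  · rintro ⟨a, ha, b, hb, rfl⟩
    obtain ⟨c, rfl⟩ := (h.mem2 a).1 ha
    obtain ⟨r, hr, rfl⟩ := (h.meml 1 (Or.inl rfl) b).1 hb
    exact ⟨c, r, hr, rfl⟩
  · rintro ⟨c, r, -, rfl⟩
    exact ⟨_, (h.mem2 _).2 ⟨c, rfl⟩, _, m1 h r, rfl⟩

theorem d21 (c r : EK β) : y 2 c * y 1 r ∈ XT σ x t ⊔ RT x t 1 :=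
  mul_mem_sup ((h.mem2 _).2 ⟨c, rfl⟩) (m1 h r)

omit h in
theorem DV : XT σ x t ⊔ RT x t 1 ≤ VT x t := sup_le inf_le_left RV

theorem nD (hg : g ∈ XT σ x t ⊔ RT x t 1) : ∃ ρ ∈ RT x t 1, y 0 k * g * (y 0 k)⁻¹ = g * ρ := by
  obtain ⟨c, r, -, rfl⟩ := (mem_D h).1 hg
  exact ⟨_, m1 h _, by rw [← conj_mul, h.c02, ← mem_Cs.1 (y0_R h k) _ (m1 h r),
    mul_inv_cancel_right, mul_assoc, (h.abV _ (v1 h _) _ (v1 h r)).eq, mul_assoc]⟩

omit h in
theorem flip {a b δ : G} (ha : a * a = 1) (e : a * b * a⁻¹ = b * δ) :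
    b * a * b⁻¹ = a * (b * δ * b⁻¹) := by
  rw [← e, inv_eq_of_mul_eq_one_right ha, ← mul_assoc, ← mul_assoc, ← mul_assoc, ha, one_mul]

theorem g3 {d : E} (hd : σ d = d) (k : EK β) :
    ∃ δ ∈ XT σ x t ⊔ RT x t 1, y 0 k * x 3 d * (y 0 k)⁻¹ = x 3 d * δ := by
  have := conj h (fι hd) (fun k => by rw [h.res 3 (by decide)]; exact step1 h hd k) k
  rw [h.res 3 (by decide), W, mul_assoc (y 0 k)] at this
  obtain ⟨ρ, hρ, e⟩ := nD h (k := k) (d21 h (τ k * ι d) (k * τ k * ι d))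
  exact ⟨_, mul_mem (d21 h _ _) (mem_sup_right hρ), by
    rw [flip (h.s.mul_self 3 d) this, e]⟩

theorem step2 (hm : τ m = m) (k : EK β) :
    ∃ k' c r, τ r = r ∧ y 3 m * y 0 k * (y 3 m)⁻¹ = W y k' c r := by
  have sg := s0 h k
  have sg' := h.el _ (v3 h m)
  have c3 : ∀ v ∈ VT x t, y 3 m * v * (y 3 m)⁻¹ = v := fun v hv => by
    rw [(h.abV _ (v3 h m) v hv).eq, mul_inv_cancel_right]
  obtain ⟨w, hw⟩ : ∃ w, w = y 0 k * y 3 m * y 0 k * y 3 m := ⟨_, rfl⟩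
  have cw : ∀ a, w * a * w⁻¹ = y 0 k * (y 3 m * (y 0 k * (y 3 m * a * (y 3 m)⁻¹) * (y 0 k)⁻¹) *
      (y 3 m)⁻¹) * (y 0 k)⁻¹ := fun a => by rw [hw]; group
  have gg : ∀ a, y 0 k * (y 0 k * a * (y 0 k)⁻¹) * (y 0 k)⁻¹ = a := fun a => by
    rw [← mul_assoc, ← mul_assoc, sg, one_mul, mul_assoc, ← mul_inv_rev, sg, inv_one, mul_one]
  have wD : ∀ δ ∈ XT σ x t ⊔ RT x t 1, w * δ * w⁻¹ = δ := fun δ hδ => by
    obtain ⟨ρ, hρ, e⟩ := nD h (k := k) hδ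
    rw [cw, c3 _ (DV hδ), c3 _ (e ▸ mul_mem (DV hδ) (RV hρ)), gg]
  have wV : w ∈ Cs (VV x) := mem_Cs.2 fun v hv => by
    obtain ⟨d, c, r, hd, hr, rfl⟩ := h.s.mem_VV.1 hv
    obtain ⟨δ, hδ, e⟩ := g3 h hd k
    refine (mul_inv_eq_iff_eq_mul.1 ?_).symm
    rw [vv, mul_assoc (x 3 d), ← conj_mul, ← h.res 2 (by decide), ← h.res 1 (by decide),
      wD _ (d21 h _ _), cw, c3 _ (w3 h d), c3 _ (e ▸ mul_mem (w3 h d) (DV hδ)), gg]
  have wR : w ∈ Cs (RT x t 1) := mem_Cs.2 fun a ha =>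
    (mul_inv_eq_iff_eq_mul.1 (wD a (mem_sup_right ha))).symm
  have a4 : ∀ s, ∃ δ ∈ XT σ x t ⊔ RT x t 1, y 3 m * x 0 s * (y 3 m)⁻¹ = x 0 s * δ := fun s =>
    ⟨_, d21 h _ _, by rw [x03 h s hm, W, h.res 0 (by decide), mul_assoc]⟩
  have c0 : ∀ s, y 0 k * x 0 s * (y 0 k)⁻¹ = x 0 s := fun s => by
    rw [← h.res 0 (by decide), (c00 h _ _).eq, mul_inv_cancel_right]
  obtain ⟨δ, hδ, wt⟩ : ∃ δ ∈ XT σ x t ⊔ RT x t 1, w * t * w⁻¹ = t * δ := by
    have fb := (qb_fix.1 hm).2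
    obtain ⟨δ2, h2, e2⟩ := g3 h fb k
    obtain ⟨δ3, h3, e3⟩ := a4 k.im
    have e4 := h.s.r30 k.im fb
    rw [mul_assoc (x 0 _), ← h.res 2 (by decide), ← h.res 1 (by decide), h.s.inv] at e4
    have h4 := mul_mem (mul_mem (d21 h (ι (σ k.im * m.im)) (ι (k.im * σ k.im * m.im))) h3) h2
    obtain ⟨ρ, hρ, e⟩ := nD h (k := k) h4
    refine ⟨_, mul_mem h4 (mem_sup_right hρ), ?_⟩
    rw [cw, t3 h hm, ← conj_mul (a := t), t0 h, e2, ← conj_mul (a := t * _), ← conj_mul (a := t),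
      t3 h hm, e3,
      c3 _ (mul_mem (w3 h _) (DV h2)), ← e, show ∀ a b c d : G, t * a * (b * c) * (a * d) =
        t * (a * b * (c * a) * d) from fun _ _ _ _ => by group,
      ← (h.abV _ (w3 h _) _ (DV h3)).eq, ← mul_assoc _ (x 3 _) δ3, e4, ← conj_mul (a := t), t0 h,
      mul_assoc (x 0 _), mul_assoc (x 0 _), ← conj_mul (b := y 0 k) (a := x 0 _), c0]
    simp only [mul_assoc]
    rw [← mul_assoc (x 0 _), h.s.mul_self, one_mul]
  obtain ⟨δ', hδ', e'⟩ : ∃ δ' ∈ XT σ x t ⊔ RT x t 1, δ' * t * δ'⁻¹ = t * δ := by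
    have a : t * δ * t⁻¹ = δ := by
      have : t * δ * (t * δ) = 1 := by rw [← wt, conj_mul, h.t2]; group
      rw [← mul_assoc, mul_eq_one_iff_eq_inv, inv_eq_of_mul_eq_one_right (h.el _ (DV hδ))] at this
      rwa [inv_eq_of_mul_eq_one_right h.t2]
    obtain ⟨c, r, hr, rfl⟩ := (mem_D h).1 hδ
    have fr := qb_fix.1 hr
    rw [← conj_mul, h.st 2 (by decide), h.st 1 (by decide), star_eq h, star_eq h,
      h.adds 2 (Or.inr rfl), h.addl 1 (Or.inl rfl) _ _ hr (fι fr.2),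
      (h.abV _ (v2 h _) _ (v1 h r)).mul_mul_mul_comm, mul_eq_left, h.res 2 (by decide),
      h.res 1 (by decide), ← h.s.vv_21, ← h.s.vv_zero] at a
    obtain ⟨-, a1, a2⟩ := h.s.vv_inj h.inj (map_zero σ) fr.2 (map_zero σ) (map_zero σ) a
    refine ⟨_, d21 h ⟨0, c.re⟩ ⟨0, r.re⟩, ?_⟩
    rw [mul_inv_rev, mul_assoc (y 2 _), ← mul_assoc, mul_assoc (y 2 _),
      t1 h (qb_fix.2 ⟨map_zero σ, fr.1⟩), ← conj_mul, t2 h,
      ← mem_Cs.1 (V_R h (v2 h _)) _ (h.le (x_mem_rt 1 _)), mul_inv_cancel_right,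
      ← h.res 2 (by decide), ← h.res 1 (by decide), mul_assoc]
    congr 3 <;> ext <;> simp [a1, a2]
  have ct : Commute (δ'⁻¹ * w) t := by
    rw [Commute, SemiconjBy, mul_assoc, mul_inv_eq_iff_eq_mul.1 (wt.trans e'.symm)]; group
  obtain ⟨p, hp, hc⟩ := h.cV (h.cn (mem_C1.2 ct)) (mul_mem (inv_mem (mem_Cs.2 fun a ha =>
    h.abV a (h.leV ha) _ (DV hδ'))) wV)
  obtain ⟨o, ho, a | a⟩ := h.split ct (VV_le_LL hp) hc
  swap
  · exact (no_t h (V_R h (h.leV hp)) ho (a ▸ mul_mem (inv_mem (V_R h (DV hδ'))) wR)).elim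
  rw [inv_mul_eq_iff_eq_mul, ← mul_assoc] at a
  have vv' := mul_mem (DV hδ') (h.leV hp)
  obtain rfl : o = 1 := by
    have b : y 3 m * w * (y 3 m)⁻¹ * w = 1 := by
      rw [hw, inv_eq_of_mul_eq_one_right sg']
      calc _ = y 3 m * (y 0 k * (y 3 m * (y 0 k * (y 3 m * y 3 m) * y 0 k) * y 3 m) * y 0 k) * y 3 m := by
            group
        _ = 1 := by simp only [sg, sg', mul_one]
    rw [a, ← conj_mul, c3 _ vv', ← mem_Cs.1 (h.cOV (v3 h m)) o ho, mul_inv_cancel_right,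
      Commute.mul_mul_mul_comm (mem_Cs.1 (h.cOV vv') o ho), h.el _ vv', one_mul] at b
    exact one_of (odd_Ot ho) (by rw [show 4 = 2 * 2 from rfl, pow_mul, pow_two o, b, one_pow])
  obtain ⟨d, c, r, hd, hr, rfl⟩ := h.s.mem_VV.1 hp
  have hD : δ' * (x 2 c * x 1 r) ∈ XT σ x t ⊔ RT x t 1 := mul_mem hδ' (by
    rw [← h.res 2 (by decide), ← h.res 1 (by decide)]; exact d21 h _ _)
  rw [mul_one, vv, mul_assoc (x 3 d), (h.abV _ (w3 h d) _ (DV ((mul_mem_cancel_left hδ').1 hD))).eq,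
    ← mul_assoc] at a
  generalize δ' * (x 2 c * x 1 r) = ε at hD a
  obtain rfl : d = 0 := by
    obtain ⟨δ1, h1, e1⟩ := a4 1
    obtain ⟨ρ, hρ, e⟩ := nD h (k := k) h1
    obtain ⟨ρ', hρ', e2⟩ := nD h (k := ι 1) hD
    have b := cw (x 0 1)
    rw [e1, ← conj_mul (a := x 0 1), c0, e, ← conj_mul (a := x 0 1), e1, c3 _ (mul_mem (DV h1) (RV hρ)), mul_assoc (x 0 1),
      ← mul_assoc δ1, h.el _ (DV h1), one_mul, ← conj_mul, c0, ← mem_Cs.1 (y0_R h k) _ hρ,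
      mul_inv_cancel_right, a, mul_inv_rev, mul_assoc ε, ← mul_assoc, mul_assoc ε, h.s.r30 _ hd,
      mul_assoc (x 0 1), ← conj_mul] at b
    rw [h.res 0 (by decide)] at e2
    rw [flip (h.s.mul_self 0 1) e2, (h.abV _ (DV hD) _ (RV hρ')).eq,
      mul_inv_cancel_right, (h.abV _ (DV hD) _ (h.leV (NN_le_VV (mul_mem (X2_le_NN (x_mem_rt _ _))
      (R_le_NN (x_mem_rt _ _)))))).eq, mul_inv_cancel_right, mul_assoc, mul_right_inj,
      ← eq_inv_mul_iff_mul_eq, ← eq_mul_inv_iff_mul_eq] at b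
    have := h.ker _ (b ▸ mul_mem (mul_mem (inv_mem hρ') hρ) (inv_mem (h.le (x_mem_rt 1 _))))
      (h.tc 2 _).symm
    rw [← h.s.vv_2, ← h.s.uu_zero, h.uu_mem_R (map_zero σ) (map_zero σ)] at this
    simpa using this.2.2
  obtain ⟨c, r, hr, rfl⟩ := (mem_D h).1 hD
  refine ⟨k, c, r, hr, ?_⟩
  rw [h.s.zero, mul_one, hw] at a
  rw [W, mul_assoc (y 0 k), ← a, inv_eq_of_mul_eq_one_right sg', ← mul_assoc, ← mul_assoc,
    ← mul_assoc, sg, one_mul]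

end P4c

open P4c in
theorem H4b.h4c {β : E} {hβ : σ β = β} {y : ZMod 8 → EK β → G} (h : H4b σ x t hβ y) :
    H4c σ x t hβ y := ⟨h, fun k m hm => by
  have := conj h hm (step2 h hm) k
  rw [W, mul_assoc (y 0 k)] at this
  rw [flip (h.el _ (v3 h m)) this, ← conj_mul, h.c02, ← mem_Cs.1 (y0_R h k) _ (m1 h _),
    mul_inv_cancel_right, map_mul, tt h, hm, ← mul_assoc k, mul_comm k, ← mul_assoc (qb σ hβ k),
    kk h, y0 h (by decide), mul_one, ← mul_assoc]⟩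

end Cfsg.Lib.U42
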