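import Cfsg.Agent.SG2.Hyp
import Cfsg.Agent.Chev.ClsSU

/-!
# Standard subgroups of type `U₄(2)`: systems of type `²A₃` in characteristic two

Roots are indexed by `ZMod 8` (angle `45° · i`): `0 = a`, `1 = 2a+b`, `2 = a+b`, `3 = b`,
`i + 4 = -i`. Even indices are short roots (parameter in `B`), odd indices are long roots
(parameter fixed by `σ`; the value is `1` otherwise).
-/

set_option autoImplicit false
set_option linter.unusedSectionVars false

namespace Cfsg.Lib.U42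

open Subgroup Cfsg.Lib.Trans Cfsg.Lib.Gold
open scoped commutatorElement MatrixGroups

/-- Short roots. -/
def Ev (i : ZMod 8) : Prop := i.val % 2 = 0

instance instDecEv : DecidablePred Ev := fun i => inferInstanceAs (Decidable (i.val % 2 = 0))

theorem Ev_eq_1' : type_of% @Ev.eq_1 := @Ev.eq_1

section Ring

variable {B Γ : Type*} [CommRing B] [Group Γ]

/-- The Steinberg relations of type `²A₃` in characteristic two. -/
structure U4S (σ : B ≃+* B) (x : ZMod 8 → B → Γ) : Prop where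
  two : (2 : B) = 0
  ss : ∀ s, σ (σ s) = s
  junk : ∀ i, ¬ Ev i → ∀ s, σ s ≠ s → x i s = 1
  adds : ∀ i, Ev i → ∀ s u, x i (s + u) = x i s * x i u
  addl : ∀ i, ¬ Ev i → ∀ s u, σ s = s → σ u = u → x i (s + u) = x i s * x i u
  c1 : ∀ i s u, Commute (x i s) (x (i + 1) u)
  c2l : ∀ i, ¬ Ev i → ∀ s u, Commute (x i s) (x (i + 2) u)
  c2s : ∀ i, Ev i → ∀ s u,
    x i s * x (i + 2) u * (x i s)⁻¹ = x (i + 2) u * x (i + 1) (s * u + σ s * σ u)
  c3p : ∀ i, Ev i → ∀ s u, σ u = u →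
    x i s * x (i + 3) u * (x i s)⁻¹ = x (i + 3) u * x (i + 2) (σ s * u) * x (i + 1) (s * σ s * u)
  c3m : ∀ i, Ev i → ∀ s u, σ u = u →
    x i s * x (i - 3) u * (x i s)⁻¹ = x (i - 3) u * x (i - 2) (σ s * u) * x (i - 1) (s * σ s * u)

variable (x : ZMod 8 → B → Γ)

/-- A root subgroup. -/
def rt (i : ZMod 8) : Subgroup Γ := closure (Set.range (x i))

/-- The group generated by all root elements. -/
def LL : Subgroup Γ := closure {g | ∃ i s, g = x i s}

/-- Normal form in `V`. -/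
def vv (d c r : B) : Γ := x 3 d * x 2 c * x 1 r

/-- Normal form in `U`. -/
def uu (a d c r : B) : Γ := x 0 a * vv x d c r

/-- `[U, U]`. -/
def NN : Subgroup Γ := rt x 2 ⊔ rt x 1

/-- The elementary abelian subgroup `V = J(U)`. -/
def VV : Subgroup Γ := rt x 3 ⊔ NN x

/-- `Q = O₂(C_L(z))`. -/
def QQ : Subgroup Γ := rt x 0 ⊔ NN x

/-- The Sylow 2-subgroup `U`. -/
def UU : Subgroup Γ := rt x 0 ⊔ VV x

/-- The rank one subgroup `⟨X_i, X_{-i}⟩`. -/
def SL (i : ZMod 8) : Subgroup Γ := rt x i ⊔ rt x (i + 4)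

/-- `[C_L(z), C_L(z)]`. -/
def PA : Subgroup Γ := QQ x ⊔ SL x 3

/-- `[N_L(V), N_L(V)]`. -/
def PB : Subgroup Γ := VV x ⊔ SL x 0

/-- The conjugate system. -/
def cx (g : Γ) : ZMod 8 → B → Γ := fun i s => g * x i s * g⁻¹

/-- `g` acts on the root elements through the map `τ`. -/
def Acts (g : Γ) (τ : B → B) : Prop := ∀ i s, g * x i s * g⁻¹ = x i (τ s)

variable (σ : B ≃+* B)

/-- Uniqueness of the normal form in `U`. -/
def Inj : Prop := ∀ a d c r, σ d = d → σ r = r → uu x a d c r = 1 → a = 0 ∧ d = 0 ∧ c = 0 ∧ r = 0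

/-- The subgroup of `U` with all coordinates fixed by `σ` (a Sylow subgroup of `Sp₄`). -/
def U0 : Subgroup Γ := closure {g | ∃ i s, i.val ≤ 3 ∧ σ s = s ∧ g = x i s}

theorem rt_eq_1' : type_of% @rt.eq_1 := @rt.eq_1
theorem LL_eq_1' : type_of% @LL.eq_1 := @LL.eq_1
theorem vv_eq_1' : type_of% @vv.eq_1 := @vv.eq_1
theorem uu_eq_1' : type_of% @uu.eq_1 := @uu.eq_1
theorem NN_eq_1' : type_of% @NN.eq_1 := @NN.eq_1
theorem VV_eq_1' : type_of% @VV.eq_1 := @VV.eq_1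
theorem QQ_eq_1' : type_of% @QQ.eq_1 := @QQ.eq_1
theorem UU_eq_1' : type_of% @UU.eq_1 := @UU.eq_1
theorem SL_eq_1' : type_of% @SL.eq_1 := @SL.eq_1
theorem PA_eq_1' : type_of% @PA.eq_1 := @PA.eq_1
theorem PB_eq_1' : type_of% @PB.eq_1 := @PB.eq_1
theorem cx_eq_1' : type_of% @cx.eq_1 := @cx.eq_1
theorem Acts_eq_1' : type_of% @Acts.eq_1 := @Acts.eq_1
theorem Inj_eq_1' : type_of% @Inj.eq_1 := @Inj.eq_1
theorem U0_eq_1' : type_of% @U0.eq_1 := @U0.eq_1

end Ring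

section Field

variable {E Γ : Type*} [Field E] [Group Γ] (σ : E ≃+* E) (x : ZMod 8 → E → Γ)

/-- `n_i(s)`. -/
def nn (i : ZMod 8) (s : E) : Γ := x i s * x (i + 4) (σ s)⁻¹ * x i s

/-- `h_i(s)`. -/
def hh (i : ZMod 8) (s : E) : Γ := nn σ x i s * nn σ x i 1

/-- The exponent of `s` in the action of `h_i(s)` on `X_j`. -/
def pa (i j : ZMod 8) : ℤ :=
  if Ev i then [2, 1, -1, -1, 0, -1, -1, 1].getD (j - i).val 0
  else [2, 1, 0, -1, -2, -1, 0, 1].getD (j - i).val 0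

/-- The exponent of `σ s` in the action of `h_i(s)` on `X_j`. -/
def pb (i j : ZMod 8) : ℤ :=
  if Ev i then [0, 1, 1, -1, -2, -1, 1, 1].getD (j - i).val 0 else 0

/-- The row of the root `i`. -/
def ra (i : ZMod 8) : Fin 4 := ([0, 0, 1, 1, 3, 3, 2, 2] : List (Fin 4)).getD i.val 0

/-- The column of the root `i`. -/
def rb (i : ZMod 8) : Fin 4 := ([1, 3, 3, 2, 2, 0, 0, 1] : List (Fin 4)).getD i.val 0

open Classical in
/-- The system of type `²A₃` inside a system of type `A₃`. -/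
noncomputable def xe (e : Fin 4 → Fin 4 → E → Γ) (i : ZMod 8) (s : E) : Γ :=
  if Ev i then e (ra i) (rb i) s * e (rb i).rev (ra i).rev (σ s)
  else if σ s = s then e (ra i) (rb i) s else 1

/-- The matrix model. -/
noncomputable def X4 : ZMod 8 → E → SL(4, E) := xe σ Chev.slE

/-- The fixed field of a field automorphism. -/
def fixF (τ : E ≃+* E) : Subfield E := RingHom.eqLocusField (τ : E →+* E) (RingHom.id E)

/-- `q`. -/
noncomputable def qn : ℕ := Nat.card (fixF σ)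

theorem nn_eq_1' : type_of% @nn.eq_1 := @nn.eq_1
theorem hh_eq_1' : type_of% @hh.eq_1 := @hh.eq_1
theorem pa_eq_1' : type_of% @pa.eq_1 := @pa.eq_1
theorem pb_eq_1' : type_of% @pb.eq_1 := @pb.eq_1
theorem ra_eq_1' : type_of% @ra.eq_1 := @ra.eq_1
theorem rb_eq_1' : type_of% @rb.eq_1 := @rb.eq_1
theorem xe_eq_1' : type_of% @xe.eq_1 := @xe.eq_1
theorem X4_eq_1' : type_of% @X4.eq_1 := @X4.eq_1
theorem fixF_eq_1' : type_of% @fixF.eq_1 := @fixF.eq_1
theorem qn_eq_1' : type_of% @qn.eq_1 := @qn.eq_1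

theorem mem_fixF {τ : E ≃+* E} {s : E} : s ∈ fixF τ ↔ τ s = s := Iff.rfl

end Field

section Basic

variable {B Γ : Type*} [CommRing B] [Group Γ] {σ : B ≃+* B} {x : ZMod 8 → B → Γ}

theorem x_mem_rt (i : ZMod 8) (s : B) : x i s ∈ rt x i := subset_closure ⟨s, rfl⟩

theorem x_mem_LL (i : ZMod 8) (s : B) : x i s ∈ LL x := subset_closure ⟨i, s, rfl⟩

theorem rt_le {i : ZMod 8} {H : Subgroup Γ} : rt x i ≤ H ↔ ∀ s, x i s ∈ H :=
  ⟨fun h s => h (x_mem_rt i s), fun h => (closure_le _).2 (by rintro _ ⟨s, rfl⟩; exact h s)⟩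

theorem LL_le {H : Subgroup Γ} : LL x ≤ H ↔ ∀ i s, x i s ∈ H :=
  ⟨fun h i s => h (x_mem_LL i s), fun h => (closure_le _).2 (by rintro _ ⟨i, s, rfl⟩; exact h i s)⟩

theorem rt_le_LL (i : ZMod 8) : rt x i ≤ LL x := rt_le.2 (x_mem_LL i)

theorem R_le_NN : rt x 1 ≤ NN x := le_sup_right
theorem X2_le_NN : rt x 2 ≤ NN x := le_sup_left
theorem NN_le_VV : NN x ≤ VV x := le_sup_right
theorem X3_le_VV : rt x 3 ≤ VV x := le_sup_left
theorem NN_le_QQ : NN x ≤ QQ x := le_sup_right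
theorem X0_le_QQ : rt x 0 ≤ QQ x := le_sup_left
theorem VV_le_UU : VV x ≤ UU x := le_sup_right
theorem QQ_le_UU : QQ x ≤ UU x := sup_le le_sup_left (NN_le_VV.trans VV_le_UU)
theorem QQ_le_PA : QQ x ≤ PA x := le_sup_left
theorem VV_le_PB : VV x ≤ PB x := le_sup_left
theorem SL_le_PA : SL x 3 ≤ PA x := le_sup_right
theorem SL_le_PB : SL x 0 ≤ PB x := le_sup_right
theorem UU_le_PA : UU x ≤ PA x :=
  sup_le (X0_le_QQ.trans QQ_le_PA)
    (sup_le (le_sup_left.trans SL_le_PA) (NN_le_QQ.trans QQ_le_PA))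
theorem UU_le_PB : UU x ≤ PB x := sup_le (le_sup_left.trans SL_le_PB) VV_le_PB
theorem R_le_VV : rt x 1 ≤ VV x := R_le_NN.trans NN_le_VV
theorem R_le_QQ : rt x 1 ≤ QQ x := R_le_NN.trans NN_le_QQ
theorem R_le_UU : rt x 1 ≤ UU x := R_le_VV.trans VV_le_UU
theorem SL_le_LL (i : ZMod 8) : SL x i ≤ LL x := sup_le (rt_le_LL _) (rt_le_LL _)
theorem NN_le_LL : NN x ≤ LL x := sup_le (rt_le_LL _) (rt_le_LL _)
theorem VV_le_LL : VV x ≤ LL x := sup_le (rt_le_LL _) NN_le_LL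
theorem QQ_le_LL : QQ x ≤ LL x := sup_le (rt_le_LL _) NN_le_LL
theorem UU_le_LL : UU x ≤ LL x := sup_le (rt_le_LL _) VV_le_LL
theorem PA_le_LL : PA x ≤ LL x := sup_le QQ_le_LL (SL_le_LL _)
theorem PB_le_LL : PB x ≤ LL x := sup_le VV_le_LL (SL_le_LL _)

theorem vv_mem_VV (d c r : B) : vv x d c r ∈ VV x :=
  mul_mem (mul_mem (X3_le_VV (x_mem_rt _ _)) (NN_le_VV (X2_le_NN (x_mem_rt _ _))))
    (R_le_VV (x_mem_rt _ _))

theorem uu_mem_UU (a d c r : B) : uu x a d c r ∈ UU x :=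
  mul_mem (mem_sup_left (x_mem_rt _ _)) (VV_le_UU (vv_mem_VV _ _ _))

theorem rt_map {Γ' : Type*} [Group Γ'] (φ : Γ →* Γ') (i : ZMod 8) :
    rt (fun i s => φ (x i s)) i = (rt x i).map φ := by
  rw [rt, rt, MonoidHom.map_closure, ← Set.range_comp]; rfl

theorem LL_map {Γ' : Type*} [Group Γ'] (φ : Γ →* Γ') :
    LL (fun i s => φ (x i s)) = (LL x).map φ := by
  rw [LL, LL, MonoidHom.map_closure]
  congr 1
  ext y
  constructor
  · rintro ⟨i, s, rfl⟩
    exact ⟨_, ⟨i, s, rfl⟩, rfl⟩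
  · rintro ⟨_, ⟨i, s, rfl⟩, rfl⟩
    exact ⟨i, s, rfl⟩

theorem rt_cx (g : Γ) (i : ZMod 8) : rt (cx x g) i = cj g (rt x i) :=
  rt_map (MulAut.conj g).toMonoidHom i

theorem LL_cx (g : Γ) : LL (cx x g) = cj g (LL x) := LL_map (MulAut.conj g).toMonoidHom

theorem NN_cx (g : Γ) : NN (cx x g) = cj g (NN x) := by rw [NN, NN, cj_sup, rt_cx, rt_cx]
theorem VV_cx (g : Γ) : VV (cx x g) = cj g (VV x) := by rw [VV, VV, cj_sup, rt_cx, NN_cx]
theorem QQ_cx (g : Γ) : QQ (cx x g) = cj g (QQ x) := by rw [QQ, QQ, cj_sup, rt_cx, NN_cx]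
theorem UU_cx (g : Γ) : UU (cx x g) = cj g (UU x) := by rw [UU, UU, cj_sup, rt_cx, VV_cx]
theorem SL_cx (g : Γ) (i : ZMod 8) : SL (cx x g) i = cj g (SL x i) := by
  rw [SL, SL, cj_sup, rt_cx, rt_cx]
theorem PA_cx (g : Γ) : PA (cx x g) = cj g (PA x) := by rw [PA, PA, cj_sup, QQ_cx, SL_cx]
theorem PB_cx (g : Γ) : PB (cx x g) = cj g (PB x) := by rw [PB, PB, cj_sup, VV_cx, SL_cx]

theorem ev_add {i j : ZMod 8} (hj : Ev j) : Ev (i + j) ↔ Ev i := by
  revert i j; decide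

theorem ev_neg {i : ZMod 8} : Ev (-i) ↔ Ev i := by
  revert i; decide

theorem ev_succ {i : ZMod 8} : Ev (i + 1) ↔ ¬ Ev i := by
  revert i; decide

theorem fx_add {s u : B} (hs : σ s = s) (hu : σ u = u) : σ (s + u) = s + u := by
  rw [map_add, hs, hu]

theorem fx_mul {s u : B} (hs : σ s = s) (hu : σ u = u) : σ (s * u) = s * u := by
  rw [map_mul, hs, hu]

theorem fx_pow {s : B} (hs : σ s = s) (n : ℕ) : σ (s ^ n) = s ^ n := by rw [map_pow, hs]

theorem swap_comm {a b c : Γ} (ha : a * a = 1) (hb : b * b = 1)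
    (hbc : Commute b c) (e : a * b * a⁻¹ = b * c) : b * a * b⁻¹ = a * c := by
  have ia := inv_eq_of_mul_eq_one_right ha
  have ib := inv_eq_of_mul_eq_one_right hb
  rw [ia] at e
  rw [ib]
  have e2 : b * a = a * (b * c) := by rw [← e, ← mul_assoc, ← mul_assoc, ha, one_mul]
  rw [e2, mul_assoc, mul_assoc, ← hbc.eq, ← mul_assoc b, hb, one_mul]

namespace U4S

variable (h : U4S σ x)
include h

theorem fxT (s : B) : σ (s + σ s) = s + σ s := by rw [map_add, h.ss, add_comm]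

theorem fxN (s : B) : σ (s * σ s) = s * σ s := by rw [map_mul, h.ss, mul_comm]

theorem fxT' (s u : B) : σ (s * u + σ s * σ u) = s * u + σ s * σ u := by
  rw [← map_mul, h.fxT]

theorem add_self (s : B) : s + s = 0 := by rw [← two_mul, h.two, zero_mul]

theorem neg_eq (s : B) : -s = s := neg_eq_of_add_eq_zero_left (h.add_self s)

theorem eq_of_add {s u : B} (e : s + u = 0) : s = u := by
  rw [← h.neg_eq u]; exact eq_neg_of_add_eq_zero_left e

theorem add {i : ZMod 8} {s u : B} (hs : Ev i ∨ σ s = s ∧ σ u = u) :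
    x i (s + u) = x i s * x i u := by
  by_cases hi : Ev i
  · exact h.adds i hi s u
  · exact h.addl i hi s u (hs.resolve_left hi).1 (hs.resolve_left hi).2

theorem zero (i : ZMod 8) : x i 0 = 1 := by
  have := h.add (i := i) (s := 0) (u := 0) (Or.inr ⟨map_zero σ, map_zero σ⟩)
  rw [add_zero] at this
  exact left_eq_mul.1 this

theorem ok (i : ZMod 8) (s : B) : (Ev i ∨ σ s = s) ∨ x i s = 1 := by
  by_cases hi : Ev i
  · exact Or.inl (Or.inl hi)
  · by_cases hs : σ s = s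
    · exact Or.inl (Or.inr hs)
    · exact Or.inr (h.junk i hi s hs)

theorem mul_self (i : ZMod 8) (s : B) : x i s * x i s = 1 := by
  rcases h.ok i s with e | e
  · rw [← h.add (e.imp id fun e => ⟨e, e⟩), h.add_self, h.zero]
  · rw [e, one_mul]

theorem inv (i : ZMod 8) (s : B) : (x i s)⁻¹ = x i s := inv_eq_of_mul_eq_one_right (h.mul_self i s)

theorem c0 (i : ZMod 8) (s u : B) : Commute (x i s) (x i u) := by
  rcases h.ok i s with e | e
  · rcases h.ok i u with e' | e'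
    · have k : Ev i ∨ σ s = s ∧ σ u = u := by tauto
      rw [Commute, SemiconjBy, ← h.add k, ← h.add (k.imp id And.symm), add_comm]
    · rw [e']; exact Commute.one_right _
  · rw [e]; exact Commute.one_left _

theorem mem_rt' {i : ZMod 8} {g : Γ} : g ∈ rt x i ↔ ∃ s, (Ev i ∨ σ s = s) ∧ g = x i s := by
  refine ⟨fun hg => ?_, by rintro ⟨s, -, rfl⟩; exact x_mem_rt i s⟩
  induction hg using closure_induction with
  | mem y hy =>
    obtain ⟨s, rfl⟩ := hy
    rcases h.ok i s with e | e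
    · exact ⟨s, e, rfl⟩
    · exact ⟨0, Or.inr (map_zero σ), by rw [e, h.zero]⟩
  | one => exact ⟨0, Or.inr (map_zero σ), (h.zero i).symm⟩
  | mul a b _ _ ha hb =>
    obtain ⟨s, hs, rfl⟩ := ha
    obtain ⟨u, hu, rfl⟩ := hb
    have k : Ev i ∨ σ s = s ∧ σ u = u := by tauto
    exact ⟨s + u, k.imp id fun k => fx_add k.1 k.2, (h.add k).symm⟩
  | inv a _ ha =>
    obtain ⟨s, hs, rfl⟩ := ha
    exact ⟨s, hs, h.inv i s⟩

theorem mem_rt {i : ZMod 8} {g : Γ} : g ∈ rt x i ↔ ∃ s, g = x i s :=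
  ⟨fun hg => (h.mem_rt'.1 hg).imp fun _ e => e.2, by rintro ⟨s, rfl⟩; exact x_mem_rt i s⟩

theorem mem_rtl {i : ZMod 8} (hi : ¬ Ev i) {g : Γ} : g ∈ rt x i ↔ ∃ s, σ s = s ∧ g = x i s := by
  simp only [h.mem_rt', hi, false_or]

theorem rtl_le {i : ZMod 8} (hi : ¬ Ev i) {H : Subgroup Γ} :
    rt x i ≤ H ↔ ∀ s, σ s = s → x i s ∈ H :=
  ⟨fun e s _ => e (x_mem_rt i s), fun e g hg => by
    obtain ⟨s, hs, rfl⟩ := (h.mem_rtl hi).1 hg
    exact e s hs⟩

theorem map {Γ' : Type*} [Group Γ'] (φ : Γ →* Γ') : U4S σ fun i s => φ (x i s) where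
  two := h.two
  ss := h.ss
  junk i hi s hs := by rw [h.junk i hi s hs, map_one]
  adds i hi s u := by rw [h.adds i hi, map_mul]
  addl i hi s u hs hu := by rw [h.addl i hi s u hs hu, map_mul]
  c1 i s u := (h.c1 i s u).map φ
  c2l i hi s u := (h.c2l i hi s u).map φ
  c2s i hi s u := by simpa using congrArg φ (h.c2s i hi s u)
  c3p i hi s u hu := by simpa using congrArg φ (h.c3p i hi s u hu)
  c3m i hi s u hu := by simpa using congrArg φ (h.c3m i hi s u hu)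

theorem cx (g : Γ) : U4S σ (cx x g) := h.map (MulAut.conj g).toMonoidHom

/-- Change of coefficients along an injective (not necessarily unital) ring map. -/
theorem comp {B' : Type*} [CommRing B'] {σ' : B' ≃+* B'} (f : B' → B) (hf : Function.Injective f)
    (fa : ∀ s u, f (s + u) = f s + f u) (fm : ∀ s u, f (s * u) = f s * f u)
    (fs : ∀ s, f (σ' s) = σ (f s)) : U4S σ' fun i s => x i (f s) where
  two := hf (by
    have e : f 0 = 0 := by simpa using fa 0 0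
    rw [← one_add_one_eq_two, fa, h.add_self, e])
  ss s := hf (by rw [fs, fs, h.ss])
  junk i hi s hs := h.junk i hi _ fun e => hs (hf (by rw [fs, e]))
  adds i hi s u := by rw [fa, h.adds i hi]
  addl i hi s u hs hu := by rw [fa, h.addl i hi _ _ (by rw [← fs, hs]) (by rw [← fs, hu])]
  c1 i s u := h.c1 i _ _
  c2l i hi s u := h.c2l i hi _ _
  c2s i hi s u := by simp only [h.c2s i hi, fa, fm, fs]
  c3p i hi s u hu := by simp only [h.c3p i hi _ _ (by rw [← fs, hu] : σ (f u) = f u), fm, fs]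
  c3m i hi s u hu := by simp only [h.c3m i hi _ _ (by rw [← fs, hu] : σ (f u) = f u), fm, fs]

/-- Rotation by an even index. -/
theorem rot {j : ZMod 8} (hj : Ev j) : U4S σ fun i => x (i + j) where
  two := h.two
  ss := h.ss
  junk i hi := h.junk _ (mt (ev_add hj).1 hi)
  adds i hi := h.adds _ ((ev_add hj).2 hi)
  addl i hi := h.addl _ (mt (ev_add hj).1 hi)
  c1 i s u := by rw [add_right_comm]; exact h.c1 _ s u
  c2l i hi s u := by rw [add_right_comm]; exact h.c2l _ (mt (ev_add hj).1 hi) s u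
  c2s i hi s u := by simp only [add_right_comm i _ j]; exact h.c2s _ ((ev_add hj).2 hi) s u
  c3p i hi s u hu := by simp only [add_right_comm i _ j]; exact h.c3p _ ((ev_add hj).2 hi) s u hu
  c3m i hi s u hu := by
    simp only [sub_add_eq_add_sub i _ j]; exact h.c3m _ ((ev_add hj).2 hi) s u hu

theorem c2s' (i : ZMod 8) (hi : Ev i) (s u : B) :
    x (i + 2) u * x i s * (x (i + 2) u)⁻¹ = x i s * x (i + 1) (s * u + σ s * σ u) :=
  swap_comm (h.mul_self _ _) (h.mul_self _ _)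
    (by have := (h.c1 (i + 1) (s * u + σ s * σ u) u).symm
        rwa [add_assoc, one_add_one_eq_two] at this)
    (h.c2s i hi s u)

/-- Reflection. -/
theorem neg : U4S σ fun i => x (-i) where
  two := h.two
  ss := h.ss
  junk i hi := h.junk _ (mt ev_neg.1 hi)
  adds i hi := h.adds _ (ev_neg.2 hi)
  addl i hi := h.addl _ (mt ev_neg.1 hi)
  c1 i s u := by
    have := (h.c1 (-(i + 1)) u s).symm
    rwa [show -(i + 1) + 1 = -i by ring] at this
  c2l i hi s u := by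
    have := (h.c2l (-(i + 2)) (fun e => hi ((ev_add (by decide)).1 (ev_neg.1 e))) u s).symm
    rwa [show -(i + 2) + 2 = -i by ring] at this
  c2s i hi s u := by
    have := h.c2s' (-(i + 2)) (ev_neg.2 ((ev_add (by decide)).2 hi)) u s
    rwa [show -(i + 2) + 2 = -i by ring, show -(i + 2) + 1 = -(i + 1) by ring, mul_comm u,
      mul_comm (σ u)] at this
  c3p i hi s u hu := by
    have := h.c3m (-i) (ev_neg.2 hi) s u hu
    simpa only [neg_add', neg_add_rev] using this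
  c3m i hi s u hu := by
    have := h.c3p (-i) (ev_neg.2 hi) s u hu
    simpa only [neg_sub, neg_add_eq_sub] using this

/-! ### Concrete relations in `U` -/

theorem add0 (s u : B) : x 0 (s + u) = x 0 s * x 0 u := h.adds 0 (by decide) s u
theorem add2 (s u : B) : x 2 (s + u) = x 2 s * x 2 u := h.adds 2 (by decide) s u
theorem add1 {s u : B} (hs : σ s = s) (hu : σ u = u) : x 1 (s + u) = x 1 s * x 1 u :=
  h.addl 1 (by decide) s u hs hu
theorem add3 {s u : B} (hs : σ s = s) (hu : σ u = u) : x 3 (s + u) = x 3 s * x 3 u :=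
  h.addl 3 (by decide) s u hs hu
theorem c01 (s u : B) : Commute (x 0 s) (x 1 u) := h.c1 0 s u
theorem c12 (s u : B) : Commute (x 1 s) (x 2 u) := h.c1 1 s u
theorem c23 (s u : B) : Commute (x 2 s) (x 3 u) := h.c1 2 s u
theorem c13 (s u : B) : Commute (x 1 s) (x 3 u) := h.c2l 1 (by decide) s u
theorem c17 (s u : B) : Commute (x 1 s) (x 7 u) := (h.c2l 7 (by decide) u s).symm
theorem r02 (s u : B) : x 0 s * x 2 u * (x 0 s)⁻¹ = x 2 u * x 1 (s * u + σ s * σ u) :=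
  h.c2s 0 (by decide) s u
theorem r20 (s u : B) : x 2 u * x 0 s * (x 2 u)⁻¹ = x 0 s * x 1 (s * u + σ s * σ u) :=
  h.c2s' 0 (by decide) s u
theorem r03 (s : B) {d : B} (hd : σ d = d) :
    x 0 s * x 3 d * (x 0 s)⁻¹ = x 3 d * x 2 (σ s * d) * x 1 (s * σ s * d) :=
  h.c3p 0 (by decide) s d hd
theorem r42 (s u : B) : x 4 s * x 2 u * (x 4 s)⁻¹ = x 2 u * x 3 (u * s + σ u * σ s) :=
  h.c2s' 2 (by decide) u s
theorem r41 (s : B) {r : B} (hr : σ r = r) :
    x 4 s * x 1 r * (x 4 s)⁻¹ = x 1 r * x 2 (σ s * r) * x 3 (s * σ s * r) :=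
  h.c3m 4 (by decide) s r hr

theorem vv_zero : vv x 0 0 0 = 1 := by simp [vv, h.zero]
theorem vv_3 (s : B) : vv x s 0 0 = x 3 s := by simp [vv, h.zero]
theorem vv_2 (s : B) : vv x 0 s 0 = x 2 s := by simp [vv, h.zero]
theorem vv_1 (s : B) : vv x 0 0 s = x 1 s := by simp [vv, h.zero]
theorem vv_21 (c r : B) : vv x 0 c r = x 2 c * x 1 r := by simp [vv, h.zero]
theorem uu_zero (d c r : B) : uu x 0 d c r = vv x d c r := by rw [uu, h.zero, one_mul]
theorem uu_0 (s : B) : uu x s 0 0 0 = x 0 s := by rw [uu, h.vv_zero, mul_one]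
theorem uu_one : uu x 0 0 0 0 = 1 := by rw [h.uu_zero, h.vv_zero]

variable {a d c r a' d' c' r' : B}

theorem vv_mul (hd : σ d = d) (hr : σ r = r) (hd' : σ d' = d') (hr' : σ r' = r') :
    vv x d c r * vv x d' c' r' = vv x (d + d') (c + c') (r + r') := by
  rw [vv, vv, vv, h.add3 hd hd', h.add2, h.add1 hr hr',
    ((h.c13 r d').mul_right (h.c12 r c')).mul_mul_mul_comm, (h.c23 c d').mul_mul_mul_comm]

theorem vv_sq (d c r : B) : vv x d c r * vv x d c r = 1 := by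
  rw [vv, ((h.c13 r d).mul_right (h.c12 r c)).mul_mul_mul_comm, (h.c23 c d).mul_mul_mul_comm,
    h.mul_self, h.mul_self, h.mul_self, one_mul, one_mul]

theorem vv_inv (d c r : B) : (vv x d c r)⁻¹ = vv x d c r :=
  inv_eq_of_mul_eq_one_right (h.vv_sq d c r)

theorem conj0 (s : B) (hd : σ d = d) (hr : σ r = r) : x 0 s * vv x d c r * (x 0 s)⁻¹ =
    vv x d (c + σ s * d) (r + s * σ s * d + (s * c + σ s * σ c)) := by
  have e1 : x 0 s * vv x d c r * (x 0 s)⁻¹ = (x 0 s * x 3 d * (x 0 s)⁻¹) *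
      (x 0 s * x 2 c * (x 0 s)⁻¹) * (x 0 s * x 1 r * (x 0 s)⁻¹) := by rw [vv]; group
  have k1 := fx_mul (h.fxN s) hd
  have k2 := h.fxT' s c
  rw [e1, h.r03 s hd, h.r02, (h.c01 _ _).eq, mul_inv_cancel_right, ← vv.eq_1, ← h.vv_21,
    ← h.vv_1 r, h.vv_mul hd k1 (map_zero σ) k2,
    h.vv_mul (fx_add hd (map_zero σ)) (fx_add k1 k2) (map_zero σ) hr]
  congr 1 <;> ring

theorem uu_mul (hd : σ d = d) (hr : σ r = r) (hd' : σ d' = d') (hr' : σ r' = r') :
    uu x a d c r * uu x a' d' c' r' = uu x (a + a') (d + d') (c + σ a' * d + c')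
      (r + a' * σ a' * d + (a' * c + σ a' * σ c) + r') := by
  rw [uu, uu, uu, ← h.vv_mul hd (fx_add (fx_add hr (fx_mul (h.fxN a') hd)) (h.fxT' a' c)) hd' hr',
    ← h.conj0 a' hd hr, h.add0, h.inv]
  simp only [mul_assoc]
  rw [← mul_assoc (x 0 a') (x 0 a'), h.mul_self, one_mul]

theorem uu_inv (hd : σ d = d) (hr : σ r = r) : (uu x a d c r)⁻¹ =
    uu x a d (c + σ a * d) (r + a * σ a * d + (a * c + σ a * σ c)) := by
  rw [uu, uu, ← h.conj0 a hd hr, mul_inv_rev, h.vv_inv, ← mul_assoc, ← mul_assoc, h.mul_self, one_mul]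

theorem uu_sq (hd : σ d = d) (hr : σ r = r) : uu x a d c r * uu x a d c r =
    vv x 0 (σ a * d) (a * σ a * d + (a * c + σ a * σ c)) := by
  rw [h.uu_mul hd hr hd hr, ← h.uu_zero]
  congr 1
  · exact h.add_self _
  · exact h.add_self _
  · linear_combination c * h.two
  · linear_combination r * h.two

theorem uu_comm (hd : σ d = d) (hr : σ r = r) (hd' : σ d' = d') (hr' : σ r' = r') :
    ⁅uu x a d c r, uu x a' d' c' r'⁆ = vv x 0 (σ a * d' + σ a' * d)
      (a * σ a * d' + a' * σ a' * d + (a * σ a' + σ a * a') * (d + d') +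
        (a * c' + σ a * σ c') + (a' * c + σ a' * σ c)) := by
  have k := fun {a d c r : B} (hd : σ d = d) (hr : σ r = r) =>
    fx_add (fx_add hr (fx_mul (h.fxN a) hd)) (h.fxT' a c)
  rw [commutatorElement_def, h.uu_inv hd hr, h.uu_inv hd' hr', h.uu_mul hd hr hd' hr',
    h.uu_mul (fx_add hd hd') (fx_add (k hd hr) hr') hd (k hd hr),
    h.uu_mul (fx_add (fx_add hd hd') hd) (fx_add (k (fx_add hd hd') (fx_add (k hd hr) hr')) (k hd hr))
      hd' (k hd' hr'), ← h.uu_zero]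
  simp only [map_add, map_mul, h.ss, hd, hd']
  congr 1
  · linear_combination (a + a') * h.two
  · linear_combination (d + d') * h.two
  · linear_combination (c + c' + σ a * d + σ a' * d + σ a' * d') * h.two
  · linear_combination (r + r' + a * c + σ a * σ c + a' * c + σ a' * σ c + a' * c' + σ a' * σ c' +
      a * σ a * d + 2 * a' * σ a' * d + a' * σ a' * d' + a * σ a' * d + σ a * a' * d) * h.two

theorem mem_NN {g : Γ} : g ∈ NN x ↔ ∃ c r, σ r = r ∧ g = vv x 0 c r := by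
  refine ⟨fun hg => ?_, ?_⟩
  · let H : Subgroup Γ :=
      { carrier := {g | ∃ c r, σ r = r ∧ g = vv x 0 c r}
        one_mem' := ⟨0, 0, map_zero σ, h.vv_zero.symm⟩
        mul_mem' := by
          rintro _ _ ⟨c, r, hr, rfl⟩ ⟨c', r', hr', rfl⟩
          exact ⟨_, _, fx_add hr hr', by rw [h.vv_mul (map_zero σ) hr (map_zero σ) hr', add_zero]⟩
        inv_mem' := by
          rintro _ ⟨c, r, hr, rfl⟩
          exact ⟨c, r, hr, h.vv_inv ..⟩ }
    exact (sup_le (rt_le.2 fun s => ⟨s, 0, map_zero σ, (h.vv_2 s).symm⟩)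
      ((h.rtl_le (by decide)).2 fun s hs => ⟨0, s, hs, (h.vv_1 s).symm⟩) : NN x ≤ H) hg
  · rintro ⟨c, r, -, rfl⟩
    rw [h.vv_21]
    exact mul_mem (X2_le_NN (x_mem_rt _ _)) (R_le_NN (x_mem_rt _ _))

theorem mem_VV {g : Γ} : g ∈ VV x ↔ ∃ d c r, σ d = d ∧ σ r = r ∧ g = vv x d c r := by
  refine ⟨fun hg => ?_, by rintro ⟨d, c, r, -, -, rfl⟩; exact vv_mem_VV _ _ _⟩
  let H : Subgroup Γ :=
    { carrier := {g | ∃ d c r, σ d = d ∧ σ r = r ∧ g = vv x d c r}
      one_mem' := ⟨0, 0, 0, map_zero σ, map_zero σ, h.vv_zero.symm⟩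
      mul_mem' := by
        rintro _ _ ⟨d, c, r, hd, hr, rfl⟩ ⟨d', c', r', hd', hr', rfl⟩
        exact ⟨_, _, _, fx_add hd hd', fx_add hr hr', h.vv_mul hd hr hd' hr'⟩
      inv_mem' := by
        rintro _ ⟨d, c, r, hd, hr, rfl⟩
        exact ⟨d, c, r, hd, hr, h.vv_inv ..⟩ }
  refine (sup_le ((h.rtl_le (by decide)).2 fun s hs =>
    ⟨s, 0, 0, hs, map_zero σ, (h.vv_3 s).symm⟩) fun g hg => ?_ : VV x ≤ H) hg
  obtain ⟨c, r, hr, rfl⟩ := h.mem_NN.1 hg
  exact ⟨0, c, r, map_zero σ, hr, rfl⟩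

theorem mem_UU {g : Γ} : g ∈ UU x ↔ ∃ a d c r, σ d = d ∧ σ r = r ∧ g = uu x a d c r := by
  refine ⟨fun hg => ?_, by rintro ⟨a, d, c, r, -, -, rfl⟩; exact uu_mem_UU _ _ _ _⟩
  let H : Subgroup Γ :=
    { carrier := {g | ∃ a d c r, σ d = d ∧ σ r = r ∧ g = uu x a d c r}
      one_mem' := ⟨0, 0, 0, 0, map_zero σ, map_zero σ, h.uu_one.symm⟩
      mul_mem' := by
        rintro _ _ ⟨a, d, c, r, hd, hr, rfl⟩ ⟨a', d', c', r', hd', hr', rfl⟩
        exact ⟨_, _, _, _, fx_add hd hd',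
          fx_add (fx_add (fx_add hr (fx_mul (h.fxN _) hd)) (h.fxT' _ _)) hr', h.uu_mul hd hr hd' hr'⟩
      inv_mem' := by
        rintro _ ⟨a, d, c, r, hd, hr, rfl⟩
        exact ⟨_, _, _, _, hd, fx_add (fx_add hr (fx_mul (h.fxN _) hd)) (h.fxT' _ _),
          h.uu_inv hd hr⟩ }
  refine (sup_le (rt_le.2 fun s => ⟨s, 0, 0, 0, map_zero σ, map_zero σ, (h.uu_0 s).symm⟩)
    fun g hg => ?_ : UU x ≤ H) hg
  obtain ⟨d, c, r, hd, hr, rfl⟩ := h.mem_VV.1 hg
  exact ⟨0, d, c, r, hd, hr, (h.uu_zero ..).symm⟩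

theorem mem_QQ {g : Γ} : g ∈ QQ x ↔ ∃ a c r, σ r = r ∧ g = uu x a 0 c r := by
  refine ⟨fun hg => ?_, ?_⟩
  · let H : Subgroup Γ :=
      { carrier := {g | ∃ a c r, σ r = r ∧ g = uu x a 0 c r}
        one_mem' := ⟨0, 0, 0, map_zero σ, h.uu_one.symm⟩
        mul_mem' := by
          rintro _ _ ⟨a, c, r, hr, rfl⟩ ⟨a', c', r', hr', rfl⟩
          exact ⟨_, _, _, fx_add (fx_add (fx_add hr (fx_mul (h.fxN _) (map_zero σ))) (h.fxT' _ _)) hr',
            by rw [h.uu_mul (map_zero σ) hr (map_zero σ) hr', add_zero (0 : B)]⟩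
        inv_mem' := by
          rintro _ ⟨a, c, r, hr, rfl⟩
          exact ⟨_, _, _, fx_add (fx_add hr (fx_mul (h.fxN _) (map_zero σ))) (h.fxT' _ _),
            h.uu_inv (map_zero σ) hr⟩ }
    refine (sup_le (rt_le.2 fun s => ⟨s, 0, 0, map_zero σ, (h.uu_0 s).symm⟩)
      fun g hg => ?_ : QQ x ≤ H) hg
    obtain ⟨c, r, hr, rfl⟩ := h.mem_NN.1 hg
    exact ⟨0, c, r, hr, (h.uu_zero ..).symm⟩
  · rintro ⟨a, c, r, hr, rfl⟩
    exact mul_mem (X0_le_QQ (x_mem_rt _ _)) (NN_le_QQ (h.mem_NN.2 ⟨c, r, hr, rfl⟩))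

theorem uu_inj (hi : Inj x σ) (hd : σ d = d) (hr : σ r = r) (hd' : σ d' = d') (hr' : σ r' = r')
    (e : uu x a d c r = uu x a' d' c' r') : a = a' ∧ d = d' ∧ c = c' ∧ r = r' := by
  have e2 : uu x (a' + a) (d + d') (c + c') (r + r') = 1 := by
    rw [uu, h.add0, ← h.vv_mul hd hr hd' hr', mul_assoc, ← mul_assoc (x 0 a), ← uu.eq_1, e, uu,
      mul_assoc, h.vv_sq, mul_one, h.mul_self]
  obtain ⟨h1, h2, h3, h4⟩ := hi _ _ _ _ (fx_add hd hd') (fx_add hr hr') e2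
  exact ⟨(h.eq_of_add h1).symm, h.eq_of_add h2, h.eq_of_add h3, h.eq_of_add h4⟩

theorem vv_inj (hi : Inj x σ) (hd : σ d = d) (hr : σ r = r) (hd' : σ d' = d') (hr' : σ r' = r')
    (e : vv x d c r = vv x d' c' r') : d = d' ∧ c = c' ∧ r = r' :=
  (h.uu_inj hi hd hr hd' hr' (by rw [h.uu_zero, h.uu_zero, e])).2

theorem x1_inj (hi : Inj x σ) (hr : σ r = r) (hr' : σ r' = r') (e : x 1 r = x 1 r') : r = r' :=
  (h.vv_inj hi (map_zero σ) hr (map_zero σ) hr' (by rw [h.vv_1, h.vv_1, e])).2.2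

theorem x2_inj (hi : Inj x σ) (e : x 2 c = x 2 c') : c = c' :=
  (h.vv_inj hi (map_zero σ) (map_zero σ) (map_zero σ) (map_zero σ)
    (by rw [h.vv_2, h.vv_2, e])).2.1

theorem x3_inj (hi : Inj x σ) (hd : σ d = d) (hd' : σ d' = d') (e : x 3 d = x 3 d') : d = d' :=
  (h.vv_inj hi hd (map_zero σ) hd' (map_zero σ) (by rw [h.vv_3, h.vv_3, e])).1

theorem x0_inj (hi : Inj x σ) (e : x 0 a = x 0 a') : a = a' :=
  (h.uu_inj hi (map_zero σ) (map_zero σ) (map_zero σ) (map_zero σ)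
    (by rw [h.uu_0, h.uu_0, e])).1

end U4S

end Basic

section Sys

variable {E Γ : Type*} [Field E] [Group Γ]

/-- A system which is a faithful image of the matrix model, with `q = 2`. -/
structure Sys (σ : E ≃+* E) (x : ZMod 8 → E → Γ) : Prop where
  s : U4S σ x
  ne : σ ≠ 1
  q2 : qn σ = 2
  mod : ∃ φ : LL (X4 σ) →* Γ, Function.Injective φ ∧
    ∀ i s, φ ⟨X4 σ i s, x_mem_LL i s⟩ = x i s

end Sys

end Cfsg.Lib.U42
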