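import Cfsg.Agent.U42.Fld
import Cfsg.Agent.Known.FormSim
import Cfsg.Agent.Known.PSLAutTwist
import Cfsg.Agent.Known.PSLAutTv
import Cfsg.Agent.Class.NegOne
import Cfsg.Agent.Class.SLGen

/-! Involutory automorphisms of `SL₄(E)` in characteristic two. -/

set_option autoImplicit false
set_option linter.unusedSectionVars false

namespace Cfsg.Lib.U42

open Subgroup Matrix Cfsg.Lib.Chev Cfsg.Lib.Known
open scoped commutatorElement MatrixGroups Pointwise

variable {E : Type*} [Field E] [Finite E] {σ : E ≃+* E}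

namespace M4b

/-- The antidiagonal matrix. -/
def Jm (E : Type*) [Field E] : Matrix (Fin 4) (Fin 4) E := !![0, 0, 0, 1; 0, 0, 1, 0; 0, 1, 0, 0; 1, 0, 0, 0]

theorem adj_eq (φ : E →+* E) (M : Matrix (Fin 4) (Fin 4) E) : adjM φ M = Jm E * (M.map φ)ᵀ * Jm E := by
  ext a b
  fin_cases a <;> fin_cases b <;> simp only [mul_apply, Fin.sum_univ_four] <;> simp [adjM_apply, Jm]

theorem JJ : Jm E * Jm E = 1 := by
  ext a b; fin_cases a <;> fin_cases b <;> simp [Jm, mul_apply, Fin.sum_univ_four]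

theorem J_map (φ : E →+* E) : ((Jm E).map φ)ᵀ = Jm E := by
  ext a b; fin_cases a <;> fin_cases b <;> simp [Jm]

theorem det_J : (Jm E).det = 1 := by
  simp [Jm, det_succ_row_zero, Fin.sum_univ_succ, Fin.succAbove]
  norm_num

theorem herm {φ : E →+* E} {l : SL(4, E)} (e : l * suσ φ l = 1) : ((l.1 * Jm E).map φ)ᵀ = l.1 * Jm E := by
  have h3 : adjM φ l.1 = l.1 := by
    have := congrArg (fun g : SL(4, E) => g.1)
      (show suσ φ l⁻¹ = l by rw [map_inv, eq_inv_of_mul_eq_one_right e, inv_inv])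
    rwa [coe_suσ, inv_inv] at this
  rw [Matrix.map_mul, transpose_mul, J_map]
  conv_rhs => rw [← h3, adj_eq, Matrix.mul_assoc, JJ, Matrix.mul_one]

theorem fin {φ : E →+* E} {l l₀ : SL(4, E)} {K : Matrix (Fin 4) (Fin 4) E} (d : K.det = 1)
    (e : l.1 * Jm E = K * (l₀.1 * Jm E) * (K.map φ)ᵀ) : ∃ k, l = k * l₀ * (suσ φ k)⁻¹ := by
  obtain ⟨k, rfl⟩ : ∃ k : SL(4, E), k.1 = K := ⟨⟨K, d⟩, rfl⟩
  refine ⟨k, Subtype.ext ?_⟩
  rw [← map_inv]
  change l.1 = k.1 * l₀.1 * (suσ φ k⁻¹).1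
  rw [coe_suσ, inv_inv, adj_eq, ← Matrix.mul_one l.1, ← JJ, ← Matrix.mul_assoc, e]
  simp only [Matrix.mul_assoc]

/-- Unitriangular matrices. -/
def ut (a p r d s e : E) : SL(4, E) := ⟨!![1, a, p, r; 0, 1, d, s; 0, 0, 1, e; 0, 0, 0, 1], by
  simp [det_succ_column_zero, Fin.sum_univ_succ]⟩

theorem ut_mem (a p r d s e : E) : ut a p r d s e ∈ uniTri 4 E :=
  ⟨fun i j h => by fin_cases i <;> fin_cases j <;> first | rfl | exact absurd h (by decide),
    fun i => by fin_cases i <;> rfl⟩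

theorem eq_ut {g : SL(4, E)} (h : g ∈ uniTri 4 E) :
    g = ut (g.1 0 1) (g.1 0 2) (g.1 0 3) (g.1 1 2) (g.1 1 3) (g.1 2 3) := Subtype.ext (by
  ext i j
  fin_cases i <;> fin_cases j <;> first | rfl | exact h.2 _ | exact h.1 (by decide))

theorem ut_mul (a p r d s e a' p' r' d' s' e' : E) : ut a p r d s e * ut a' p' r' d' s' e' =
    ut (a' + a) (p' + a * d' + p) (r' + a * s' + p * e' + r) (d' + d) (s' + d * e' + s) (e' + e) :=
  Subtype.ext (by
    change (ut ..).1 * (ut ..).1 = _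
    ext i j
    fin_cases i <;> fin_cases j <;> simp [ut, mul_apply, Fin.sum_univ_four])

theorem ut_inj {a p r d s e a' p' r' d' s' e' : E} : ut a p r d s e = ut a' p' r' d' s' e' ↔
    a = a' ∧ p = p' ∧ r = r' ∧ d = d' ∧ s = s' ∧ e = e' :=
  ⟨fun h => let k := fun i j => congrFun (congrFun (congrArg Subtype.val h) i) j
    ⟨k 0 1, k 0 2, k 0 3, k 1 2, k 1 3, k 2 3⟩, by rintro ⟨rfl, rfl, rfl, rfl, rfl, rfl⟩; rfl⟩

theorem ut_zero : ut (0 : E) 0 0 0 0 0 = 1 := (eq_ut (one_mem _)).symm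

theorem red (h : Qd σ) (γ : SL(4, E) →* SL(4, E)) {l k l₀ : SL(4, E)} (e : l = k * l₀ * (γ k)⁻¹)
    (f : E × E × E × E → SL(4, E)) (hf : Function.Injective f) (h1 : ∀ p, f p ∈ uniTri 4 E)
    (h2 : ∀ p, l₀ * γ (f p) = f p * l₀) : ∃ T : Subgroup SL(4, E), IsPGroup 2 T ∧
      qn σ ^ 8 ≤ Nat.card T ∧ ∀ g ∈ T, l * γ g * l⁻¹ = g := by
  have := h.charP
  refine ⟨(uniTri 4 E ⊓ ((MulAut.conj l₀).toMonoidHom.comp γ).eqLocus (MonoidHom.id _)).map
    (MulAut.conj k).toMonoidHom, ((isPGroup_uniTri 2).to_le inf_le_left).map _, ?_, ?_⟩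
  · rw [card_map_of_injective (MulAut.conj k).injective]
    refine le_of_eq_of_le ?_ (Nat.card_le_card_of_injective (fun p => ⟨f p, h1 p,
      mul_inv_eq_iff_eq_mul.2 (h2 p)⟩) fun _ _ e => hf (congrArg Subtype.val e))
    simp only [Nat.card_prod, h.card]; ring
  · rintro _ ⟨g, ⟨-, hg : l₀ * γ g * l₀⁻¹ = g⟩, rfl⟩
    change l * γ (k * g * k⁻¹) * l⁻¹ = k * g * k⁻¹
    rw [e, map_mul, map_mul, map_inv]
    conv_rhs => rw [← hg]
    group

theorem gm1 (g : SL(4, E)) : gm 1 false g = g := rfl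

end M4b

open M4b

theorem sl_inv1 (h : Qd σ) {l : SL(4, E)} {b : Bool} (e : l * gm 1 b l = 1) :
    ∃ T : Subgroup SL(4, E), IsPGroup 2 T ∧ qn σ ^ 8 ≤ Nat.card T ∧
      ∀ g ∈ T, l * gm 1 b g * l⁻¹ = g := by
  have := h.charP
  have two := h.two
  cases b
  · obtain ⟨Q, hQ⟩ := (Solv.PG.isPGroup_zpowers (p := 2) (k := 1) (show l ^ 2 ^ 1 = 1 from (pow_two l).trans e)).exists_le_sylow
    obtain ⟨k, hk⟩ := MulAction.exists_smul_eq SL(4, E) Q
      ((isPGroup_uniTri 2).toSylow (not_dvd_index_uniTri (n := 4) (F := E) 2))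
    have hu : k * l * k⁻¹ ∈ uniTri 4 E := (congrArg Sylow.toSubgroup hk).le
      (smul_mem_pointwise_smul _ (MulAut.conj k) _ (hQ (mem_zpowers l)))
    have e' : l = k⁻¹ * (k * l * k⁻¹) * (gm 1 false k⁻¹)⁻¹ := by rw [gm1]; group
    have e2 : k * l * k⁻¹ * (k * l * k⁻¹) = 1 := by rw [conj_mul, show l * l = 1 from e, mul_one, mul_inv_cancel]
    rw [eq_ut hu] at e' e2
    generalize (k * l * k⁻¹).1 0 1 = a, (k * l * k⁻¹).1 0 2 = p, (k * l * k⁻¹).1 0 3 = r,
      (k * l * k⁻¹).1 1 2 = d, (k * l * k⁻¹).1 1 3 = s, (k * l * k⁻¹).1 2 3 = c at e' e2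
    rw [ut_mul, ← ut_zero, ut_inj] at e2
    by_cases ha : a = 0
    · by_cases hc : c = 0
      · exact red h _ e' (fun x => ut 0 x.1 x.2.1 x.2.2.1 x.2.2.2 0) (fun _ _ e => by
          simpa [ut_inj, Prod.ext_iff] using e) (fun _ => ut_mem ..) fun x => by
          simp [gm1, ut_mul, ha, hc, add_comm]
      obtain rfl : d = 0 := (mul_eq_zero.1 (by linear_combination e2.2.2.2.2.1 - s * two)).resolve_right hc
      exact red h _ e' (fun x => ut x.1 (c⁻¹ * (p * x.2.2.2 - x.1 * s)) x.2.1 0 x.2.2.1 x.2.2.2) (fun _ _ e => by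
          simp only [ut_inj, Prod.ext_iff] at e ⊢; tauto) (fun _ => ut_mem ..) fun x => by
          simp only [gm1, ut_mul, ut_inj, ha]
          refine ⟨by ring, by ring, by field_simp; ring, trivial, by ring, by ring⟩
    obtain rfl : d = 0 := (mul_eq_zero.1 (by linear_combination e2.2.1 - p * two)).resolve_left ha
    exact red h _ e' (fun x => ut x.1 x.2.2.1 x.2.1 0 (a⁻¹ * (x.1 * s + x.2.2.1 * c - p * x.2.2.2)) x.2.2.2)
      (fun _ _ e => by simp only [ut_inj, Prod.ext_iff] at e ⊢; tauto) (fun _ => ut_mem ..) fun x => by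
        simp only [gm1, ut_mul, ut_inj]
        refine ⟨by ring, by ring, by field_simp; ring, trivial, by ring, by ring⟩
  have hS : (l.1 * Jm E)ᵀ = l.1 * Jm E := herm e
  have dt : ∀ g : SL(4, E), (g.1 * Jm E).det = 1 := fun g => by rw [det_mul, g.2, det_J, mul_one]
  obtain ⟨r, hr⟩ : ∃ r, (Tw.IsAltM (l.1 * Jm E) ↔ Tw.IsAltM ((ut 0 0 r 0 0 0).1 * Jm E)) := by
    by_cases c : Tw.IsAltM (l.1 * Jm E)
    · refine ⟨0, iff_of_true c fun v => ?_⟩
      simp [ut_zero, Tw.gramForm, Jm, mulVec, dotProduct, Fin.sum_univ_four]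
      linear_combination (v 0 * v 3 + v 1 * v 2) * two
    · refine ⟨1, iff_of_false c fun k => ?_⟩
      simpa [Tw.gramForm_single, ut, Jm, mul_apply, Fin.sum_univ_four] using k (Pi.single 0 1)
  obtain ⟨a, P, hP⟩ := Tw.formSim_iff.1 (Tw.formSim_of_two hS (by simp [dt]) (by
    ext a b; fin_cases a <;> fin_cases b <;> simp [ut, Jm, mul_apply, Fin.sum_univ_four]) (by simp [dt]) rfl hr)
  obtain ⟨c, hc, -⟩ := h.sqrt (a : E)⁻¹
  have e1 : l.1 * Jm E = (c • P.1ᵀ) * ((ut 0 0 r 0 0 0).1 * Jm E) * (c • P.1ᵀ)ᵀ := by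
    rw [transpose_smul, transpose_transpose, Matrix.smul_mul, Matrix.smul_mul, Matrix.mul_smul, hP, smul_smul,
      smul_smul, ← sq, hc, inv_mul_cancel₀ a.ne_zero, one_smul]
  obtain ⟨k, hk⟩ := fin (φ := ((1 : E ≃+* E) : E →+* E)) (h.sq_inj (by
    have := congrArg det e1
    rwa [dt, det_mul, det_mul, dt, det_transpose, mul_one, ← sq, eq_comm, ← one_pow 2] at this)) e1
  exact red h _ hk (fun x => ut x.1 x.2.1 x.2.2.1 x.2.2.2 (x.2.1 + x.1 * x.2.2.2) x.1) (fun _ _ e => by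
    simp only [ut_inj, Prod.ext_iff] at e ⊢; tauto) (fun _ => ut_mem ..) fun x => by
      rw [gm_true, (suσ_eq_iff _).2 (by
        ext a b
        fin_cases a <;> fin_cases b <;> simp [adjM_apply, ut, mul_apply, Fin.sum_univ_four] <;>
          first | linear_combination x.1 * two | linear_combination x.2.2.2 * two |
            linear_combination (x.2.1 + x.1 * x.2.2.2) * two |
            linear_combination (x.2.2.1 + x.1 * (x.2.1 + x.1 * x.2.2.2)) * two)]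
      simp [ut_mul, add_comm]

theorem sl_lang (h : Qd σ) {l : SL(4, E)} {b : Bool} (e : l * gm σ b l = 1) :
    ∃ k, l = k * (gm σ b k)⁻¹ := by
  cases b
  · obtain ⟨k, hk⟩ := exists_mul_map_eq_of_matNorm two_pos h.ord (A := l.1) (by
      change l.1 * (l.1 * (1 : Matrix _ _ E).map σ).map σ = 1
      rw [Matrix.map_one _ (map_zero σ) (map_one σ), Matrix.mul_one]
      exact congrArg (fun g : SL(4, E) => g.1) e)
    have d := congrArg det hk
    rw [det_mul, l.2, one_mul, ← RingEquiv.mapMatrix_apply, ← RingEquiv.map_det] at d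
    refine ⟨⟨k.1 * diagonal ![k.1.det⁻¹, 1, 1, 1], by
      simp [Fin.prod_univ_four, k.det_ne_zero]⟩, eq_mul_inv_of_mul_eq (Subtype.ext ?_)⟩
    change l.1 * (k.1 * diagonal _).map (σ : E →+* E) = k.1 * _
    rw [Matrix.map_mul, ← Matrix.mul_assoc, RingHom.coe_coe, hk, diagonal_map (map_zero σ)]
    congr 2
    ext i; fin_cases i <;> simp [d]
  have u : ∀ g : SL(4, E), ∃ x : GL (Fin 4) E, x.1 = g.1 * Jm E := fun g =>
    ⟨GeneralLinearGroup.mkOfDetNeZero _ (by rw [det_mul, g.2, det_J]; simp), rfl⟩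
  obtain ⟨S, hS⟩ := u l
  obtain ⟨T, hT⟩ := u 1
  obtain ⟨M, hM⟩ := exists_congr_of_hermitian h.ord S (hS ▸ herm e)
  obtain ⟨N, hN⟩ := exists_congr_of_hermitian h.ord T (hT ▸ herm (φ := (σ : E →+* E)) (l := 1) (by simp))
  obtain ⟨K, hK⟩ : ∃ K : Matrix (Fin 4) (Fin 4) E, l.1 * Jm E = K * Jm E * (K.map σ)ᵀ := by
    have m : ∀ A B : GL (Fin 4) E, (A * B).1.map σ = A.1.map σ * B.1.map σ := fun A B =>
      Matrix.map_mul (f := (σ : E →+* E))
    have o : (1 : GL (Fin 4) E).1.map σ = 1 := Matrix.map_one _ (map_zero σ) (map_one σ)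
    refine ⟨((N * M⁻¹).1.map σ)ᵀ, ?_⟩
    rw [show (((N * M⁻¹).1.map σ)ᵀ.map σ)ᵀ = N.1 * M⁻¹.1 from Matrix.ext fun i j => h.ss _, m, transpose_mul,
      ← hS, ← hT.trans (Matrix.one_mul _), ← Matrix.mul_assoc, Matrix.mul_assoc _ _ T.1,
      Matrix.mul_assoc _ _ N.1, hN, ← hM, ← Matrix.mul_assoc, ← Matrix.mul_assoc, ← transpose_mul, ← m,
      mul_inv_cancel, o, transpose_one, Matrix.one_mul, Matrix.mul_assoc, ← Units.val_mul, mul_inv_cancel,
      Units.val_one, Matrix.mul_one]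
  have d := congrArg det hK
  rw [det_mul, det_mul, det_mul, l.2, det_J, det_transpose, ← RingEquiv.mapMatrix_apply,
    ← RingEquiv.map_det, mul_one, mul_one] at d
  obtain ⟨f, hf, -⟩ := h.sqrt (σ K.det)
  have f1 : f * σ f = 1 := h.sq_inj (by rw [mul_pow, ← map_pow, hf, h.ss, mul_comm, ← d, one_pow])
  obtain ⟨k, hk⟩ := fin (φ := (σ : E →+* E)) (l := l) (l₀ := 1) (K := K * diagonal ![f, 1, 1, f]) (by
    simp [Fin.prod_univ_four, ← sq, hf, ← d]) (by
      have j : diagonal ![f, 1, 1, f] * Jm E * ((diagonal ![f, 1, 1, f]).map (σ : E →+* E))ᵀ = Jm E := by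
        ext a b
        fin_cases a <;> fin_cases b <;> simp only [mul_apply, Fin.sum_univ_four] <;> simp [Jm, f1]
      rw [hK, Matrix.map_mul, transpose_mul, show (1 : SL(4, E)).1 * Jm E = Jm E from Matrix.one_mul _,
        ← Matrix.mul_assoc, Matrix.mul_assoc K (diagonal _), Matrix.mul_assoc K (_ * _), j]
      rfl)
  exact ⟨k, by rwa [mul_one] at hk⟩

theorem sl_sub (_h : Qd σ) : ∃ Y : Subgroup SL(4, E), ⁅Y, Y⁆ = Y ∧ (∀ g ∈ Y, gm σ false g = g) ∧
    Nat.card Y = qn σ ^ 6 * (qn σ ^ 2 - 1) * (qn σ ^ 3 - 1) * (qn σ ^ 4 - 1) := by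
  have := Fintype.ofFinite (fixF σ)
  refine ⟨(⊤ : Subgroup SL(4, fixF σ)).map (SpecialLinearGroup.map (fixF σ).subtype), ?_, ?_, ?_⟩
  · rw [← map_commutator, ← commutator_def, Class.SL_commutator_eq_top (by simp)]
  · rintro _ ⟨g, -, rfl⟩
    exact Subtype.ext (Matrix.ext fun i j => (g.1 i j).2)
  · rw [card_map_of_injective (f := (SpecialLinearGroup.map (fixF σ).subtype : SL(4, fixF σ) →* SL(4, E)))
      fun a b e => Subtype.ext (Matrix.ext fun i j => Subtype.ext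
      (congrFun (congrFun (congrArg (fun g : SL(4, E) => g.1) e) i) j)), card_top,
      Class.card_SL_fin_four (q := qn σ) Nat.card_eq_fintype_card.symm]

end Cfsg.Lib.U42
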