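import Cfsg.Agent.U42.Fld

/-!
# Matrix computations in the model of `U₄(2)`
-/

set_option autoImplicit false
set_option linter.unusedSectionVars false

namespace Cfsg.Lib.U42.M1b

open Subgroup Matrix Cfsg.Lib.Chev
open scoped MatrixGroups

variable {E : Type*} [Field E] [Finite E] {σ : E ≃+* E}

/-- The underlying matrix. -/
def mx (g : SL(4, E)) : Matrix (Fin 4) (Fin 4) E := g.1

theorem mx_eq_1' : type_of% @mx.eq_1 := @mx.eq_1

theorem mx_mul (g k : SL(4, E)) : mx (g * k) = mx g * mx k := rfl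

theorem mx_inj {g k : SL(4, E)} (h : mx g = mx k) : g = k := Subtype.ext h

section

variable (a00 a01 a02 a03 a10 a11 a12 a13 a20 a21 a22 a23 a30 a31 a32 a33
  b00 b01 b02 b03 b10 b11 b12 b13 b20 b21 b22 b23 b30 b31 b32 b33 : E)

theorem mul4 : !![a00, a01, a02, a03;
      a10, a11, a12, a13;
      a20, a21, a22, a23;
      a30, a31, a32, a33] * !![b00, b01, b02, b03;
      b10, b11, b12, b13;
      b20, b21, b22, b23;
      b30, b31, b32, b33] =
    !![a00 * b00 + a01 * b10 + a02 * b20 + a03 * b30,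
      a00 * b01 + a01 * b11 + a02 * b21 + a03 * b31,
      a00 * b02 + a01 * b12 + a02 * b22 + a03 * b32,
      a00 * b03 + a01 * b13 + a02 * b23 + a03 * b33;
      a10 * b00 + a11 * b10 + a12 * b20 + a13 * b30,
      a10 * b01 + a11 * b11 + a12 * b21 + a13 * b31,
      a10 * b02 + a11 * b12 + a12 * b22 + a13 * b32,
      a10 * b03 + a11 * b13 + a12 * b23 + a13 * b33;
      a20 * b00 + a21 * b10 + a22 * b20 + a23 * b30,
      a20 * b01 + a21 * b11 + a22 * b21 + a23 * b31,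
      a20 * b02 + a21 * b12 + a22 * b22 + a23 * b32,
      a20 * b03 + a21 * b13 + a22 * b23 + a23 * b33;
      a30 * b00 + a31 * b10 + a32 * b20 + a33 * b30,
      a30 * b01 + a31 * b11 + a32 * b21 + a33 * b31,
      a30 * b02 + a31 * b12 + a32 * b22 + a33 * b32,
      a30 * b03 + a31 * b13 + a32 * b23 + a33 * b33] := by
  ext i j
  fin_cases i <;> fin_cases j <;> simp [mul_apply, Fin.sum_univ_four]

theorem adj4 : adjM (σ : E →+* E) !![a00, a01, a02, a03;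
      a10, a11, a12, a13;
      a20, a21, a22, a23;
      a30, a31, a32, a33] =
    !![σ a33, σ a23, σ a13, σ a03;
      σ a32, σ a22, σ a12, σ a02;
      σ a31, σ a21, σ a11, σ a01;
      σ a30, σ a20, σ a10, σ a00] := by
  ext i j
  fin_cases i <;> fin_cases j <;> rfl

theorem det4 : det !![a00, a01, a02, a03;
      0, a11, a12, a13;
      0, 0, a22, a23;
      0, 0, 0, a33] = a00 * a11 * a22 * a33 := by
  rw [det_of_isUpperTriangular, Fin.prod_univ_four]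
  · rfl
  · intro i j h
    revert h
    fin_cases i <;> fin_cases j <;> simp

end

theorem one4 : (1 : Matrix (Fin 4) (Fin 4) E) = !![1, 0, 0, 0; 0, 1, 0, 0; 0, 0, 1, 0; 0, 0, 0, 1] := by
  ext i j
  fin_cases i <;> fin_cases j <;> rfl

theorem eta4 (m : Matrix (Fin 4) (Fin 4) E) : ∃ a00 a01 a02 a03 a10 a11 a12 a13 a20 a21 a22 a23 a30 a31 a32 a33 : E,
    m = !![a00, a01, a02, a03;
      a10, a11, a12, a13;
      a20, a21, a22, a23;
      a30, a31, a32, a33] :=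
  ⟨m 0 0, m 0 1, m 0 2, m 0 3, m 1 0, m 1 1, m 1 2, m 1 3,
    m 2 0, m 2 1, m 2 2, m 2 3, m 3 0, m 3 1, m 3 2, m 3 3, by
    ext i j
    fin_cases i <;> fin_cases j <;> rfl⟩

theorem X0 (a : E) : mx (X4 σ 0 a) = !![1, a, 0, 0; 0, 1, 0, 0; 0, 0, 1, σ a; 0, 0, 0, 1] := by
  rw [X4, xe, if_pos (by decide)]
  change (slE (0 : Fin 4) 1 a).1 * (slE (2 : Fin 4) 3 (σ a)).1 = _
  rw [coe_slE (by decide), coe_slE (by decide)]
  ext i j
  fin_cases i <;> fin_cases j <;> simp [mul_apply, Fin.sum_univ_four, one_apply]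

theorem X2 (a : E) : mx (X4 σ 2 a) = !![1, 0, σ a, 0; 0, 1, 0, a; 0, 0, 1, 0; 0, 0, 0, 1] := by
  rw [X4, xe, if_pos (by decide)]
  change (slE (1 : Fin 4) 3 a).1 * (slE (0 : Fin 4) 2 (σ a)).1 = _
  rw [coe_slE (by decide), coe_slE (by decide)]
  ext i j
  fin_cases i <;> fin_cases j <;> simp [mul_apply, Fin.sum_univ_four, one_apply]

theorem X4' (a : E) : mx (X4 σ 4 a) = !![1, 0, 0, 0; σ a, 1, 0, 0; 0, 0, 1, 0; 0, 0, a, 1] := by
  rw [X4, xe, if_pos (by decide)]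
  change (slE (3 : Fin 4) 2 a).1 * (slE (1 : Fin 4) 0 (σ a)).1 = _
  rw [coe_slE (by decide), coe_slE (by decide)]
  ext i j
  fin_cases i <;> fin_cases j <;> simp [mul_apply, Fin.sum_univ_four, one_apply]

theorem X6 (a : E) : mx (X4 σ 6 a) = !![1, 0, 0, 0; 0, 1, 0, 0; a, 0, 1, 0; 0, σ a, 0, 1] := by
  rw [X4, xe, if_pos (by decide)]
  change (slE (2 : Fin 4) 0 a).1 * (slE (3 : Fin 4) 1 (σ a)).1 = _
  rw [coe_slE (by decide), coe_slE (by decide)]
  ext i j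
  fin_cases i <;> fin_cases j <;> simp [mul_apply, Fin.sum_univ_four, one_apply]

theorem X1 {a : E} (h : σ a = a) :
    mx (X4 σ 1 a) = !![1, 0, 0, a; 0, 1, 0, 0; 0, 0, 1, 0; 0, 0, 0, 1] := by
  rw [X4, xe, if_neg (by decide), if_pos h]
  change (slE (0 : Fin 4) 3 a).1 = _
  rw [coe_slE (by decide)]
  ext i j
  fin_cases i <;> fin_cases j <;> simp

theorem X3 {a : E} (h : σ a = a) :
    mx (X4 σ 3 a) = !![1, 0, 0, 0; 0, 1, a, 0; 0, 0, 1, 0; 0, 0, 0, 1] := by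
  rw [X4, xe, if_neg (by decide), if_pos h]
  change (slE (1 : Fin 4) 2 a).1 = _
  rw [coe_slE (by decide)]
  ext i j
  fin_cases i <;> fin_cases j <;> simp

theorem X5 {a : E} (h : σ a = a) :
    mx (X4 σ 5 a) = !![1, 0, 0, 0; 0, 1, 0, 0; 0, 0, 1, 0; a, 0, 0, 1] := by
  rw [X4, xe, if_neg (by decide), if_pos h]
  change (slE (3 : Fin 4) 0 a).1 = _
  rw [coe_slE (by decide)]
  ext i j
  fin_cases i <;> fin_cases j <;> simp

theorem X7 {a : E} (h : σ a = a) :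
    mx (X4 σ 7 a) = !![1, 0, 0, 0; 0, 1, 0, 0; 0, a, 1, 0; 0, 0, 0, 1] := by
  rw [X4, xe, if_neg (by decide), if_pos h]
  change (slE (2 : Fin 4) 1 a).1 = _
  rw [coe_slE (by decide)]
  ext i j
  fin_cases i <;> fin_cases j <;> simp

theorem vv_coe {d r : E} (hd : σ d = d) (hr : σ r = r) (c : E) :
    mx (vv (X4 σ) d c r) = !![1, 0, σ c, r; 0, 1, d, c; 0, 0, 1, 0; 0, 0, 0, 1] := by
  simp [vv, mx_mul, X1 hr, X2, X3 hd]

theorem uu_coe {d r : E} (hd : σ d = d) (hr : σ r = r) (a c : E) : mx (uu (X4 σ) a d c r) =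
    !![1, a, σ c + a * d, r + a * c; 0, 1, d, c; 0, 0, 1, σ a; 0, 0, 0, 1] := by
  simp [uu, mx_mul, vv_coe hd hr, X0]

variable (h : Qd σ)
include h

theorem add_self (s : E) : s + s = 0 := by rw [← two_mul, h.two, zero_mul]

theorem H0 {e : E} (he : e ≠ 0) : mx (hh σ (X4 σ) 0 e) =
    !![e, 0, 0, 0; 0, e⁻¹, 0, 0; 0, 0, σ e, 0; 0, 0, 0, (σ e)⁻¹] := by
  have h1 : σ e ≠ 0 := by simpa using he
  simp [hh, nn, mx_mul, X0, X4', h.ss, he, h1, add_self h]

theorem H1 {c : E} (hc : c ≠ 0) (fc : σ c = c) : mx (hh σ (X4 σ) 1 c) =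
    !![c, 0, 0, 0; 0, 1, 0, 0; 0, 0, 1, 0; 0, 0, 0, c⁻¹] := by
  simp [hh, nn, mx_mul, show (1 + 4 : ZMod 8) = 5 from rfl, X1, fc, X5, hc, add_self h]

theorem H3 {c : E} (hc : c ≠ 0) (fc : σ c = c) : mx (hh σ (X4 σ) 3 c) =
    !![1, 0, 0, 0; 0, c, 0, 0; 0, 0, c⁻¹, 0; 0, 0, 0, 1] := by
  simp [hh, nn, mx_mul, show (3 + 4 : ZMod 8) = 7 from rfl, X3, fc, X7, hc, add_self h]

theorem un {g : SL(4, E)} (hg : g ∈ LL (X4 σ)) : adjM (σ : E →+* E) (mx g) * mx g = 1 := by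
  refine (suσ_eq_iff _).1 ((LL_le.2 fun i s => ?_ :
    LL (X4 σ) ≤ (suσ (σ : E →+* E)).eqLocus (MonoidHom.id _)) hg)
  by_cases k : Ev i ∨ σ s = s
  · refine (suσ_eq_iff _).2 (?_ : adjM (σ : E →+* E) (mx _) * mx _ = 1)
    have : i = 0 ∨ i = 2 ∨ i = 4 ∨ i = 6 ∨ (i = 1 ∨ i = 3 ∨ i = 5 ∨ i = 7) ∧ ¬ Ev i := by
      clear k; revert i; decide
    rcases this with rfl | rfl | rfl | rfl | ⟨e, k'⟩
    · simp [X0, adj4, one4, h.ss, add_self h]
    · simp [X2, adj4, one4, h.ss, add_self h]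
    · simp [X4', adj4, one4, h.ss, add_self h]
    · simp [X6, adj4, one4, h.ss, add_self h]
    have hs := k.resolve_left k'
    rcases e with rfl | rfl | rfl | rfl
    · simp [X1 hs, adj4, one4, hs, add_self h]
    · simp [X3 hs, adj4, one4, hs, add_self h]
    · simp [X5 hs, adj4, one4, hs, add_self h]
    · simp [X7 hs, adj4, one4, hs, add_self h]
  · rw [X4, xe, if_neg fun e => k (.inl e), if_neg fun e => k (.inr e)]
    exact one_mem _

theorem un' {g : SL(4, E)} (hg : g ∈ LL (X4 σ)) : mx g * adjM (σ : E →+* E) (mx g) = 1 :=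
  mul_eq_one_comm.1 (un h hg)

/-- Unitary unitriangular matrices. -/
theorem tri {g : SL(4, E)} (hg : g ∈ LL (X4 σ)) {a d a02 a03 a13 a22 a23 a33 : E}
    (e : mx g = !![1, a, a02, a03; 0, 1, d, a13; 0, 0, a22, a23; 0, 0, 0, a33]) :
    ∃ c r, σ d = d ∧ σ r = r ∧ g = uu (X4 σ) a d c r := by
  have k := un h hg
  simp [e, adj4, one4] at k
  obtain ⟨⟨k1, k2, k3, k4⟩, ⟨k5, k6, k7⟩, k8, k9⟩ := k
  have e1 : a33 = 1 := σ.injective (by rw [k1, map_one])
  have e2 : a22 = 1 := σ.injective (by rw [k5, map_one])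
  subst e1 e2
  simp only [map_one, one_mul, mul_one] at k2 k3 k4 k6
  have e3 : a = σ a23 := by linear_combination k2 - σ a23 * h.two
  subst e3
  have e4 : σ d = d := by linear_combination k6 - d * h.two
  have e5 : σ (a03 + σ a23 * a13) = a03 + σ a23 * a13 := by
    simp only [map_add, map_mul, h.ss]
    linear_combination k4 - (a03 + σ a23 * a13) * h.two
  refine ⟨a13, _, e4, e5, mx_inj ?_⟩
  simp only [e, uu_coe e4 e5, h.ss]
  congr
  · linear_combination k3 - (σ a13 + σ a23 * d) * h.two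
  · linear_combination (-σ a23 * a13) * h.two

end Cfsg.Lib.U42.M1b
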