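import Cfsg.Agent.U42.ES
import Cfsg.Agent.U42.M3d
import Cfsg.Agent.U42.M1s
import Cfsg.Agent.SG2.NA
import Cfsg.Agent.SG2.LN
import Cfsg.Agent.SG2.ABb
import Cfsg.Agent.SG2.SYb
import Cfsg.Agent.SG2.NB

/-!
# Standard subgroups of type `U₄(2)`: the normaliser of `V₁ V₂` in the split case
-/

set_option autoImplicit false
set_option linter.unusedSectionVars false

namespace Cfsg.Lib.U42

open Subgroup Cfsg.Lib.Trans Cfsg.Lib.Gold
open Cfsg.Lib.SG2 (Uq Top Pp cent_syl lnS odd_pow_mem)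
open Cfsg.Lib.SG2.NA (Gl dec ns_of proj card_sup relIndex_sup sq_mem simple_sup mem_Ns_swap sup_eq)
open scoped commutatorElement MatrixGroups

namespace NS

section Abs

variable {G : Type*} [Group G] [Finite G] {A L X U D P D' P' : Subgroup G} {t : G}

/-- A parabolic subgroup with a normal 2-subgroup. -/
structure Par0 (L U : Subgroup G) (t : G) (D P : Subgroup G) : Prop where
  DU : D ≤ U
  UP : U ≤ P
  PL : P ≤ L
  nD : P ≤ Ns D
  tD : t ∈ Ns D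
  cD : ∀ m ∈ Ns L, m ∈ Cs D → ∃ r ∈ D, r⁻¹ * m ∈ Cs L

/-- A parabolic subgroup generated modulo `D` by the conjugates of a suitable involution. -/
structure Par (L U : Subgroup G) (t : G) (D P : Subgroup G) : Prop extends Par0 L U t D P where
  ex : ∃ u ∈ P, u * u = 1 ∧ (∃ m ∈ Ns L, m * t * m⁻¹ = t * u) ∧
    ∀ N : Subgroup G, D ≤ N → P ≤ Ns N → u ∈ N → P ≤ N

variable (h : Gl L X U t)
include h

theorem le_Oc (a : Par0 L U t D P) (hA : A ≤ Cs D) (ho : Odd (Nat.card A)) : A ≤ Oc (Cs D) := by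
  have h2 := h.syl.isPGroup.to_le a.DU
  have h1 : Cs D ≤ D ⊓ Cs D ⊔ Oc (Cs D) := cent_syl
    (le_inf inf_le_right (inf_le_left.trans (le_Cs_comm.1 le_rfl))) (fun g hg g2 => by
      obtain ⟨k, hk, e⟩ := h.uq.conj_le h.tM h.t2 a.tD g2.isPGroup (zpowers_le.2 (Cs_le_Ns hg))
      have c := mem_normalizer_conj (mem_Ns_Cs hk) hg
      obtain ⟨r, hr, e1⟩ := a.cD _ (cj_le_iff.1 e g (mem_zpowers g)) c
      have := eq_one_of_mem_of_odd (Comp.isPGroup_sup h2 (g2.conj k).isPGroup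
        (zpowers_le.2 (Cs_le_Ns c))) h.odd
        (mul_mem (mem_sup_left (inv_mem hr)) (mem_sup_right (mem_zpowers _))) e1
      exact ⟨(mem_normalizer_iff.1 hk g).2 (inv_mul_eq_one.1 this ▸ hr), hg⟩) h2.to_inf_left
  intro x hx
  obtain ⟨o, ho', d, hd, rfl⟩ := dec (inf_le_right.trans le_Ns_Oc_self)
    (sup_comm (D ⊓ Cs D) _ ▸ h1 (hA hx))
  rwa [eq_one_of_mem_of_odd h2 (odd_card_sup odd_card_Oc ho (hA.trans le_Ns_Oc_self)) hd.1
    ((mul_mem_cancel_left (mem_sup_left ho')).1 (mem_sup_right hx)), mul_one]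

theorem kill (a : Par0 L U t D P) {u m : G} (hu : u ∈ P) (u2 : u * u = 1) (hm : m ∈ Ns L)
    (e : m * t * m⁻¹ = t * u) : u ∈ Cs (Oc (Cs D)) := by
  have hD := (a.DU.trans a.UP).trans a.PL
  refine h.uq.okill h.tM h.t2 odd_card_Oc (mem_Ns_Oc (mem_Ns_Cs a.tD))
      (mem_Ns_Oc (mem_Ns_Cs (a.nD hu))) u2 hm e fun o ho => ?_
  obtain ⟨r, hr, e1⟩ := a.cD o ho.2 (Oc_le ho.1)
  have := eq_one_of_mem_of_odd (h.syl.isPGroup.to_le a.DU) (odd_card_sup odd_card_Oc h.odd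
    ((Cs_anti hD).trans le_Ns_Oc_self)) (inv_mem hr)
    ((mul_mem_cancel_right (mem_sup_left ho.1)).1 (mem_sup_right e1))
  rw [this, one_mul] at e1
  exact (mem_Cs.1 e1 u (a.PL hu)).symm

theorem Oc_le_Cs (a : Par L U t D P) : Oc (Cs D) ≤ Cs P := by
  obtain ⟨u, hu, u2, ⟨m, hm, e⟩, k⟩ := a.ex
  exact le_Cs_comm.1 (k _ (le_Cs_comm.1 Oc_le) (le_Ns_Cs (le_Ns_Oc (le_Ns_Cs a.nD)))
    (kill h a.toPar0 hu u2 hm e))

theorem nC (a : Par0 L U t D P) (e : L ≤ Cs (Oc (Cs D))) : Ns D ≤ Ns (Cs L) := by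
  have : Oc (Cs D) = Cs L := le_antisymm (le_Cs_comm.1 e)
    (le_Oc h a (Cs_anti ((a.DU.trans a.UP).trans a.PL)) h.odd)
  exact this ▸ le_Ns_Oc (le_Ns_Cs le_rfl)

theorem odd_idx (a : Par L U t D P) : Odd ((D ⊔ Cs L ⊔ U).relIndex (Ns D ⊓ X)) :=
  Nat.not_even_iff_odd.1 fun c => (h.syl.mono (le_inf (a.UP.trans a.nD) h.syl.le)
    inf_le_right).not_dvd_relIndex_of_le le_sup_right c.two_dvd

theorem le_Z (a : Par L U t D P) : D ⊔ Cs L ⊔ P ≤ Ns D ⊓ X ⊓ Ns L :=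
  have hP : P ≤ Ns D ⊓ X ⊓ Ns L := le_inf (le_inf a.nD (a.PL.trans h.le)) (a.PL.trans le_normalizer)
  sup_le (sup_le ((a.DU.trans a.UP).trans hP) (le_inf (le_inf
    (ns_of ((a.DU.trans a.UP).trans a.PL) le_rfl) h.CX) Cs_le_Ns)) hP

end Abs

variable {G E : Type*} [Group G] [Finite G] [Field E] [Finite E] {σ : E ≃+* E}
  {x y z : ZMod 8 → E → G} {t g : G} {X A D P : Subgroup G} {i : ZMod 8}

/-- A maximal parabolic subgroup of a system. -/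
structure Lv0 (y : ZMod 8 → E → G) (i : ZMod 8) (D P : Subgroup G) : Prop where
  DU : D ≤ UU y
  UP : UU y ≤ P
  PL : P ≤ LL y
  nD : P ≤ Ns D
  z1 : y 1 1 ∈ D
  xU : y i 1 ∈ UU y
  cD : ∀ g ∈ Ns (LL y), g ∈ Cs D → ∃ p ∈ D, p⁻¹ * g ∈ Cs (LL y)

/-- A maximal parabolic subgroup with simple Levi factor. -/
structure Lv (y : ZMod 8 → E → G) (i : ZMod 8) (D P : Subgroup G) : Prop extends Lv0 y i D P where
  simple : ∀ N : Subgroup G, D ≤ N → N ≤ P → P ≤ Ns N → N = D ∨ N = P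
  tor : ∃ k ∈ P, k * y i 1 * k⁻¹ * (y i 1)⁻¹ ∉ D

theorem sq_ne (h : Sys σ y) : ∃ c : E, c ≠ 0 ∧ c ^ 2 * 1 + 1 ≠ 0 := by
  obtain ⟨c, h1, h3⟩ := h.qd.exists_norm1
  exact ⟨c, left_ne_zero_of_mul_eq_one h1, fun e => h3 (by rw [← h.s.eq_of_add e, mul_one])⟩

theorem lvB (h : Sys σ y) : Lv y 0 (VV y) (PB y) where
  DU := VV_le_UU
  UP := UU_le_PB
  PL := PB_le_LL
  nD := h.PB_le_Ns
  z1 := R_le_VV (x_mem_rt 1 1)
  xU := x_mem_UU (by decide) 1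
  cD _ := h.cV
  simple _ := h.pb_simple
  tor := by
    obtain ⟨c, h2, h3⟩ := sq_ne h
    refine ⟨_, SL_le_PB (hh_mem_SL (σ := σ) 0 c), ?_⟩
    have := h.h0_uu h2 1 0 0 0
    simp only [mul_zero, h.s.uu_0] at this
    rwa [this, h.s.inv, ← h.s.add0, ← h.s.uu_0, h.uu_mem_VV (map_zero σ) (map_zero σ)]

theorem lvA (h : Sys σ y) : Lv0 y 3 (QQ y) (PA y) where
  DU := QQ_le_UU
  UP := UU_le_PA
  PL := PA_le_LL
  nD := h.PA_le_Ns
  z1 := R_le_QQ (x_mem_rt 1 1)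
  xU := x_mem_UU (by decide) 1
  cD _ a b := let ⟨p, c, d⟩ := h.cQ a b; ⟨p, R_le_QQ c, d⟩

theorem Lv0.DL (a : Lv0 y i D P) : D ≤ LL y := (a.DU.trans a.UP).trans a.PL

namespace Lv

variable (a : Lv y i D P)
include a

theorem DP : D ≤ P := a.DU.trans a.UP

theorem DL : D ≤ LL y := a.DP.trans a.PL

theorem nm : y i 1 ∉ D := fun e =>
  let ⟨_, hk, k⟩ := a.tor
  k (mul_mem (mem_normalizer_conj (a.nD hk) e) (inv_mem e))

theorem gen {N : Subgroup G} (h1 : D ≤ N) (h2 : P ≤ Ns N) (hg : g ∈ P) (hs : g ∉ D) (h3 : g ∈ N) :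
    P ≤ N := ((a.simple (N ⊓ P) (le_inf h1 a.DP) inf_le_right
      (le_Ns_inf h2 le_normalizer)).resolve_left fun e => hs (e.le ⟨h3, hg⟩)).ge.trans inf_le_left

end Lv

theorem genB (h : Sys σ y) {H : Subgroup G} (k : ∀ v ∈ PB y, v * v = 1 → v ∈ H) : PB y ≤ H :=
  sup_le (fun v hv => k v (VV_le_PB hv) (h.s.sq_VV hv)) (sup_le
    (rt_le.2 fun s => k _ (SL_le_PB (mem_sup_left (x_mem_rt _ s))) (h.s.mul_self _ s))
    (rt_le.2 fun s => k _ (SL_le_PB (mem_sup_right (x_mem_rt _ s))) (h.s.mul_self _ s)))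

theorem V_le (h : ES σ x t y z) (hA : A ≤ UU y ⊔ UU z) (h2 : ∀ a ∈ A, a * a = 1)
    (hc : qn σ ^ 8 ≤ Nat.card A) : VV z ≤ A ∧ Nat.card A ≤ qn σ ^ 8 := by
  obtain ⟨B, h3, h4, h5⟩ := SG2.exists_proj ((UU_le_LL.trans h.le_Cs).trans (Cs_anti UU_le_LL))
    (eq_bot_iff.2 ((inf_le_inf UU_le_LL UU_le_LL).trans h.inf.le)) hA h2
  have k1 := h.sy.elem_le4 h3 h4
  have k2 := h.sz.elem_le4 (A := A ⊓ UU z) inf_le_right fun a ha => h2 a ha.1
  have e : qn σ ^ 8 = qn σ ^ 4 * qn σ ^ 4 := by ring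
  refine ⟨(h.sz.elem_eq (A := A ⊓ UU z) inf_le_right (fun a ha => h2 a ha.1) ?_).ge.trans
    inf_le_left, e ▸ h5.trans (Nat.mul_le_mul k1 k2)⟩
  exact Nat.le_of_mul_le_mul_left (e ▸ (hc.trans h5).trans (Nat.mul_le_mul_right _ k1))
    (pow_pos (by rw [h.q2]; decide) 4)

variable (h : FS σ x t y z X)
include h

theorem zy : LL z ≤ Cs (LL y) := le_Cs_comm.1 h.toES.le_Cs

theorem gl : Gl (LL y ⊔ LL z) X (UU y ⊔ UU z) t :=
  ⟨h.uq, h.toES.tM, h.t2, h.odd, h.top, h.le, h.two, h.syl, fun _ k =>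
    sup_le (h.sy.gen_inv fun v hv => k v (mem_sup_left hv))
      (h.sz.gen_inv fun v hv => k v (mem_sup_right hv))⟩

theorem tcj (i : ZMod 8) : y i 1 * t * (y i 1)⁻¹ = t * (y i 1 * z i 1) := by
  rw [(h.com i i 1 1).eq, ← h.act, h.sy.s.inv, ← mul_assoc, ← mul_assoc, ← mul_assoc, h.t2, one_mul,
    inv_eq_of_mul_eq_one_right h.t2]

section Two

theorem cD (a : Lv0 y i D P) (b : Lv0 z i (cj t D) (cj t P)) {m : G} (hm : m ∈ Ns (LL y ⊔ LL z)) (hc : m ∈ Cs (D ⊔ cj t D)) :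
    ∃ r ∈ D ⊔ cj t D, r⁻¹ * m ∈ Cs (LL y ⊔ LL z) := by
  obtain ⟨c, d⟩ := (h.toES.perm hm).resolve_right fun c => h.sy.x_ne 1 (mem_bot.1 (h.toES.inf.le
    ⟨a.DL a.z1, c.1.le (by
      have := conj_mem_cj (g := m).2 (a.DL a.z1)
      rwa [← mem_Cs.1 hc _ (mem_sup_left a.z1), mul_inv_cancel_right] at this)⟩))
  obtain ⟨p, hp, e⟩ := a.cD m c (Cs_anti le_sup_left hc)
  obtain ⟨q, hq, e'⟩ := b.cD m d (Cs_anti le_sup_right hc)
  refine ⟨p * q, mul_mem_sup hp hq, le_Cs_comm.1 (sup_le (le_Cs_comm.1 (zpowers_le.2 ?_))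
    (le_Cs_comm.1 (zpowers_le.2 ?_))) (mem_zpowers _)⟩
  · rw [mul_inv_rev, mul_assoc]; exact mul_mem (inv_mem (zy h (b.DL hq))) e
  · rw [mem_Cs.1 (zy h (b.DL hq)) p (a.DL hp), mul_inv_rev, mul_assoc]
    exact mul_mem (inv_mem (h.toES.le_Cs (a.DL hp))) e'

theorem par0 (a : Lv0 y i D P) (b : Lv0 z i (cj t D) (cj t P)) :
    Par0 (LL y ⊔ LL z) (UU y ⊔ UU z) t (D ⊔ cj t D) (P ⊔ cj t P) where
  DU := sup_le_sup a.DU b.DU
  UP := sup_le_sup a.UP b.UP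
  PL := sup_le_sup a.PL b.PL
  nD := sup_le (le_Ns_sup a.nD (ns_of b.DL (a.PL.trans h.toES.le_Cs)))
    (le_Ns_sup (ns_of a.DL (b.PL.trans (zy h))) b.nD)
  tD := mem_Ns_swap h.t2 D
  cD _ := cD h a b

theorem par (a : Lv y i D P) (b : Lv z i (cj t D) (cj t P)) :
    Par (LL y ⊔ LL z) (UU y ⊔ UU z) t (D ⊔ cj t D) (P ⊔ cj t P) where
  toPar0 := par0 h a.toLv0 b.toLv0
  ex := ⟨_, mul_mem_sup (a.UP a.xU) (b.UP b.xU), by
      rw [← h.res, h.s.mul_self], ⟨_, le_normalizer (mem_sup_left (x_mem_LL i 1)), tcj h i⟩,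
    fun N h1 h2 h3 => by
      obtain ⟨k, hk, n⟩ := a.tor
      have e := mul_mem (mem_normalizer_conj (h2 (mem_sup_left hk)) h3) (inv_mem h3)
      rw [← conj_mul, ← mem_Cs.1 (h.toES.le_Cs (a.PL hk)) _ (x_mem_LL i 1), mul_inv_cancel_right,
        mul_inv_rev, ← mul_assoc, mul_inv_cancel_right] at e
      have x1 := a.UP a.xU
      have k := a.gen (le_sup_left.trans h1) (le_sup_left.trans h2)
        (mul_mem (mul_mem (mul_mem hk x1) (inv_mem hk)) (inv_mem x1)) n e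
      exact sup_le k (b.gen (le_sup_right.trans h1) (le_sup_right.trans h2) (b.UP b.xU) b.nm
        ((mul_mem_cancel_left (k x1)).1 h3))⟩

end Two

theorem tV : cj t (VV y) = VV z := Mp.cj_VV (σ := 1) h.act

theorem tB : cj t (PB y) = PB z := Mp.cj_PB (σ := 1) h.act

theorem parB : Par (LL y ⊔ LL z) (UU y ⊔ UU z) t (VV y ⊔ VV z) (PB y ⊔ PB z) := by
  have := par h (lvB h.sy) (by rw [tV h, tB h]; exact lvB h.sz)
  rwa [tV h, tB h] at this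

theorem LC1 : LL y ≤ Cs (Oc (Cs (VV y ⊔ VV z))) := by
  have e1 : cj t (QQ y) = QQ z := Mp.cj_QQ (σ := 1) h.act
  have e2 : cj t (PA y) = PA z := Mp.cj_PA (σ := 1) h.act
  have p := parB h
  have a := par0 h (lvA h.sy) (by rw [e1, e2]; exact lvA h.sz)
  have k1 := Oc_le_Cs (gl h) p
  have k2 := Cs_anti (le_Oc (gl h) a (k1.trans (Cs_anti (a.DU.trans p.UP))) odd_card_Oc)
  have k3 := le_Cs_comm.1 k1
  have k4 := kill (gl h) a (mul_mem_sup ((lvA h.sy).UP (lvA h.sy).xU)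
    (e2.ge ((lvA h.sz).UP (lvA h.sz).xU))) (by rw [← h.res, h.s.mul_self])
    (le_normalizer (mem_sup_left (x_mem_LL 3 1))) (tcj h 3)
  have k5 := k2 (mem_normalizer_conj (le_Ns_Cs (le_Ns_Oc (le_Ns_Cs a.nD))
    (mem_sup_left (SL_le_PA (nn_mem_SL (σ := σ) 3 1)))) k4)
  have y3 : ∀ s, y 3 s ∈ Cs (Oc (Cs (VV y ⊔ VV z))) := fun s =>
    k3 (mem_sup_left (VV_le_PB (X3_le_VV (x_mem_rt 3 s))))
  rw [← conj_mul, ← mem_Cs.1 (h.toES.le_Cs (nn_mem_LL 3 1)) _ (x_mem_LL 3 1),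
    mul_inv_cancel_right, h.sy.nn_one,
    mul_mem_cancel_right (k3 (mem_sup_right (VV_le_PB (X3_le_VV (x_mem_rt 3 1)))))] at k5
  have k6 : nn σ y 3 1 ∈ Cs (Oc (Cs (VV y ⊔ VV z))) :=
    mul_mem (mul_mem (y3 1) (by rw [map_one] at k5 ⊢; rw [inv_one]; exact k5)) (y3 1)
  rw [← h.sy.sup_PA_PB]
  refine sup_le (sup_le ((QQ_le_UU.trans UU_le_PB).trans (le_sup_left.trans k3))
    (sup_le (rt_le.2 y3) (rt_le.2 fun s => ?_))) (le_sup_left.trans k3)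
  have := mul_mem (mul_mem k6 (y3 (σ s))) (inv_mem k6)
  rwa [h.sy.nn_one, h.sy.s.ss] at this

theorem nV_C : Ns (VV y ⊔ VV z) ≤ Ns (Cs (LL y ⊔ LL z)) :=
  nC (gl h) (parB h).toPar0 (sup_le (LC1 h) (sup_comm (VV z) _ ▸ LC1 h.symm))

theorem prV (hg : g ∈ LL y) (e : g ∈ VV y ⊔ VV z) : g ∈ VV y :=
  proj VV_le_LL (VV_le_LL.trans (zy h)) h.sy.cent hg e

theorem nP {m : G} (h1 : m ∈ Ns (VV y ⊔ VV z)) (h2 : m ∈ Ns (LL y ⊔ LL z)) :
    m ∈ Ns (PB y ⊔ PB z) := by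
  have k : ∀ m ∈ Ns (VV y ⊔ VV z), m ∈ Ns (LL y) → m ∈ Ns (LL z) → m ∈ Ns (PB y ⊔ PB z) :=
    fun m h1 c d => mem_Ns_sup (h.sy.nV c (Comp.mem_Ns_of fun g hg => prV h
      (mem_normalizer_conj c (VV_le_LL hg)) (mem_normalizer_conj h1 (mem_sup_left hg))))
      (h.sz.nV d (Comp.mem_Ns_of fun g hg => prV h.symm (mem_normalizer_conj d (VV_le_LL hg))
        (sup_comm (VV y) _ ▸ mem_normalizer_conj h1 (mem_sup_right hg))))
  rcases h.toES.perm h2 with ⟨c, d⟩ | ⟨c, d⟩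
  · exact k m h1 c d
  · exact (mul_mem_cancel_left (tB h ▸ mem_Ns_swap h.t2 (PB y))).1 (k _ (mul_mem (parB h).tD h1)
      (by rw [mem_Ns_iff, cj_mul, c, h.toES.symm.cj_t]) (by rw [mem_Ns_iff, cj_mul, d, h.toES.cj_t]))

theorem lev : Ns (VV y ⊔ VV z) ≤ Ns (PB y ⊔ PB z ⊔ Cs (LL y ⊔ LL z)) := by
  have p := parB h
  have a := lvB h.sy
  have b := lvB h.sz
  have nD := le_Ns_sup le_rfl (nV_C h)
  have n1 := (le_sup_left.trans p.nD).trans nD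
  have n2 := (le_sup_right.trans p.nD).trans nD
  have nm : y 0 1 ∉ VV y ⊔ VV z ⊔ Cs (LL y ⊔ LL z) := fun c => a.nm
    (proj a.DL (sup_le (b.DL.trans (zy h)) (Cs_anti le_sup_left)) h.sy.cent (x_mem_LL 0 1)
      (sup_assoc (VV y) _ _ ▸ c))
  have cU : ∀ {A B : Subgroup G}, A ≤ LL y → B ≤ LL z → Nat.card (A ⊔ B : Subgroup G) =
      Nat.card A * Nat.card B := fun c d => card_sup c (d.trans (zy h)) h.sy.cent
  rw [← sup_eq (p.DU.trans p.UP), sup_sup_distrib_left]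
  refine lnS h.uq (gl h).tM h.t2 p.tD inf_le_left (le_Ns_inf le_normalizer ((gl h).nX _)) nD
    le_sup_left (by rw [← sup_sup_distrib_left]; exact sup_le_sup_left p.UP _) le_sup_left
    (by rw [cj_sup, mem_Ns_iff.1 (nD p.tD), tB h]) (commutator_le.2 fun u hu v hv => ?_)
    (by rw [← sup_sup_distrib_left]; exact le_Z (gl h) p)
    (fun g hg => by rw [← sup_sup_distrib_left]; exact mem_Ns_sup (nD hg.1) (nP h hg.1 hg.2))
    (odd_idx (gl h) p) (fun _ => sq_mem ((p.UP.trans p.nD).trans nD) fun u hu => mem_sup_left ?_) ?_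
    (fun c => nm (c (commutator_mono le_sup_right le_sup_right (h.sy.perf_PB.ge (a.UP a.xU)))))
    (simple_sup a.simple a.DP (le_sup_left.trans le_sup_left) n1)
    ⟨mem_sup_right (mem_sup_left a.xU), mem_sup_right (a.UP a.xU)⟩ nm (h.sy.s.mul_self 0 1)
    (by rw [h.act]; exact h.com 0 0 1 1) (le_normalizer (mem_sup_left (x_mem_LL 0 1)))
    (by rw [h.act]; exact tcj h 0)
  · obtain ⟨d, hd, r, hr, rfl⟩ := dec n1 hu
    obtain ⟨d', hd', s, hs, rfl⟩ := dec n2 hv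
    rw [show ⁅d * r, d' * s⁆ = d * (r * d' * r⁻¹) * (r * s * r⁻¹ * d⁻¹ * s⁻¹) * d'⁻¹ by
      rw [commutatorElement_def]; group, mem_Cs.1 (zy h (b.PL hs)) r (a.PL hr),
      mul_inv_cancel_right]
    exact mul_mem (mul_mem (mul_mem hd (mem_normalizer_conj (n1 hr) hd'))
      (mem_normalizer_conj (n2 hs) (inv_mem hd))) (inv_mem hd')
  · obtain ⟨r, hr, s, hs, rfl⟩ := dec (ns_of UU_le_LL (UU_le_LL.trans (zy h))) hu
    rw [mul_assoc, ← mul_assoc s, ← mem_Cs.1 (zy h (UU_le_LL hs)) r (UU_le_LL hr), mul_assoc,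
      ← mul_assoc]
    exact mul_mem_sup (NN_le_VV (h.sy.s.sq_UU hr)) (NN_le_VV (h.sz.s.sq_UU hs))
  · have := card_mul_relIndex p.DU
    have h4 := h.q2
    rw [cU a.DL b.DL, cU UU_le_LL UU_le_LL, h.sy.card_VV, h.sz.card_VV, h.sy.card_UU, h.sz.card_UU,
      show qn σ ^ 6 * qn σ ^ 6 = qn σ ^ 4 * qn σ ^ 4 * (qn σ ^ 2 * qn σ ^ 2) by ring,
      mul_right_inj' (by rw [h4]; decide)] at this
    rw [sup_eq p.DU, relIndex_sup p.DU (p.UP.trans p.PL) le_rfl h.toES.cent, this, h4]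
    decide

theorem nB (hg : g ∈ Ns (VV y ⊔ VV z)) : g ∈ Ns (PB y ⊔ PB z) := by
  have p := parB h
  have k : ∀ v ∈ PB y ⊔ PB z, v * v = 1 → v ∈ cj g⁻¹ (PB y ⊔ PB z) := fun v hv v2 => by
    have c := le_Cs_comm.1 (Cs_anti p.PL)
    obtain ⟨a, ha, b, hb, e⟩ := (SG2.mem_sup_Cs c).1
      (mem_normalizer_conj (lev h hg) (mem_sup_left hv))
    have b2 := (SG2.sq_parts c (eq_bot_iff.2 ((inf_le_inf_right _ p.PL).trans h.toES.cent.le))
      ha hb (by rw [e, conj_mul, v2]; simp)).2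
    rw [mem_cj_inv, ← e, Bender.eq_one_of_mem_of_odd h.odd hb b2, mul_one]
    exact ha
  exact mem_normalizer_of_cj_le (cj_le_iff_le_cj_inv.2 (sup_le
    (genB h.sy fun v hv => k v (mem_sup_left hv)) (genB h.sz fun v hv => k v (mem_sup_right hv))))

theorem nB1 : PB y ⊔ PB z ≤ Ns (PB y) :=
  sup_le le_normalizer (ns_of PB_le_LL (PB_le_LL.trans (zy h)))

theorem comB : ⁅PB y ⊔ (VV y ⊔ VV z), PB y ⊔ (VV y ⊔ VV z)⁆ ≤ PB y := by
  rw [← sup_assoc, sup_eq_left.2 VV_le_PB]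
  have c : PB y ≤ Cs (VV z) := (PB_le_LL.trans h.toES.le_Cs).trans (Cs_anti VV_le_LL)
  refine commutator_le.2 fun u hu v hv => ?_
  obtain ⟨a, ha, b, hb, rfl⟩ := (SG2.mem_sup_Cs c).1 hu
  have k : Commute b v := mem_Cs.1 (sup_le c h.sz.s.VV_comm hv) b hb
  rw [show ⁅a * b, v⁆ = a * (b * v * b⁻¹ * a⁻¹ * v⁻¹) by rw [commutatorElement_def]; group, k.eq,
    mul_inv_cancel_right]
  exact mul_mem ha (mem_normalizer_conj (nB1 h (sup_le_sup_left VV_le_PB _ hv)) (inv_mem ha))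

theorem perm (hg : g ∈ Ns (VV y ⊔ VV z)) : PB y ≤ cj g (PB y) ∨ PB z ≤ cj g (PB y) := by
  have p := parB h
  have e1 := mem_Ns_iff.1 hg
  have e2 := mem_Ns_iff.1 (nB h hg)
  have k1 : cj g (PB y) ≤ PB y ⊔ PB z := e2 ▸ cj_mono g le_sup_left
  have k2 : PB y ⊔ PB z ≤ Ns (cj g (PB y)) := by
    rw [← e2]; exact (cj_mono g (nB1 h)).trans (cj_Ns g _).le
  have k3 : ∀ {w : ZMod 8 → E → G}, Sys σ w → PB w ≤ PB y ⊔ PB z → VV w ≤ VV y ⊔ VV z →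
      PB y ⊔ PB z ≤ Ns (PB w) → PB w ≤ cj g (PB y) ∨ ⁅cj g (PB y), PB w⁆ ≤ VV y ⊔ VV z := by
    intro w hw l1 l2 l3
    rcases hw.pb_simple (N := (cj g (PB y) ⊔ (VV y ⊔ VV z)) ⊓ PB w)
      (le_inf (l2.trans le_sup_right) VV_le_PB) inf_le_right
      (le_Ns_inf (le_Ns_sup (l1.trans k2) (l1.trans p.nD)) le_normalizer) with e | e
    · exact Or.inr (((le_inf ((commutator_le_left_of_le (l1.trans k2)).trans le_sup_left)
        (commutator_le_right_of_le (k1.trans l3))).trans e.le).trans l2)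
    · left
      have l4 := inf_eq_right.1 e
      rw [← e1, ← cj_sup] at l4
      exact (hw.perf_PB.ge.trans (commutator_mono l4 l4)).trans
        (by rw [← cj_commutator]; exact cj_mono g (comB h))
  refine (k3 h.sy le_sup_left le_sup_left (nB1 h)).elim Or.inl fun c1 =>
    (k3 h.sz le_sup_right le_sup_right (sup_comm (PB z) _ ▸ nB1 h.symm)).elim Or.inr fun c2 => ?_
  have k4 : ⁅cj g (PB y), cj g (PB y)⁆ ≤ VV y ⊔ VV z := commutator_le.2 fun u hu v hv => by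
    obtain ⟨a, ha, b, hb, rfl⟩ := dec (le_sup_right.trans (nB1 h)) (k1 hv)
    rw [show ⁅u, a * b⁆ = ⁅u, a⁆ * (a * ⁅u, b⁆ * a⁻¹) by simp only [commutatorElement_def]; group]
    exact mul_mem (commutator_le.1 c1 u hu a ha)
      (mem_normalizer_conj (p.nD (mem_sup_left ha)) (commutator_le.1 c2 u hu b hb))
  rw [← cj_commutator, h.sy.perf_PB, ← e1, cj_le_cj] at k4
  exact ((lvB h.sy).nm (prV h (x_mem_LL 0 1) (k4 (UU_le_PB (lvB h.sy).xU)))).elim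

theorem sqB (hg : g ∈ Ns (VV y ⊔ VV z)) : g * g ∈ Ns (PB y) := by
  have c : Nat.card (PB z) = Nat.card (PB y) := by rw [← tB h, card_cj]
  rw [mem_Ns_iff, cj_mul]
  rcases perm h hg with e | e
  · have := eq_of_le_of_card_ge e (card_cj _ _).le
    rw [← this, ← this]
  have e1 := eq_of_le_of_card_ge e (by rw [card_cj, c])
  rcases perm h.symm (sup_comm (VV y) _ ▸ hg) with e' | e'
  · have e2 := cj_inj.1 (e1.symm.trans (eq_of_le_of_card_ge e' (card_cj _ _).le))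
    have k := R_le_VV.trans VV_le_PB (x_mem_rt (x := y) 1 1)
    exact (h.sy.x_ne 1 (mem_bot.1 (h.toES.inf.le ⟨PB_le_LL k, PB_le_LL (e2 ▸ k)⟩))).elim
  · rw [← e1, ← eq_of_le_of_card_ge e' (by rw [card_cj, c])]

end NS

variable {G E : Type*} [Group G] [Finite G] [Field E] [Finite E] {σ : E ≃+* E}
  {x y z : ZMod 8 → E → G} {t : G} {X : Subgroup G}

theorem ES.card_J (h : ES σ x t y z) : Nat.card ↥(VV y ⊔ VV z) = qn σ ^ 8 := by
  rw [card_sup VV_le_LL (VV_le_LL.trans h.symm.le_Cs) h.sy.cent, h.sy.card_VV, h.sz.card_VV]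
  ring

theorem ES.J_eq (h : ES σ x t y z) {A : Subgroup G} (hA : A ≤ UU y ⊔ UU z)
    (h2 : ∀ a ∈ A, a * a = 1) (hc : qn σ ^ 8 ≤ Nat.card A) : A = VV y ⊔ VV z :=
  (eq_of_le_of_card_ge (sup_le (NS.V_le h.symm (sup_comm (UU y) _ ▸ hA) h2 hc).1
    (NS.V_le h hA h2 hc).1) (h.card_J ▸ (NS.V_le h hA h2 hc).2)).symm

theorem FS.nV (h : FS σ x t y z X) : X ⊓ Ns (VV y ⊔ VV z) ≤ Ns (VV y) := fun g hg => by
  have := Fact.mk Nat.prime_two
  have p := NS.parB h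
  have hX := p.PL.trans h.le
  have k : g ∈ Ns (PB y) := by
    obtain ⟨n, hn, k, hk, rfl⟩ := (h.syl.mono p.UP hX).frattini' (NS.nB h hg.2)
    obtain ⟨_, ⟨m, rfl⟩, e⟩ := odd_pow_mem h.syl ⟨(mul_mem_cancel_right (hX hk)).1 hg.1, hn⟩
    have e1 := NS.nB1 h (p.UP e)
    rw [pow_succ, pow_mul, sq, mul_mem_cancel_left
      (pow_mem (NS.sqB h ((mul_mem_cancel_right (p.nD hk)).1 hg.2)) m)] at e1
    exact mul_mem e1 (NS.nB1 h hk)
  exact Comp.mem_Ns_of fun v hv => NS.prV h (PB_le_LL (mem_normalizer_conj k (VV_le_PB hv)))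
    (mem_normalizer_conj hg.2 (mem_sup_left hv))

end Cfsg.Lib.U42
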