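import Cfsg.Agent.U42.P4dA
import Cfsg.Agent.U42.M3b

/-!
# Standard subgroups of type `U₄(2)`: phase 4d
-/

set_option autoImplicit false

namespace Cfsg.Lib.U42

theorem H4c.h4 {G E : Type*} [Group G] [Finite G] [Field E] [Finite E] {σ : E ≃+* E}
    {x : ZMod 8 → E → G} {t : G} {β : E} {hβ : σ β = β} {y : ZMod 8 → EK β → G}
    (h : H4c σ x t hβ y) : ∃ y' : ZMod 8 → EK β → G, H4 σ x t hβ y' :=
  h.h4_of fun _ hg => h.toSys.aut hg

end Cfsg.Lib.U42
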