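import Cfsg.Agent.U42.SY0
import Cfsg.Agent.U42.M1
import Cfsg.Agent.U42.M1n
import Cfsg.Agent.U42.M2A

/-!
# Standard subgroups of type `U₄(2)`: phase 4d, rotations
-/

set_option autoImplicit false
set_option linter.unusedSectionVars false

namespace Cfsg.Lib.U42

open Subgroup Cfsg.Lib.Trans Cfsg.Lib.Gold
open Cfsg.Lib.SG2 (Uq Top Pp)
open scoped commutatorElement MatrixGroups

namespace P4d

theorem ind {P : ZMod 8 → Prop} (h0 : P 0) (h1 : P 1) (st : ∀ i, P i → P (i + 2)) (i : ZMod 8) :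
    P i := by
  have h2 : P 2 := st 0 h0
  have h3 : P 3 := st 1 h1
  have h4 : P 4 := st 2 h2
  have h5 : P 5 := st 3 h3
  have h6 : P 6 := st 4 h4
  have h7 : P 7 := st 5 h5
  have : ∀ i : ZMod 8, i = 0 ∨ i = 1 ∨ i = 2 ∨ i = 3 ∨ i = 4 ∨ i = 5 ∨ i = 6 ∨ i = 7 := by decide
  rcases this i with rfl | rfl | rfl | rfl | rfl | rfl | rfl | rfl <;> assumption

section Ring

variable {B Γ : Type*} [CommRing B] [Group Γ] {q : B ≃+* B} {y : ZMod 8 → B → Γ} {ρ : Γ}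

theorem rot (hρ : ∀ i k, ρ * y i k * ρ⁻¹ = y (i + 2) k) (j : ZMod 8) :
    Ev j → ∃ φ : Γ →* Γ, ∀ i k, φ (y i k) = y (j + i) k := by
  induction j using ind with
  | h0 => exact fun _ => ⟨MonoidHom.id Γ, fun i k => by rw [zero_add]; rfl⟩
  | h1 => exact fun e => absurd e (by decide)
  | st j ih =>
    intro e
    obtain ⟨φ, hφ⟩ := ih ((ev_add (by decide)).1 e)
    refine ⟨(MulAut.conj ρ).toMonoidHom.comp φ, fun i k => ?_⟩
    rw [add_right_comm, ← hρ, ← hφ]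
    rfl

theorem od {i : ZMod 8} (hi : ¬ Ev i) : ∃ j, Ev j ∧ i = j + 1 :=
  ⟨i - 1, by revert i; decide, (sub_add_cancel i 1).symm⟩

theorem u4s (two : (2 : B) = 0) (ss : ∀ s, q (q s) = s)
    (hρ : ∀ i k, ρ * y i k * ρ⁻¹ = y (i + 2) k) (junk : ∀ k, q k ≠ k → y 1 k = 1)
    (add0 : ∀ k m, y 0 (k + m) = y 0 k * y 0 m)
    (add1 : ∀ k m, q k = k → q m = m → y 1 (k + m) = y 1 k * y 1 m)
    (c01 : ∀ k m, Commute (y 0 k) (y 1 m)) (c12 : ∀ k m, Commute (y 1 k) (y 2 m))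
    (c13 : ∀ k m, Commute (y 1 k) (y 3 m))
    (c02 : ∀ k m, y 0 k * y 2 m * (y 0 k)⁻¹ = y 2 m * y 1 (k * m + q k * q m))
    (c03 : ∀ k m, q m = m → y 0 k * y 3 m * (y 0 k)⁻¹ = y 3 m * y 2 (q k * m) * y 1 (k * q k * m))
    (c41 : ∀ k m, q m = m → y 4 k * y 1 m * (y 4 k)⁻¹ = y 1 m * y 2 (q k * m) * y 3 (k * q k * m)) :
    U4S q y where
  two := two
  ss := ss
  junk i hi s hs := by
    obtain ⟨j, hj, rfl⟩ := od hi
    obtain ⟨φ, e⟩ := rot hρ j hj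
    rw [← e, junk s hs, map_one]
  adds i hi s u := by
    obtain ⟨φ, e⟩ := rot hρ i hi
    simpa only [map_mul, e, add_zero] using congrArg φ (add0 s u)
  addl i hi s u hs hu := by
    obtain ⟨j, hj, rfl⟩ := od hi
    obtain ⟨φ, e⟩ := rot hρ j hj
    simpa only [map_mul, e] using congrArg φ (add1 s u hs hu)
  c1 i s u := by
    by_cases hi : Ev i
    · obtain ⟨φ, e⟩ := rot hρ i hi
      simpa only [e, add_zero] using (c01 s u).map φ
    · obtain ⟨j, hj, rfl⟩ := od hi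
      obtain ⟨φ, e⟩ := rot hρ j hj
      rw [show j + 1 + 1 = j + 2 by ring]
      simpa only [e] using (c12 s u).map φ
  c2l i hi s u := by
    obtain ⟨j, hj, rfl⟩ := od hi
    obtain ⟨φ, e⟩ := rot hρ j hj
    rw [show j + 1 + 2 = j + 3 by ring]
    simpa only [e] using (c13 s u).map φ
  c2s i hi s u := by
    obtain ⟨φ, e⟩ := rot hρ i hi
    simpa only [map_mul, map_inv, e, add_zero] using congrArg φ (c02 s u)
  c3p i hi s u hu := by
    obtain ⟨φ, e⟩ := rot hρ i hi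
    simpa only [map_mul, map_inv, e, add_zero] using congrArg φ (c03 s u hu)
  c3m i hi s u hu := by
    obtain ⟨j, rfl⟩ : ∃ j, i = j + 4 := ⟨i - 4, (sub_add_cancel i 4).symm⟩
    obtain ⟨φ, e⟩ := rot hρ j ((ev_add (by decide)).1 hi)
    rw [show j + 4 - 3 = j + 1 by ring, show j + 4 - 2 = j + 2 by ring,
      show j + 4 - 1 = j + 3 by ring]
    simpa only [map_mul, map_inv, e] using congrArg φ (c41 s u hu)

/-- The system obtained by rotating `y 0` and `y 1`. -/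
def yr (ρ : Γ) (y : ZMod 8 → B → Γ) (i : ZMod 8) (k : B) : Γ :=
  ρ ^ (i.val / 2) * y (if Ev i then 0 else 1) k * (ρ ^ (i.val / 2))⁻¹

theorem yr_eq_1' : type_of% @yr.eq_1 := @yr.eq_1

theorem yr_0 (k : B) : yr ρ y 0 k = y 0 k := by
  rw [yr, if_pos (by decide), show (0 : ZMod 8).val / 2 = 0 from rfl, pow_zero, one_mul, inv_one,
    mul_one]

theorem yr_1 (k : B) : yr ρ y 1 k = y 1 k := by
  rw [yr, if_neg (by decide), show (1 : ZMod 8).val / 2 = 0 from rfl, pow_zero, one_mul, inv_one,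
    mul_one]

theorem yr_step (h4 : ρ ^ 4 = 1) (i : ZMod 8) (k : B) :
    ρ * yr ρ y i k * ρ⁻¹ = yr ρ y (i + 2) k := by
  have e1 : (i + 2).val / 2 = (i.val / 2 + 1) % 4 := by revert i; decide
  have e2 : ((if Ev (i + 2) then 0 else 1) : ZMod 8) = if Ev i then 0 else 1 := by
    revert i; decide
  rw [yr, yr, e1, e2, ← pow_eq_pow_mod _ h4, pow_succ']
  group

end Ring

variable {G E : Type*} [Group G] [Finite G] [Field E] [Finite E] {σ : E ≃+* E}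
  {x : ZMod 8 → E → G} {t : G}

theorem L_le (h : Hyp σ x t) : LL x ≤ C1 t := LL_le.2 fun i s => mem_C1.2 (h.tc i s).symm.eq

theorem L_cO : LL x ≤ Cs (Ot x t) := le_Cs_comm.1 (Oc_le.trans inf_le_right)

theorem rho_mem : nn σ x 0 1 * nn σ x 3 1 ∈ LL x := mul_mem (nn_mem_LL 0 1) (nn_mem_LL 3 1)

theorem rho4 (h : Sys σ x) : (nn σ x 0 1 * nn σ x 3 1) ^ 4 = 1 := by
  have r := h.rho
  have m : nn σ x 0 1 * nn σ x 3 1 ∈ LL x := rho_mem
  generalize nn σ x 0 1 * nn σ x 3 1 = ρ at r m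
  have e : Mp x x (ρ ^ 4) 1 := fun i s => by
    have : ρ ^ 4 * x i s * (ρ ^ 4)⁻¹ = ρ * (ρ * (ρ * (ρ * x i s * ρ⁻¹) * ρ⁻¹) * ρ⁻¹) * ρ⁻¹ := by
      simp only [pow_succ, pow_zero, one_mul, mul_inv_rev, mul_assoc]
    have e : ∀ i : ZMod 8, i + 2 + 2 + 2 + 2 = i := by decide
    rw [this, r, r, r, r, e]
    rfl
  exact mem_bot.1 (h.cent ▸ (⟨pow_mem m 4, e.mem_Cs⟩ : ρ ^ 4 ∈ LL x ⊓ Cs (LL x)))

variable {β : E} {hβ : σ β = β} {y : ZMod 8 → EK β → G} (h : H4b σ x t hβ y)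
include h

theorem qq (k : EK β) : qb σ hβ (qb σ hβ k) = k := by
  ext <;> simp [h.s.ss]

theorem two : (2 : EK β) = 0 := by
  rw [← map_ofNat (algebraMap E (EK β)) 2, h.s.two, map_zero]

theorem mem_RT {i : ZMod 8} (hi : i = 1 ∨ i = 3) (k : EK β) : y i k ∈ RT x t i := by
  by_cases e : qb σ hβ k = k
  · exact (h.meml i hi _).2 ⟨k, e, rfl⟩
  · rw [h.junk i hi k e]; exact one_mem _

theorem v1 (k : EK β) : y 1 k ∈ VT x t := le_ncl' (mem_RT h (.inl rfl) k)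

theorem v2 (k : EK β) : y 2 k ∈ VT x t := ((h.mem2 _).2 ⟨k, rfl⟩).1

theorem v3 (k : EK β) : y 3 k ∈ VT x t := h.le3 (mem_RT h (.inr rfl) k)

theorem n31 (k : EK β) : nn σ x 3 1 * y 1 k * (nn σ x 3 1)⁻¹ = y 1 k := by
  have m : nn σ x 3 1 ∈ LL x ⊓ Cs (rt x 1) :=
    ⟨nn_mem_LL 3 1, le_Cs_comm.1 h.s.R_le_Cs (SL_le_PA (nn_mem_SL 3 1))⟩
  rw [Gold.mem_Cs.1 (h.cP (mem_RT h (.inl rfl) k)) _ m, mul_inv_cancel_right]

theorem y0_eq (k : EK β) : y 0 k = nn σ x 3 1 * y 2 (qb σ hβ k) * (nn σ x 3 1)⁻¹ := by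
  rw [h.n0, qq h]

theorem n30 (k : EK β) : nn σ x 3 1 * y 0 k * (nn σ x 3 1)⁻¹ = y 2 (qb σ hβ k) := by
  rw [y0_eq h, h.toSys.nn_inv, ← mul_assoc, ← mul_assoc, h.toSys.nn_sq, one_mul, mul_assoc,
    h.toSys.nn_sq, mul_one]

theorem n03 (k : EK β) : nn σ x 0 1 * y 3 k * (nn σ x 0 1)⁻¹ = y 1 k := by
  rw [← h.n1, h.toSys.nn_inv, ← mul_assoc, ← mul_assoc, h.toSys.nn_sq, one_mul, mul_assoc,
    h.toSys.nn_sq, mul_one]

theorem cc (a b c : G) : a * b * c * (a * b)⁻¹ = a * (b * c * b⁻¹) * a⁻¹ := by group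

theorem step (i : ZMod 8) (k : EK β) :
    nn σ x 0 1 * nn σ x 3 1 * yr (nn σ x 0 1 * nn σ x 3 1) y i k * (nn σ x 0 1 * nn σ x 3 1)⁻¹ =
      yr (nn σ x 0 1 * nn σ x 3 1) y (i + 2) k := yr_step (rho4 h.toSys) i k

theorem yr_2 (k : EK β) : yr (nn σ x 0 1 * nn σ x 3 1) y 2 k = y 2 k := by
  have := step h 0 k
  rw [yr_0, cc h, n30 h, h.n2, qq h] at this
  exact this.symm

theorem yr_3 (k : EK β) : yr (nn σ x 0 1 * nn σ x 3 1) y 3 k = y 3 k := by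
  have := step h 1 k
  rw [yr_1, cc h, n31 h, h.n1] at this
  exact this.symm

theorem yr_4 (k : EK β) :
    yr (nn σ x 0 1 * nn σ x 3 1) y 4 k = nn σ x 0 1 * y 0 (qb σ hβ k) * (nn σ x 0 1)⁻¹ := by
  have := step h 2 k
  rw [yr_2 h, cc h, h.n0] at this
  exact this.symm

theorem gs (c03 : ∀ k m, qb σ hβ m = m → y 0 k * y 3 m * (y 0 k)⁻¹ =
    y 3 m * y 2 (qb σ hβ k * m) * y 1 (k * qb σ hβ k * m)) :
    U4S (qb σ hβ) (yr (nn σ x 0 1 * nn σ x 3 1) y) := by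
  refine u4s (two h) (qq h) (step h) (fun k e => ?_) (fun k m => ?_) (fun k m e e' => ?_)
    (fun k m => ?_) (fun k m => ?_) (fun k m => ?_) (fun k m => ?_) (fun k m e => ?_)
    (fun k m e => ?_) <;> simp only [yr_0, yr_1, yr_2 h, yr_3 h, yr_4 h]
  · exact h.junk 1 (.inl rfl) k e
  · exact h.adds 0 (.inl rfl) k m
  · exact h.addl 1 (.inl rfl) k m e e'
  · rw [y0_eq h, ← n31 h m]
    exact (h.abV _ (v2 h _) _ (v1 h m)).map (MulAut.conj (nn σ x 3 1))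
  · exact h.abV _ (v1 h _) _ (v2 h _)
  · exact h.abV _ (v1 h _) _ (v3 h _)
  · exact h.c02 k m
  · exact c03 k m e
  · have := congrArg (fun u => nn σ x 0 1 * u * (nn σ x 0 1)⁻¹) (c03 (qb σ hβ k) m e)
    beta_reduce at this
    rwa [← conj_mul, ← conj_mul, ← conj_mul, ← conj_mul, ← conj_inv, n03 h, h.n2, h.n1, qq h,
      map_mul, e, mul_comm _ k] at this

theorem res (i : ZMod 8) (s : E) :
    yr (nn σ x 0 1 * nn σ x 3 1) y i (algebraMap E (EK β) s) = x i s := by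
  induction i using ind with
  | h0 => rw [yr_0, h.res 0 (by decide)]
  | h1 => rw [yr_1, h.res 1 (by decide)]
  | st i ih => rw [← step h, ih, h.toSys.rho]

theorem st (i : ZMod 8) (k : EK β) :
    t * yr (nn σ x 0 1 * nn σ x 3 1) y i k * t⁻¹ = yr (nn σ x 0 1 * nn σ x 3 1) y i (star k) := by
  induction i using ind with
  | h0 => rw [yr_0, yr_0, h.st 0 (by decide)]
  | h1 => rw [yr_1, yr_1, h.st 1 (by decide)]
  | st i ih =>
    rw [← step h, ← step h, ← ih, ← cc h, ← cc h, mem_C1.1 (L_le h.toHyp rho_mem)]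

theorem le_of {H : Subgroup G} (hL : LL x ≤ H) (h1 : ∀ k, y 1 k ∈ H) (h2 : ∀ k, y 2 k ∈ H) :
    LL (yr (nn σ x 0 1 * nn σ x 3 1) y) ≤ H := LL_le.2 fun i k => by
  induction i using ind with
  | h0 =>
    rw [yr_0, y0_eq h]
    exact mul_mem (mul_mem (hL (nn_mem_LL 3 1)) (h2 _)) (inv_mem (hL (nn_mem_LL 3 1)))
  | h1 => rw [yr_1]; exact h1 k
  | st i ih =>
    rw [← step h]
    exact mul_mem (mul_mem (hL rho_mem) ih) (inv_mem (hL rho_mem))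

theorem cO : Ot x t ≤ Cs (LL (yr (nn σ x 0 1 * nn σ x 3 1) y)) :=
  le_Cs_comm.1 (le_of h L_cO (fun k => h.cOV (v1 h k)) fun k => h.cOV (v2 h k))

theorem LL_eq : LL (yr (nn σ x 0 1 * nn σ x 3 1) y) = LL x ⊔ RT x t 1 := by
  have m1 : ∀ k, y 1 k ∈ LL x ⊔ RT x t 1 := fun k => mem_sup_right (mem_RT h (.inl rfl) k)
  have m3 : ∀ k, y 3 k ∈ LL x ⊔ RT x t 1 := fun k => by
    rw [← h.n1]
    exact mul_mem (mul_mem (mem_sup_left (nn_mem_LL 0 1)) (m1 k))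
      (inv_mem (mem_sup_left (nn_mem_LL 0 1)))
  have m2 : ∀ (s : E) m, qb σ hβ m = m → y 2 (s • m) ∈ LL x ⊔ RT x t 1 := fun s m e => by
    have a := h.a3 (σ s) m e
    rw [h.s.ss] at a
    have := mul_mem (mul_mem (inv_mem (m3 m)) (a ▸ mul_mem (mul_mem
      (mem_sup_left (x_mem_LL 0 (σ s))) (m3 m)) (inv_mem (mem_sup_left (x_mem_LL 0 (σ s))))))
      (inv_mem (m1 ((σ s * s) • m)))
    rwa [mul_assoc (y 3 m), inv_mul_cancel_left, mul_inv_cancel_right] at this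
  refine le_antisymm (le_of h le_sup_left m1 fun k => ?_)
    (sup_le (LL_le.2 fun i s => res h i s ▸ x_mem_LL _ _) fun g hg => ?_)
  · have e : k = k.re • (1 : EK β) + k.im • (QuadraticAlgebra.omega : EK β) := by
      ext <;> simp [QuadraticAlgebra.re_one, QuadraticAlgebra.im_one]
    rw [e, h.adds 2 (.inr rfl)]
    exact mul_mem (m2 _ _ (map_one _)) (m2 _ _ (by ext <;> simp))
  · obtain ⟨k, -, rfl⟩ := (h.meml 1 (.inl rfl) g).1 hg
    rw [← yr_1 (y := y) (ρ := nn σ x 0 1 * nn σ x 3 1)]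
    exact x_mem_LL _ _

theorem nL (aut : ∀ g ∈ Ns (LL x), ∃ l ∈ LL x, ∃ τ : E ≃+* E, Acts x (l⁻¹ * g) τ) :
    C1 t ≤ Ns (LL (yr (nn σ x 0 1 * nn σ x 3 1) y)) := fun g hg => by
  obtain ⟨l, hl, τ, a⟩ := aut g (h.cn hg)
  have c : l⁻¹ * g ∈ C1 t := mul_mem (inv_mem (L_le h.toHyp hl)) hg
  have n2 := h.cn c
  have n1 : l⁻¹ * g ∈ Ns (RT x t 1) := mem_Ns_iff.2 (by
    rw [RT, cj_Rt, mem_Ns_iff.1 n2, mem_C1.1 c, mul_inv_cancel_right, Mp.cj_rt a])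
  rw [← mul_inv_cancel_left l g, LL_eq h]
  exact mul_mem (le_normalizer (mem_sup_left hl)) (mem_Ns_sup n2 n1)

end P4d

theorem H4c.h4_of {G E : Type*} [Group G] [Finite G] [Field E] [Finite E] {σ : E ≃+* E}
    {x : ZMod 8 → E → G} {t : G} {β : E} {hβ : σ β = β} {y : ZMod 8 → EK β → G}
    (h : H4c σ x t hβ y)
    (aut : ∀ g ∈ Ns (LL x), ∃ l ∈ LL x, ∃ τ : E ≃+* E, Acts x (l⁻¹ * g) τ) :
    ∃ y' : ZMod 8 → EK β → G, H4 σ x t hβ y' :=
  ⟨_, h.toH1, P4d.gs h.toH4b h.c03, P4d.res h.toH4b, P4d.st h.toH4b, P4d.cO h.toH4b,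
    P4d.nL h.toH4b aut⟩

end Cfsg.Lib.U42
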