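import Cfsg.Agent.U42.SYa
import Cfsg.Agent.U42.Fld
import Cfsg.Agent.SG2.EFf

/-! The split case: the kernel of the projection of `N(G₀)` onto the pure complement. -/

set_option autoImplicit false
set_option linter.unusedSectionVars false

namespace Cfsg.Lib.U42

open Subgroup Cfsg.Lib.Trans Cfsg.Lib.Gold

variable {G E : Type*} [Group G] [Finite G] [Field E] [Finite E] {σ : E ≃+* E}
  {x y z : ZMod 8 → E → G} {t p : G} {X P : Subgroup G}

namespace SYk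

theorem odd_mul {a b : E ≃+* E} (ha : Odd (orderOf a)) (hb : Odd (orderOf b)) :
    Odd (orderOf (a * b)) :=
  Odd.of_dvd_nat (ha.mul hb) (Commute.orderOf_mul_dvd_mul_orderOf (aut_comm a b))

theorem cj_eq (a b : E ≃+* E) : a * b * a⁻¹ = b := by rw [aut_comm a, mul_inv_cancel_right]

/-- The odd pure elements form a subgroup. -/
def OdS (y z : ZMod 8 → E → G) : Subgroup G where
  carrier := OdP y z
  one_mem' := ⟨1, 1, Nsw.one, by simp, by simp⟩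
  mul_mem' := by
    rintro p q ⟨_, _, h, a, b⟩ ⟨_, _, h', a', b'⟩
    exact ⟨_, _, h.mul h', odd_mul a a', odd_mul b b'⟩
  inv_mem' := by
    rintro p ⟨_, _, h, a, b⟩
    exact ⟨_, _, h.inv, by rwa [orderOf_inv], by rwa [orderOf_inv]⟩

theorem KP_eq : KP y z = (LL y ⊔ LL z) ⊔ OdS y z := by
  rw [← closure_eq (OdS y z)]; rfl

theorem OdS_le : OdS y z ≤ Pure y z := by
  rintro p ⟨_, _, h, -⟩
  exact .inl ⟨_, _, h⟩

theorem odd_of (h : FS0 σ x t y z X) (hp : p ∈ OdS y z) : Odd (orderOf p) := by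
  obtain ⟨a, b, h1, ha, hb⟩ := hp
  have h2 := h1.pow (orderOf a * orderOf b)
  rw [pow_mul a, pow_orderOf_eq_one, one_pow, pow_mul' b, pow_orderOf_eq_one, one_pow] at h2
  have h3 : p ^ (orderOf a * orderOf b) ∈ Cs (LL y ⊔ LL z) :=
    le_centralizer_iff.1 (sup_le (le_centralizer_iff.1 (zpowers_le.2 (Mp.mem_Cs h2.1)))
      (le_centralizer_iff.1 (zpowers_le.2 (Mp.mem_Cs h2.2)))) (mem_zpowers _)
  refine Odd.of_dvd_nat ((ha.mul hb).mul (StdSz.odd_orderOf h.odd h3))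
    (orderOf_dvd_of_pow_eq_one ?_)
  rw [pow_mul, pow_orderOf_eq_one]

theorem conj_mem {o : G} (hp : p ∈ Pure y z) (ho : o ∈ OdS y z) : p * o * p⁻¹ ∈ OdS y z := by
  obtain ⟨a, b, h1, ha, hb⟩ := ho
  rcases hp with ⟨c, d, h⟩ | ⟨c, d, h⟩
  · exact ⟨_, _, (h.mul h1).mul h.inv, by rwa [cj_eq], by rwa [cj_eq]⟩
  · exact ⟨_, _, (h.mul_nsw h1).mul h.inv, by rwa [cj_eq], by rwa [cj_eq]⟩

theorem pow_mem' {H : Subgroup G} {l : G} (hl : l ∈ H) (hp : p ∈ Ns H) (n : ℕ) :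
    (l * p) ^ n * (p ^ n)⁻¹ ∈ H := by
  induction n with
  | zero => simp
  | succ n ih =>
    have : (l * p) ^ (n + 1) * (p ^ (n + 1))⁻¹ = l * (p * ((l * p) ^ n * (p ^ n)⁻¹) * p⁻¹) := by
      rw [pow_succ', pow_succ']; group
    rw [this]
    exact mul_mem hl (mem_normalizer_conj hp ih)

theorem mem_KP (h : FS0 σ x t y z X) {d : G} (hd : d ∈ Ns (LL y ⊔ LL z)) (ho : Odd (orderOf d)) :
    d ∈ KP y z := by
  obtain ⟨l, hl, p, hp, rfl⟩ := h.toES.dec_M hd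
  have h1 := pow_mem' hl (Pure_le_M hp) (orderOf (l * p))
  rw [pow_orderOf_eq_one, one_mul, inv_mem_iff] at h1
  have h2 : p ^ orderOf (l * p) = 1 :=
    mem_bot.1 (h.toES.G0_inf ▸ mem_inf.2 ⟨h1, pow_mem hp _⟩)
  rw [KP_eq]
  refine mul_mem_sup hl ?_
  rcases hp with ⟨a, b, h3⟩ | ⟨a, b, h3⟩
  · obtain ⟨e1, e2⟩ := h.toES.nsw_uniq (h2 ▸ h3.pow _) Nsw.one
    exact ⟨a, b, h3, ho.of_dvd_nat (orderOf_dvd_of_pow_eq_one e1),
      ho.of_dvd_nat (orderOf_dvd_of_pow_eq_one e2)⟩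
  · obtain ⟨k, hk⟩ := ho
    refine absurd ?_ (h.toES.swp_not h3)
    have := pow_mem (h3.mul h3).mem_Ns (k + 1)
    rwa [← pow_two, ← pow_mul, show 2 * (k + 1) = 2 * k + 1 + 1 by ring, ← hk, pow_succ, h2,
      one_mul] at this

end SYk

open SYk

theorem FS0.KP_inf (h : FS0 σ x t y z X) (hP : PC t y z P) : KP y z ⊓ P = ⊥ := by
  refine eq_bot_iff.2 fun g hg => ?_
  obtain ⟨h1, h2⟩ := mem_inf.1 hg
  rw [KP_eq, ← SetLike.mem_coe,
    coe_mul_of_right_le_normalizer_left _ _ (OdS_le.trans Pure_le_M)] at h1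
  obtain ⟨l, hl, o, ho, rfl⟩ := h1
  have h3 : l = 1 := mem_bot.1 (h.toES.G0_inf ▸ mem_inf.2 ⟨hl, by
    simpa using mul_mem (hP.le_pure h2) (inv_mem (OdS_le ho))⟩)
  subst h3
  simp only [one_mul] at h2 ⊢
  obtain ⟨k, hk⟩ := Comp.Tw.of_mem hP.two h2
  exact mem_bot.2 (orderOf_eq_one_iff.1 (Nat.Coprime.eq_one_of_dvd
    ((Nat.coprime_two_right.2 (odd_of h ho)).pow_right k) (orderOf_dvd_of_pow_eq_one hk)))

theorem FS0.KP_Ns (h : FS0 σ x t y z X) : Ns (LL y ⊔ LL z) ≤ Ns (KP y z) := fun m hm => by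
  obtain ⟨l, hl, p, hp, rfl⟩ := h.toES.dec_M hm
  refine mul_mem (le_normalizer (mem_sup_left hl)) (mem_normalizer_of_cj_le ?_)
  rw [KP_eq, cj_sup, cj_eq_of_mem_normalizer (Pure_le_M hp)]
  exact sup_le_sup_left (cj_le_iff.2 fun _ => conj_mem hp) _

theorem FS0.KP_sup (h : FS0 σ x t y z X) (hP : PC t y z P) : KP y z ⊔ P = Ns (LL y ⊔ LL z) := by
  refine le_antisymm (sup_le ?_ (le_sup_right.trans hP.le_M)) fun d hd => ?_
  · rw [KP_eq]; exact sup_le le_normalizer (OdS_le.trans Pure_le_M)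
  obtain ⟨s, hs, c, hc, -, rfl⟩ := (hP.syl.mono hP.le_M le_top).exists_mul_eq
    (fun d hd ho => mem_KP h hd (Nat.coprime_two_right.1 ho)) hd
  exact mul_mem (sup_le_sup_right (UU2_le.trans le_sup_left) P hs) (mem_sup_left hc)

theorem FS0.KP_le (h : FS0 σ x t y z X) : KP y z ≤ X := by
  rw [KP_eq]
  exact sup_le h.le fun p hp => h.top.ef_odd h.t2 (odd_of h hp)

end Cfsg.Lib.U42
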